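import Groth.Agent.AVThetaLib.Exist
import Groth.Agent.AVAmpleLib.KLPoints

/-!
`K(L)` exists, for all test schemes.
-/

set_option autoImplicit false
set_option maxHeartbeats 1000000
set_option maxRecDepth 8000
set_option backward.isDefEq.respectTransparency false
set_option linter.style.haveILetI false
set_option linter.unusedSectionVars false

noncomputable section

universe u

open CategoryTheory CategoryTheory.Limits MonoidalCategory CartesianMonoidalCategory MonObj AlgebraicGeometry
open ThetaGrp CubeConsLib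

namespace AVThetaLib

variable {k : Type u} [Field k] {A : Over (Spec (CommRingCat.of k))} [GrpObj A] [IsProper A.hom]
  [GeometricallyIntegral A.hom] {L : A.left.Modules} (hL : PicF.IsInvertible L)

include hL in
theorem exists_isKL : ∃ (K : Over (Spec (CommRingCat.of k))) (i : K ⟶ A), IsKL A L i := by
  obtain ⟨K₀, i₀, hi₀, hzero₀, huniv₀⟩ := AVAmpleLib.exists_KL_noeth hL
  haveI : IsLocallyNoetherian A.left := LocallyOfFiniteType.isLocallyNoetherian A.hom
  haveI : Flat A.hom := inferInstance
  let q : pullback A.hom A.hom ⟶ A.left := Limits.pullback.snd A.hom A.hom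
  haveI : IsProper q := MorphismProperty.pullback_snd (P := @IsProper) _ _ ‹IsProper A.hom›
  haveI : Flat q := MorphismProperty.pullback_snd (P := @Flat) _ _ ‹Flat A.hom›
  haveI : GeometricallyIntegral q := inferInstanceAs (GeometricallyIntegral (Limits.pullback.snd A.hom A.hom))
  haveI : LocallyOfFinitePresentation q := LocallyOfFinitePresentation.iff_locallyOfFiniteType.2 inferInstance
  let m : A ⊗ A ⟶ A := fst A A * snd A A
  have hm : PicF.IsInvertible ((Scheme.Modules.pullback m.left).obj L) := AmpleDevLib.isInvertible_pb _ hL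
  have h₁ : PicF.IsInvertible ((Scheme.Modules.pullback (fst A A).left).obj L) := AmpleDevLib.isInvertible_pb _ hL
  have h₂ : PicF.IsInvertible ((Scheme.Modules.pullback (snd A A).left).obj L) := AmpleDevLib.isInvertible_pb _ hL
  let D : (pullback A.hom A.hom).Modules := CohB1.tensorMod (CohB1.tensorMod ((Scheme.Modules.pullback m.left).obj L)
    (MiscFlat6.dual ((Scheme.Modules.pullback (fst A A).left).obj L)))
    (MiscFlat6.dual ((Scheme.Modules.pullback (snd A A).left).obj L))
  have hD : PicF.IsInvertible D := HilbPolyLib.isInvertible_tensor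
    (HilbPolyLib.isInvertible_tensor hm (MiscFlat6.dual_isInvertible h₁)) (MiscFlat6.dual_isInvertible h₂)
  have eD : (clA hD : PicA (A ⊗ A).left) = P hL m - P hL (fst A A) - P hL (snd A A) := by
    rw [P_eq, P_eq, P_eq, sub_eq_add_neg, sub_eq_add_neg, ← clA_dual, ← clA_dual, ← clA_tensor, ← clA_tensor]
  have eT : ∀ (T : Over (Spec (CommRingCat.of k))) (z : T ⟶ A),
      pullA (lift (fst A T) (snd A T ≫ z)).left (clA hD) =
        P hL (fst A T * (snd A T ≫ z)) - P hL (fst A T) - P hL (snd A T ≫ z) := by
    intro T z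
    rw [eD, map_sub, map_sub, pullA_P, pullA_P, pullA_P, lift_fst, lift_snd, MonObj.comp_mul, lift_fst, lift_snd]
  obtain ⟨Z, ι', hι, -, -, hiff, -⟩ := SeesawLib.exists_seesaw (CubeLib.univO_of_geometricallyIntegral q)
    (fun s => inferInstance) (SeesawLib.isFinLocFree_of_rank ((CohCmpLib.invertible_iff_rank_one D).1 hD))
  have hfwd : ∀ (T : Over (Spec (CommRingCat.of k))) (z : T ⟶ A), MumfordZero hL z →
      ∃ u' : T.left ⟶ Z, u' ≫ ι' = z.left := by
    intro T z hz
    let ψ : pullback q z.left ⟶ (A ⊗ T).left :=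
      Limits.pullback.lift (Limits.pullback.fst q z.left ≫ Limits.pullback.fst A.hom A.hom)
        (Limits.pullback.snd q z.left) (by
          rw [Category.assoc, Limits.pullback.condition, Limits.pullback.condition_assoc, Over.w z])
    have hψ : ψ ≫ (lift (fst A T) (snd A T ≫ z)).left = Limits.pullback.fst q z.left := by
      apply Limits.pullback.hom_ext (f := A.hom) (g := A.hom)
      · rw [Category.assoc]
        show ψ ≫ (lift (fst A T) (snd A T ≫ z)).left ≫ (fst A A).left = _
        rw [← Over.comp_left, lift_fst]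
        exact Limits.pullback.lift_fst _ _ _
      · rw [Category.assoc]
        show ψ ≫ (lift (fst A T) (snd A T ≫ z)).left ≫ (snd A A).left = _
        rw [← Over.comp_left, lift_snd, Over.comp_left, ← Category.assoc]
        exact (congrArg (· ≫ z.left) (Limits.pullback.lift_snd _ _ _)).trans
          (Limits.pullback.condition (f := q) (g := z.left)).symm
    have e0 : pullA (lift (fst A T) (snd A T ≫ z)).left (clA hD) = 0 := by
      rw [eT, show P hL (fst A T * (snd A T ≫ z)) = P hL (fst A T) + P hL (snd A T ≫ z) from hz]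
      abel
    have e1 := congrArg (pullA ψ) e0
    rw [map_zero, pullA_comp, hψ] at e1
    refine (hiff T.left z.left).2 ⟨Coh.structureModule T.left,
      SeesawLib.isFinLocFree_of_rank (CohCmpLib.rank_one_structureModule _), ?_⟩
    rw [← clA_eq_iff (AmpleDevLib.isInvertible_pb _ hD) (AmpleDevLib.isInvertible_pb _ (isInvertible_one _)),
      ← pullA_clA _ hD, ← pullA_clA _ (isInvertible_one _), clA_one, map_zero]
    exact e1
  have hback : ∀ (T : Over (Spec (CommRingCat.of k))) (z : T ⟶ A),
      (∃ u' : T.left ⟶ Z, u' ≫ ι' = z.left) → MumfordZero hL z := by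
    intro T z hu
    obtain ⟨M, hM1, ⟨e⟩⟩ := (hiff T.left z.left).1 hu
    have hM : PicF.IsInvertible M := by
      refine (CohCmpLib.invertible_iff_rank_one M).2 ?_
      intro t
      obtain ⟨U, n, htU, ⟨b⟩⟩ := hM1 t
      obtain ⟨w, hw⟩ := (Limits.pullback.snd q z.left).surjective t
      have ht : t ∈ SeesawLib.RankSet M n := by
        refine (SeesawLib.mem_rankSet_pullback_iff hM1 U.ι ⟨t, htU⟩ n).1 ?_
        exact SeesawLib.rankSet_of_iso (b.symm ≪≫ (Scheme.Modules.restrictFunctorIsoPullback U.ι).app M)
          (SeesawLib.rankSet_freeMod _ _ _)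
      have h1 : w ∈ SeesawLib.RankSet ((Scheme.Modules.pullback (Limits.pullback.snd q z.left)).obj M) n :=
        (SeesawLib.mem_rankSet_pullback_iff hM1 _ w n).2 (hw.symm ▸ ht)
      obtain rfl := SeesawLib.rankSet_unique (SeesawLib.rankSet_of_iso e.symm h1)
        (SeesawLib.rankSet_of_rank (SeesawLib.isFinLocFreeOfRank_pullback (Limits.pullback.fst q z.left)
          ((CohCmpLib.invertible_iff_rank_one D).1 hD)) w)
      exact ⟨U, htU, ⟨b⟩⟩
    let φ : (A ⊗ T).left ⟶ pullback q z.left :=
      Limits.pullback.lift (lift (fst A T) (snd A T ≫ z)).left (snd A T).left (by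
        have := congrArg Over.Hom.left (lift_snd (fst A T) (snd A T ≫ z))
        rw [Over.comp_left, Over.comp_left] at this
        exact this)
    have e' : pullA (Limits.pullback.fst q z.left) (clA hD) = pullA (Limits.pullback.snd q z.left) (clA hM) := by
      rw [pullA_clA, pullA_clA, clA_eq_iff]
      exact ⟨e⟩
    have e2 := congrArg (pullA φ) e'
    rw [pullA_comp, pullA_comp, Limits.pullback.lift_fst, Limits.pullback.lift_snd] at e2
    replace e2 := (eT T z).symm.trans e2
    have e3 := congrArg (pullA (lift (1 : T ⟶ A) (𝟙 T)).left) e2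
    rw [map_sub, map_sub, pullA_P, pullA_P, pullA_P, pullA_comp, ← Over.comp_left, lift_snd, Over.id_left, pullA_id,
      MonObj.comp_mul, lift_fst, lift_snd_assoc, Category.id_comp, _root_.one_mul, P_zero hL, sub_zero, sub_self] at e3
    rw [← e3, map_zero] at e2
    rw [MumfordZero, ← sub_eq_zero, ← sub_sub]
    exact e2
  let K' : Over (Spec (CommRingCat.of k)) := Over.mk (ι' ≫ A.hom)
  let i' : K' ⟶ A := Over.homMk ι' rfl
  haveI : IsLocallyNoetherian K'.left := LocallyOfFiniteType.isLocallyNoetherian (ι' ≫ A.hom)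
  have hi' : MumfordZero hL i' := hback K' i' ⟨𝟙 Z, Category.id_comp _⟩
  obtain ⟨y', hy'⟩ := huniv₀ K' ‹_› i' hi'
  refine ⟨K₀, i₀, hi₀, fun T z => ⟨fun h => ?_, fun ⟨y, hy⟩ => ?_⟩⟩
  · obtain ⟨u', hu'⟩ := hfwd T z ((mumfordTriv_iff hL z).1 h)
    refine ⟨(Over.homMk u' (show u' ≫ ι' ≫ A.hom = T.hom by rw [← Category.assoc, hu']; exact Over.w z) : T ⟶ K') ≫
      y', ?_⟩
    rw [Category.assoc, hy']
    exact Over.OverMorphism.ext hu'
  · rw [mumfordTriv_iff hL, ← hy]
    exact mumfordZero_comp hL hzero₀ y

end AVThetaLib
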