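import Groth.Agent.AVThetaLib.Push
import Groth.Prelude.Def_AlgGrp

/-!
The canonical level structure on the kernel of a descent.
-/

set_option autoImplicit false
set_option maxHeartbeats 1000000
set_option maxRecDepth 8000
set_option backward.isDefEq.respectTransparency false
set_option linter.style.haveILetI false
set_option linter.unusedSectionVars false

noncomputable section

universe u

open CategoryTheory CategoryTheory.Limits MonoidalCategory CartesianMonoidalCategory MonObj AlgebraicGeometry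
open Pseudofunctor Bicategory ThetaGrp

namespace AVThetaLib

theorem isMonHom_of_mul {C : Type*} [Category C] [CartesianMonoidalCategory C] {X Y : C} [GrpObj X] [GrpObj Y]
    (f : X ⟶ Y) (h : ∀ (T : C) (x y : T ⟶ X), (x * y) ≫ f = (x ≫ f) * (y ≫ f)) : IsMonHom f where
  one_hom := by
    have h1 := h (𝟙_ C) 1 1
    rw [_root_.mul_one, left_eq_mul] at h1
    simpa [MonObj.one_eq_one] using h1
  mul_hom := by
    have h1 := h (X ⊗ X) (fst X X) (snd X X)
    rw [Hom.mul_def, Hom.mul_def, lift_fst_snd, Category.id_comp] at h1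
    rw [h1]
    congr 1
    ext <;> simp

instance cart_vert {B : Scheme.{u}} {M N : B.Modules} (φ : M ⟶ N) [IsIso φ] :
    Cart (vert (F := modPF) (B := B) φ) :=
  ⟨IsIso.comp_isIso' (C := modPF.{u}.obj ⟨Opposite.op B⟩) ‹IsIso φ› inferInstance⟩

variable {S : Scheme.{u}} {A B : Over S} [GrpObj A] [GrpObj B] (f : A ⟶ B) [IsMonHom f]
  {L : A.left.Modules} {M : B.left.Modules} (e : (Scheme.Modules.pullback f.left).obj M ≅ L) {T U : Over S}

/-- The composite `(A × T, L_T) ⟶ (B, M)`. -/
def dq (T : Over S) : thetaObj A L T ⟶ O₀ B M :=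
  π A L T ≫ (vert (F := modPF) (B := A.left) e.inv ≫ proj f.left M)

instance cart_dq (T : Over S) : Cart (dq f e T) :=
  @cart_comp _ _ _ _ _ _ (π A L T) (vert (F := modPF) (B := A.left) e.inv ≫ proj f.left M) _
    (@cart_comp _ _ _ _ _ _ (vert (F := modPF) (B := A.left) e.inv) (proj f.left M) (cart_vert _) inferInstance)

theorem dq_base (T : Over S) : (dq f e T).base = (fst A T ≫ f).left := by
  show (fst A T).left ≫ 𝟙 A.left ≫ f.left = _
  rw [Category.id_comp, Over.comp_left]

theorem bcLift_dq (g : U ⟶ T) : bcLift A L g ≫ dq f e T = dq f e U := by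
  unfold dq
  rw [← Category.assoc, bcLift_π]

theorem exists_lift_dq (x : T ⟶ A) (hx : x ≫ f = 1) :
    ∃ α : thetaPts A L T, pt α = x ∧ α.1.hom ≫ dq f e T = dq f e T := by
  refine exists_pts (dq f e T) (dq f e T) x ?_
  rw [dq_base, ← Over.comp_left]
  congr 1
  rw [← Category.assoc, transl_fst, MonObj.mul_comp, Category.assoc, hx, MonObj.comp_one, _root_.mul_one]

/-- The canonical point over a point of the kernel. -/
def dlift (x : T ⟶ A) (hx : x ≫ f = 1) : thetaPts A L T := (exists_lift_dq f e x hx).choose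

theorem pt_dlift (x : T ⟶ A) (hx : x ≫ f = 1) : pt (dlift f e x hx) = x :=
  (exists_lift_dq f e x hx).choose_spec.1

theorem dlift_comm (x : T ⟶ A) (hx : x ≫ f = 1) : (dlift f e x hx).1.hom ≫ dq f e T = dq f e T :=
  (exists_lift_dq f e x hx).choose_spec.2

theorem eq_dlift {α : thetaPts A L T} (x : T ⟶ A) (hx : x ≫ f = 1) (h1 : pt α = x)
    (h2 : α.1.hom ≫ dq f e T = dq f e T) : α = dlift f e x hx :=
  pts_ext' (dq f e T) (by rw [h1, pt_dlift]) (h2.trans (dlift_comm f e x hx).symm)

theorem dlift_mul [IsCommMonObj A] (x y : T ⟶ A) (hx : x ≫ f = 1) (hy : y ≫ f = 1) (hxy : (x * y) ≫ f = 1) :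
    dlift f e (x * y) hxy = dlift f e x hx * dlift f e y hy :=
  (eq_dlift f e (x * y) hxy (by rw [pt_mul, pt_dlift, pt_dlift, mul_comm])
    (by rw [mul_hom, Category.assoc, dlift_comm, dlift_comm])).symm

theorem bc_dlift (g : U ⟶ T) (x : T ⟶ A) (hx : x ≫ f = 1) (hgx : (g ≫ x) ≫ f = 1) :
    bc g (dlift f e x hx) = dlift f e (g ≫ x) hgx := by
  refine eq_dlift f e _ hgx (by rw [pt_bc, pt_dlift]) ?_
  rw [← bcLift_dq f e g, ← Category.assoc, bc_comm, Category.assoc, dlift_comm]

variable {N : Over S} [GrpObj N] {i : N ⟶ A} [IsMonHom i]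

omit [IsMonHom i] in
theorem kernel_comp (hN : AlgGrp.IsKernel i f) (n : T ⟶ N) : (n ≫ i) ≫ f = 1 := by
  rw [Category.assoc, hN.w, ← Category.assoc, Subsingleton.elim (n ≫ toUnit N) (toUnit T), MonObj.one_eq_one,
    MonObj.comp_one]

theorem mono_of_isKernel (hN : AlgGrp.IsKernel i f) : Mono i :=
  ⟨fun a b h => hN.hom_ext h (Subsingleton.elim _ _)⟩

include e in
/-- A descent gives a level structure over the kernel. -/
theorem exists_level_of_descent [IsCommMonObj A] (hN : AlgGrp.IsKernel i f) [IsClosedImmersion i.left]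
    {G : Over S} [GrpObj G] {u : thetaPts A L G} (hG : IsThetaGrpSch A L G u) :
    ∃ j : N ⟶ G, IsMonHom j ∧ IsLevelSubgrp u j ∧
      ∀ (T : Over S) (n : T ⟶ N) (β : thetaPts A L T),
        ThetaGrp.IsBaseChange β (n ≫ j) u → IsOverPt β (n ≫ i) := by
  have hi : i ≫ f = 1 := by simpa using kernel_comp f hN (𝟙 N)
  obtain ⟨j, hj, -⟩ := hG.univ N (dlift f e i hi)
  rw [isBaseChange_iff] at hj
  have key : ∀ (T : Over S) (n : T ⟶ N), bc (n ≫ j) u = dlift f e (n ≫ i) (kernel_comp f hN n) := fun T n => by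
    rw [← bc_bc, ← hj, bc_dlift f e n i hi (kernel_comp f hN n)]
  have hover : ∀ (T : Over S) (n : T ⟶ N) (β : thetaPts A L T),
      ThetaGrp.IsBaseChange β (n ≫ j) u → IsOverPt β (n ≫ i) := fun T n β h => by
    rw [isBaseChange_iff, key] at h
    rw [isOverPt_iff, h, pt_dlift]
  have hmon : IsMonHom j := isMonHom_of_mul j fun T x y => by
    refine (hG.univ T (bc ((x * y) ≫ j) u)).unique (isBaseChange_iff.2 rfl) ?_
    have h1 := hG.mul T (x ≫ j) (y ≫ j) _ _ (isBaseChange_iff.2 (rfl : bc (x ≫ j) u = _))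
      (isBaseChange_iff.2 (rfl : bc (y ≫ j) u = _))
    have hxy : ((x ≫ i) * (y ≫ i)) ≫ f = 1 := by rw [← MonObj.mul_comp]; exact kernel_comp f hN (x * y)
    rw [key, key, ← dlift_mul f e (x ≫ i) (y ≫ i) _ _ hxy] at h1
    rw [key]
    convert h1 using 2
    exact MonObj.mul_comp x y i
  refine ⟨j, hmon, ⟨?_, hmon, ?_⟩, hover⟩
  · have : j ≫ pt u = i := by
      rw [← pt_bc, ← hj, pt_dlift]
    haveI : IsImmersion (j.left ≫ (pt u).left) := by
      rw [← Over.comp_left, this]; infer_instance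
    exact IsImmersion.of_comp j.left (pt u).left
  · intro T h β hβ h1
    have h2 := pt_eq_of_isOverPt (hover T h β hβ)
    rw [pt_eq_of_isOverPt h1] at h2
    haveI := mono_of_isKernel f hN
    rw [← cancel_mono i, ← h2, MonObj.one_comp]

end AVThetaLib
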