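import Groth.Agent.AVThetaLib.Central
import Groth.Agent.CubeConsLib.Theta
import Groth.Agent.SeesawLib.Main

/-!
Which translations lift to points of the theta group.
-/

set_option autoImplicit false
set_option maxHeartbeats 1000000
set_option maxRecDepth 8000
set_option backward.isDefEq.respectTransparency false
set_option linter.style.haveILetI false
set_option linter.unusedSectionVars false

noncomputable section

universe u

open CategoryTheory CategoryTheory.Limits MonoidalCategory CartesianMonoidalCategory MonObj AlgebraicGeometry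
open Pseudofunctor Bicategory ThetaGrp CubeConsLib

namespace AVThetaLib

variable {k : Type u} [Field k] {A : Over (Spec (CommRingCat.of k))} [GrpObj A]
  {L : A.left.Modules} {T U : Over (Spec (CommRingCat.of k))}

variable (hL : PicF.IsInvertible L)

theorem exists_pts_iff (x : T ⟶ A) :
    (∃ α : thetaPts A L T, pt α = x) ↔ P hL (fst A T * (snd A T ≫ x)) = P hL (fst A T) := by
  constructor
  · rintro ⟨α, rfl⟩
    haveI := cart_hom α
    have hb : (α.1.hom ≫ π A L T).base = (fst A T * (snd A T ≫ pt α)).left := by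
      rw [CoGrothendieck.categoryStruct_comp_base, base_eq]
      show (transl A (pt α)).left ≫ (fst A T).left = _
      rw [← Over.comp_left, transl_fst]
    rw [P_eq, P_eq, clA_eq_iff]
    have key : ∀ (b : (A ⊗ T).left ⟶ A.left) (_ : b = (fst A T * (snd A T ≫ pt α)).left)
        (φ : (Scheme.Modules.pullback (fst A T).left).obj L ⟶ (Scheme.Modules.pullback b).obj L) [IsIso φ],
        Nonempty ((Scheme.Modules.pullback (fst A T * (snd A T ≫ pt α)).left).obj L ≅
          (Scheme.Modules.pullback (fst A T).left).obj L) := by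
      rintro b rfl φ _
      exact ⟨(asIso φ).symm⟩
    exact @key _ hb (α.1.hom ≫ π A L T).fiber (cart_comp α.1.hom (π A L T)).iso
  · intro h
    obtain ⟨e⟩ := P_iso hL h.symm
    let g : thetaObj A L T ⟶ O₀ A L := ⟨(fst A T * (snd A T ≫ x)).left, e.hom⟩
    haveI : Cart g := ⟨inferInstanceAs (IsIso e.hom)⟩
    obtain ⟨α, hα, -⟩ := exists_pts (π A L T) g x (by
      show _ ≫ (fst A T).left = _
      rw [← Over.comp_left, transl_fst])
    exact ⟨α, hα⟩

theorem exists_pts_of_mumfordZero {x : T ⟶ A} (hx : MumfordZero hL x) (h0 : P hL x = 0) :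
    ∃ α : thetaPts A L T, pt α = x := by
  rw [exists_pts_iff hL, hx, ← pullA_P hL, h0, map_zero, add_zero]

theorem mumfordZero_comp {x : T ⟶ A} (hx : MumfordZero hL x) (g : U ⟶ T) : MumfordZero hL (g ≫ x) := by
  have h := congrArg (pullA (A ◁ g).left) hx
  simpa only [map_add, pullA_P, MonObj.comp_mul, whiskerLeft_fst, whiskerLeft_snd_assoc, Category.assoc,
    MumfordZero] using h

theorem mumfordZero_of_pts [IsProper A.hom] [GeometricallyIntegral A.hom] (α : thetaPts A L T) :
    MumfordZero hL (pt α) := by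
  have h := (exists_pts_iff hL (pt α)).1 ⟨α, rfl⟩
  have h1 : P hL (fst A T * (snd A T ≫ pt α)) =
      P hL (fst A T) + pullA (snd A T).left (clA (isInvertible_one T.left)) := by
    rw [h, clA_one, map_zero, add_zero]
  have h2 := eq_of_translate hL _ (isInvertible_one T.left) h1
  rw [clA_one] at h2
  rw [MumfordZero, h, ← pullA_P hL, ← h2, map_zero, add_zero]

theorem exists_open_P_zero (x : T ⟶ A) (t : T.left) :
    ∃ V : T.left.Opens, t ∈ V ∧
      P hL ((Over.homMk V.ι rfl : Over.mk (V.ι ≫ T.hom) ⟶ T) ≫ x) = 0 := by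
  obtain ⟨V, htV, ⟨e⟩⟩ := AmpleDevLib.isInvertible_pb x.left hL t
  refine ⟨V, htV, ?_⟩
  rw [← pullA_P hL, P_eq]
  show pullA V.ι _ = (0 : PicA (V : Scheme.{u}))
  rw [pullA_clA, ← clA_one, clA_eq_iff]
  exact ⟨((Scheme.Modules.restrictFunctorIsoPullback V.ι).app _).symm ≪≫ e⟩

/-- Over points of `K(L)` there are points of the theta group locally. -/
theorem exists_local_pts {x : T ⟶ A} (hx : MumfordZero hL x) (t : T.left) :
    ∃ (V : T.left.Opens), t ∈ V ∧ ∃ α : thetaPts A L (Over.mk (V.ι ≫ T.hom)),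
      pt α = (Over.homMk V.ι rfl : Over.mk (V.ι ≫ T.hom) ⟶ T) ≫ x := by
  obtain ⟨V, htV, hV⟩ := exists_open_P_zero hL x t
  exact ⟨V, htV, exists_pts_of_mumfordZero hL (mumfordZero_comp hL hx _) hV⟩

variable [IsProper A.hom] [GeometricallyIntegral A.hom]

include hL in
theorem factors_of_local_pts {K : Over (Spec (CommRingCat.of k))} {iK : K ⟶ A} (hK : IsKL A L iK) (x : T ⟶ A)
    (h : ∀ t : T.left, ∃ (V : T.left.Opens), t ∈ V ∧ ∃ α : thetaPts A L (Over.mk (V.ι ≫ T.hom)),
      pt α = (Over.homMk V.ι rfl : Over.mk (V.ι ≫ T.hom) ⟶ T) ≫ x) :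
    ∃ y : T ⟶ K, y ≫ iK = x := by
  haveI := hK.closed
  obtain ⟨l, hl⟩ := SeesawLib.exists_hom_of_cover iK.left x.left fun t => by
    obtain ⟨V, htV, α, hα⟩ := h t
    obtain ⟨y, hy⟩ := (hK.univ _ _).1 ((mumfordTriv_iff hL _).2 (mumfordZero_of_pts hL α))
    rw [hα] at hy
    exact ⟨V, htV, y.left, congrArg Over.Hom.left hy⟩
  exact ⟨Over.homMk l (by rw [← Over.w iK, reassoc_of% hl, Over.w]), Over.OverMorphism.ext hl⟩

include hL in
theorem mumfordZero_of_factors {K : Over (Spec (CommRingCat.of k))} {iK : K ⟶ A} (hK : IsKL A L iK) {x : T ⟶ A}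
    (h : ∃ y : T ⟶ K, y ≫ iK = x) : MumfordZero hL x :=
  (mumfordTriv_iff hL x).1 ((hK.univ T x).2 h)

end AVThetaLib
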