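import Groth.Agent.AVThetaLib.Scalar
import Groth.Agent.SeesawLib.OpenBC
import Groth.Agent.CubeLib.Glue
import Groth.Agent.MiscFlat6.SectionDescent

/-!
Gluing morphisms of modules given on the members of an open cover, in the language of pairs.
-/

set_option autoImplicit false
set_option maxHeartbeats 1000000
set_option maxRecDepth 8000
set_option backward.isDefEq.respectTransparency false
set_option linter.style.haveILetI false
set_option linter.unusedSectionVars false

noncomputable section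

universe u v

open CategoryTheory CategoryTheory.Limits AlgebraicGeometry TopologicalSpace Opposite
open Pseudofunctor Bicategory
open KFlatLib (pb puSec puSecLE)
open AmpleLib (res)

namespace AVThetaLib

variable {X : Scheme.{u}}

theorem puSecLE_ι_bijective (W : X.Opens) (M : X.Modules) {U : X.Opens} (hU : U ≤ W) :
    Function.Bijective (puSecLE W.ι M (le_refl (W.ι ⁻¹ᵁ U))) :=
  SeesawLib.puSecLE_bijective W.ι M _ (by
    rw [Scheme.Hom.image_preimage_eq_opensRange_inf, Scheme.Opens.opensRange_ι, inf_eq_right.2 hU])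

theorem eqToHom_pullback {W : Scheme.{u}} {f g : W ⟶ X} (h : f = g) (N : X.Modules) :
    eqToHom (congrArg (fun t => (Scheme.Modules.pullback t).obj N) h) =
      (Scheme.Modules.pullbackCongr h).hom.app N := by
  subst h
  simp [Scheme.Modules.pullbackCongr]

/-- The module part of a composite with a change of chart. -/
theorem fiber_bcProj_comp {V W : Scheme.{u}} (b : V ⟶ W) (g : W ⟶ X) (h : V ⟶ X) (e : h = b ≫ g)
    (M N : X.Modules) (φ : pb g M ⟶ pb g N) (ψ : pb h M ⟶ pb h N)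
    (hψ : bcProj b g h e M ≫ (⟨g, φ⟩ : mobj W (pb g M) ⟶ mobj X N) = (⟨h, ψ⟩ : mobj V (pb h M) ⟶ mobj X N))
    {U : X.Opens} (m : Γ(M, U)) (n : Γ(N, U))
    (hn : φ.app _ (puSecLE g M (le_refl (g ⁻¹ᵁ U)) m) = puSecLE g N (le_refl (g ⁻¹ᵁ U)) n) :
    ψ.app _ (puSecLE h M (le_refl (h ⁻¹ᵁ U)) m) = puSecLE h N (le_refl (h ⁻¹ᵁ U)) n := by
  subst e
  have e' := CoGrothendieck.Hom.congr hψ.symm
  have e'' : ψ = ((Scheme.Modules.pullbackCongr rfl).hom.app M ≫ (Scheme.Modules.pullbackComp b g).inv.app M) ≫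
      (Scheme.Modules.pullback b).map φ ≫ (Scheme.Modules.pullbackComp b g).hom.app N := by
    simp only [CoGrothendieck.categoryStruct_comp_fiber, eqToHom_refl, Category.comp_id] at e'
    exact e'
  rw [e'']
  show ((Scheme.Modules.pullbackComp b g).hom.app N).app _ (((Scheme.Modules.pullback b).map φ).app _
    (((Scheme.Modules.pullbackComp b g).inv.app M).app _
      (((Scheme.Modules.pullbackCongr rfl).hom.app M).app _ (puSecLE (b ≫ g) M _ m)))) = _
  rw [MiscFlat6.pullbackCongr_puSecLE rfl M m le_rfl le_rfl,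
    MiscFlat6.pullbackComp_inv_puSecLE b g M m (le_refl (g ⁻¹ᵁ U)) (le_refl _ : (b ≫ g) ⁻¹ᵁ U ≤ b ⁻¹ᵁ (g ⁻¹ᵁ U)) le_rfl,
    CohCmpLib.puSecLE_natural, hn, CohCmpLib.pullbackComp_puSecLE]

variable {M N : X.Modules} {ι : Type v}

theorem exists_glue' {V : X.Opens} (W : ι → X.Opens) (hle : ∀ i, W i ≤ V) (hcov : ∀ x ∈ V, ∃ i, x ∈ W i)
    (a : ∀ i, Γ(N, W i))
    (h : ∀ i j, res N (inf_le_left : W i ⊓ W j ≤ W i) (a i) = res N (inf_le_right : W i ⊓ W j ≤ W j) (a j)) :
    ∃ g : Γ(N, V), ∀ i, res N (hle i) g = a i := by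
  obtain ⟨g, hg, -⟩ := TopCat.Sheaf.existsUnique_gluing'
    ((QCohLib.toAbF X).obj N : TopCat.Sheaf AddCommGrpCat _) W V (fun i => homOfLE (hle i))
    (fun x hx => Opens.mem_iSup.mpr (hcov x hx)) a (fun i j => h i j)
  exact ⟨g, hg⟩

/-- Vertical gluing. -/
theorem exists_glue_vert (W : ι → X.Opens) (hW : ∀ x : X, ∃ i, x ∈ W i)
    (k : ∀ i, mobj (W i : Scheme.{u}) (pb (W i).ι M) ⟶ mobj X N) (hk : ∀ i, (k i).base = (W i).ι)
    (compat : ∀ i j, bcProj (X.homOfLE (inf_le_left : W i ⊓ W j ≤ W i)) (W i).ι (W i ⊓ W j).ι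
        (Scheme.homOfLE_ι _ inf_le_left).symm M ≫ k i =
      bcProj (X.homOfLE (inf_le_right : W i ⊓ W j ≤ W j)) (W j).ι (W i ⊓ W j).ι (Scheme.homOfLE_ι _ inf_le_right).symm M ≫ k j) :
    ∃ φ : M ⟶ N, ∀ i, proj (W i).ι M ≫ vert (F := ThetaGrp.modPF) (B := X) φ = k i := by
  have hex : ∀ i, ∃ φ : pb (W i).ι M ⟶ pb (W i).ι N,
      k i = (⟨(W i).ι, φ⟩ : mobj (W i : Scheme.{u}) (pb (W i).ι M) ⟶ mobj X N) := fun i => by

    exact ⟨(k i).fiber ≫ eqToHom (congrArg (fun t => (Scheme.Modules.pullback t).obj N) (hk i)), by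
      fapply CoGrothendieck.Hom.ext
      · exact hk i
      · show _ = ((k i).fiber ≫ eqToHom _) ≫ eqToHom _
        rw [Category.assoc, eqToHom_trans, eqToHom_refl, Category.comp_id]⟩
  choose φ hφ using hex
  -- the value of the `i`-th morphism on a small open
  have hval : ∀ i (U : X.Opens) (hU : U ≤ W i) (m : Γ(M, U)),
      ∃ n : Γ(N, U), (φ i).app _ (puSecLE (W i).ι M (le_refl ((W i).ι ⁻¹ᵁ U)) m) =
        puSecLE (W i).ι N (le_refl ((W i).ι ⁻¹ᵁ U)) n := fun i U hU m => by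
    obtain ⟨n, hn⟩ := (puSecLE_ι_bijective (W i) N hU).2 ((φ i).app _ (puSecLE (W i).ι M (le_refl _) m))
    exact ⟨n, hn.symm⟩
  choose val hval using hval
  have val_unique : ∀ i (U : X.Opens) (hU : U ≤ W i) (m : Γ(M, U)) (n : Γ(N, U)),
      (φ i).app _ (puSecLE (W i).ι M (le_refl ((W i).ι ⁻¹ᵁ U)) m) = puSecLE (W i).ι N (le_refl _) n →
      val i U hU m = n := fun i U hU m n h => (puSecLE_ι_bijective (W i) N hU).1 ((hval i U hU m).symm.trans h)
  have val_res : ∀ i (U U' : X.Opens) (hU : U ≤ W i) (h : U' ≤ U) (m : Γ(M, U)),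
      val i U' (h.trans hU) (res M h m) = res N h (val i U hU m) := fun i U U' hU h m => by
    refine val_unique i U' _ _ _ ?_
    rw [CubeLib.puSecLE_res, CubeLib.puSecLE_res]
    have h' : (W i).ι ⁻¹ᵁ U' ≤ (W i).ι ⁻¹ᵁ U := (W i).ι.preimage_mono h
    rw [← CubeLib.res_puSecLE (W i).ι M (le_refl _) h' m, ← CubeLib.res_puSecLE (W i).ι N (le_refl _) h',
      ← hval i U hU m]
    exact QCohLib.app_map (φ i) (homOfLE h') _
  have val_agree : ∀ i j (U : X.Opens) (hi : U ≤ W i) (hj : U ≤ W j) (m : Γ(M, U)),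
      val i U hi m = val j U hj m := by
    intro i j U hi hj m
    have hU : U ≤ W i ⊓ W j := le_inf hi hj
    refine (puSecLE_ι_bijective (W i ⊓ W j) N hU).1 ?_
    have hc := compat i j
    rw [hφ i, hφ j] at hc
    let l := bcProj (X.homOfLE (inf_le_left : W i ⊓ W j ≤ W i)) (W i).ι (W i ⊓ W j).ι
      (Scheme.homOfLE_ι _ inf_le_left).symm M ≫ (⟨(W i).ι, φ i⟩ : mobj (W i : Scheme.{u}) (pb (W i).ι M) ⟶ mobj X N)
    obtain ⟨ψ, hψ⟩ : ∃ ψ, l = (⟨(W i ⊓ W j).ι, ψ⟩ : mobj _ (pb (W i ⊓ W j).ι M) ⟶ mobj X N) := by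
      have hb : l.base = (W i ⊓ W j).ι := Scheme.homOfLE_ι _ inf_le_left
      refine ⟨l.fiber ≫ eqToHom (congrArg (fun t => (Scheme.Modules.pullback t).obj N) hb), ?_⟩
      fapply CoGrothendieck.Hom.ext
      · exact hb
      · show _ = (l.fiber ≫ eqToHom _) ≫ eqToHom _
        rw [Category.assoc, eqToHom_trans, eqToHom_refl, Category.comp_id]
    exact (fiber_bcProj_comp _ _ _ _ M N (φ i) ψ hψ m _ (hval i U hi m)).symm.trans
      (fiber_bcProj_comp _ _ _ _ M N (φ j) ψ (hc.symm.trans hψ) m _ (hval j U hj m))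
  have hg : ∀ (U : X.Opens) (m : Γ(M, U)), ∃ n : Γ(N, U),
      ∀ i, res N (inf_le_left : U ⊓ W i ≤ U) n = val i (U ⊓ W i) inf_le_right (res M inf_le_left m) := by
    intro U m
    refine exists_glue' (N := N) (fun i => U ⊓ W i) (fun i => inf_le_left)
      (fun x hx => (hW x).imp fun i hi => ⟨hx, hi⟩) _ fun i j => ?_
    show res N _ (val i _ _ _) = res N _ (val j _ _ _)
    rw [← val_res, ← val_res, AmpleLib.res_res, AmpleLib.res_res]
    exact val_agree i j _ _ _ _
  choose app happ using hg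
  have app_unique : ∀ (U : X.Opens) (m : Γ(M, U)) (n : Γ(N, U)),
      (∀ i, res N (inf_le_left : U ⊓ W i ≤ U) n = val i (U ⊓ W i) inf_le_right (res M inf_le_left m)) →
      app U m = n := fun U m n h => ModGlueLib.eq_of_locally _ _ fun x hx => by
    obtain ⟨i, hi⟩ := hW x
    exact ⟨U ⊓ W i, inf_le_left, ⟨hx, hi⟩, (happ U m i).trans (h i).symm⟩
  have happ_add : ∀ U (a b : Γ(M, U)), app U (a + b) = app U a + app U b := fun U a b => by
    refine app_unique U _ _ fun i => ?_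
    show N.presheaf.map _ (app U a + app U b) = val i (U ⊓ W i) inf_le_right (M.presheaf.map _ (a + b))
    rw [map_add, map_add]
    show res N _ (app U a) + res N _ (app U b) = _
    rw [happ, happ]
    refine (val_unique i _ _ _ _ ?_).symm
    rw [map_add, map_add, map_add, hval, hval]
  have happ_res : ∀ U V (h : V ≤ U) (a : Γ(M, U)), app V (res M h a) = res N h (app U a) := fun U V h a => by
    refine app_unique V _ _ fun i => ?_
    rw [AmpleLib.res_res, AmpleLib.res_res]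
    have h' : V ⊓ W i ≤ U ⊓ W i := inf_le_inf_right _ h
    rw [show res M (inf_le_left.trans h : V ⊓ W i ≤ U) a = res M h' (res M inf_le_left a) by
        rw [AmpleLib.res_res],
      val_res i _ _ inf_le_right h', ← happ U a i, AmpleLib.res_res]
  have happ_smul : ∀ U (r : Γ(X, U)) (a : Γ(M, U)), app U (r • a) = r • app U a := fun U r a => by
    refine app_unique U _ _ fun i => ?_
    show N.presheaf.map _ (r • app U a) = val i (U ⊓ W i) inf_le_right (M.presheaf.map _ (r • a))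
    rw [Scheme.Modules.map_smul, Scheme.Modules.map_smul]
    show _ • res N _ (app U a) = _
    rw [happ]
    refine (val_unique i _ _ _ _ ?_).symm
    rw [KFlatLib.puSecLE_smul, KFlatLib.puSecLE_smul, QCohLib.app_smul, hval]
  let F : M ⟶ N := ⟨PresheafOfModules.homMk (M₁ := M.val) (M₂ := N.val)
    { app := fun U => AddCommGrpCat.ofHom (AddMonoidHom.mk' (app U.unop) (happ_add U.unop))
      naturality := fun {U V} i => ConcreteCategory.hom_ext _ _ fun a => happ_res U.unop V.unop i.unop.le a }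
    fun U r a => happ_smul U.unop r a⟩
  refine ⟨F, fun i => ?_⟩
  rw [hφ i, proj, comp_vert_eq]
  congr 1
  refine (Category.id_comp _).trans (CohCmpLib.hom_ext_puSec _ _ fun U m => ?_)
  show ((Scheme.Modules.pullback (W i).ι).map F).app _ (puSec (W i).ι m) = (φ i).app _ (puSec (W i).ι m)
  rw [KFlatLib.puSec_natural]
  show puSec (W i).ι (app U m) = (φ i).app _ (puSec (W i).ι m)
  have hsub : (W i).ι ⁻¹ᵁ U ≤ (W i).ι ⁻¹ᵁ (U ⊓ W i) := fun z hz => ⟨hz, z.2⟩
  have e0 : ∀ (P : X.Modules) (s : Γ(P, U)),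
      puSec (W i).ι s = res (pb (W i).ι P) hsub (puSecLE (W i).ι P (le_refl _) (res P inf_le_left s)) := fun P s => by
    rw [CubeLib.res_puSecLE, CubeLib.puSecLE_res, KFlatLib.puSecLE_apply]
    exact (congr($((pb (W i).ι P).presheaf.map_id _) (puSec (W i).ι s))).symm
  rw [e0 N, e0 M, happ, ← hval]
  exact (QCohLib.app_map (φ i) (homOfLE hsub) _).symm

/-- A morphism of pairs is determined by its restrictions to the members of an open cover. -/
theorem mhom_ext {Y : CoGrothendieck (ThetaGrp.modPF.{u})} {M : X.Modules} {ι : Type v} (W : ι → X.Opens)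
    (hW : ∀ x : X, ∃ i, x ∈ W i) {g₁ g₂ : mobj X M ⟶ Y} (hb : g₁.base = g₂.base)
    (h : ∀ i, proj (W i).ι M ≫ g₁ = proj (W i).ι M ≫ g₂) : g₁ = g₂ := by
  obtain ⟨b, φ₁⟩ := g₁
  obtain ⟨b', φ₂⟩ := g₂
  obtain rfl : b = b' := hb
  let N : X.Modules := (Scheme.Modules.pullback b).obj Y.fiber
  have e : ∀ φ : M ⟶ N, vert (F := ThetaGrp.modPF) (B := X) φ ≫ proj b Y.fiber =
      (⟨b, φ⟩ : mobj X M ⟶ Y) := fun φ => (vert_comp_eq _ _).trans (congrArg _ (Category.comp_id φ))
  have key : ∀ i, (Scheme.Modules.pullback (W i).ι).map (φ₁ : M ⟶ N) = (Scheme.Modules.pullback (W i).ι).map φ₂ :=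
    fun i => by
      have h' : proj (W i).ι M ≫ vert (F := ThetaGrp.modPF) (B := X) (φ₁ : M ⟶ N) =
          proj (W i).ι M ≫ vert (F := ThetaGrp.modPF) (B := X) (φ₂ : M ⟶ N) := cancel (proj b Y.fiber) (by simp) (by
        rw [Category.assoc, Category.assoc, e, e]; exact h i)
      rw [proj, comp_vert_eq, comp_vert_eq] at h'
      have h'' := CoGrothendieck.Hom.congr h'
      simp only [eqToHom_refl, Category.comp_id] at h''
      exact ((Category.id_comp _).symm.trans h'').trans (Category.id_comp _)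
  suffices (φ₁ : M ⟶ N) = φ₂ by subst this; rfl
  refine Scheme.Modules.hom_ext _ _ fun U => ConcreteCategory.hom_ext _ _ fun m => ?_
  refine ModGlueLib.eq_of_locally _ _ fun x hx => ?_
  obtain ⟨i, hi⟩ := hW x
  refine ⟨U ⊓ W i, inf_le_left, ⟨hx, hi⟩, (puSecLE_ι_bijective (W i) N inf_le_right).1 ?_⟩
  have h1 : ∀ φ : M ⟶ N, puSecLE (W i).ι N (le_refl _) (ModGlueLib.rs N (inf_le_left : U ⊓ W i ≤ U) (φ.app U m)) =
      ((Scheme.Modules.pullback (W i).ι).map φ).app _
        (puSecLE (W i).ι M (le_refl _) (ModGlueLib.rs M (inf_le_left : U ⊓ W i ≤ U) m)) := fun φ => by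
    rw [CohCmpLib.puSecLE_natural, ModGlueLib.app_rs]
  exact (h1 φ₁).trans ((congrArg (fun ψ => Scheme.Modules.Hom.app ψ _ _) (key i)).trans (h1 φ₂).symm)

/-- Gluing of morphisms of pairs. -/
theorem exists_glue_mhom {Y : CoGrothendieck (ThetaGrp.modPF.{u})} {M : X.Modules} {ι : Type v} (W : ι → X.Opens)
    (hW : ∀ x : X, ∃ i, x ∈ W i) (b : X ⟶ Y.base) (k : ∀ i, mobj (W i : Scheme.{u}) (pb (W i).ι M) ⟶ Y)
    (hk : ∀ i, (k i).base = (W i).ι ≫ b)
    (compat : ∀ i j, bcProj (X.homOfLE (inf_le_left : W i ⊓ W j ≤ W i)) (W i).ι (W i ⊓ W j).ι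
        (Scheme.homOfLE_ι _ inf_le_left).symm M ≫ k i =
      bcProj (X.homOfLE (inf_le_right : W i ⊓ W j ≤ W j)) (W j).ι (W i ⊓ W j).ι
        (Scheme.homOfLE_ι _ inf_le_right).symm M ≫ k j) :
    ∃ g : mobj X M ⟶ Y, g.base = b ∧ ∀ i, proj (W i).ι M ≫ g = k i := by
  let N : X.Modules := (Scheme.Modules.pullback b).obj Y.fiber
  choose k' hk' hk'' using fun i => exists_lift (proj b Y.fiber) (k i) (W i).ι (hk i).symm
  obtain ⟨φ, hφ⟩ := exists_glue_vert (N := N) W hW k' hk' fun i j => cancel (proj b Y.fiber) (by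
      show _ ≫ (k' i).base = _ ≫ (k' j).base
      rw [hk', hk']
      exact (Scheme.homOfLE_ι _ inf_le_left).trans (Scheme.homOfLE_ι _ inf_le_right).symm)
    (by rw [Category.assoc, Category.assoc, hk'', hk'', compat])
  refine ⟨vert (F := ThetaGrp.modPF) (B := X) φ ≫ proj b Y.fiber, Category.id_comp b, fun i => ?_⟩
  rw [← Category.assoc, hφ, hk'']

end AVThetaLib
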