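import Groth.Agent.AVThetaLib.Pairing
import Groth.Agent.AVThetaLib.GlueHom

/-!
Points of the theta group form a sheaf for the Zariski topology of the parameter scheme.
-/

set_option autoImplicit false
set_option maxHeartbeats 1000000
set_option maxRecDepth 8000
set_option backward.isDefEq.respectTransparency false
set_option linter.style.haveILetI false
set_option linter.unusedSectionVars false

noncomputable section

universe u v

open CategoryTheory CategoryTheory.Limits MonoidalCategory CartesianMonoidalCategory MonObj AlgebraicGeometry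
open Pseudofunctor Bicategory ThetaGrp

namespace AVThetaLib

variable {k : Type u} [Field k] {A : Over (Spec (CommRingCat.of k))} [GrpObj A]
  {L : A.left.Modules} {T : Over (Spec (CommRingCat.of k))}

variable (A) in
/-- The preimage of an open of the parameter scheme. -/
abbrev preV (V : T.left.Opens) : (A ⊗ T).left.Opens := (snd A T).left ⁻¹ᵁ V

variable (A) in
/-- The identification of the preimage with the product. -/
def eV (V : T.left.Opens) : (preV A V : Scheme.{u}) ⟶ (A ⊗ oo V).left :=
  Limits.pullback.lift ((preV A V).ι ≫ (fst A T).left) ((snd A T).left ∣_ V) (by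
    rw [Category.assoc, Over.w]
    show _ = ((snd A T).left ∣_ V) ≫ V.ι ≫ T.hom
    rw [morphismRestrict_ι_assoc, Over.w])

theorem eV_whisker (V : T.left.Opens) : eV A V ≫ (A ◁ oi V).left = (preV A V).ι := by
  apply Limits.pullback.hom_ext (f := A.hom) (g := T.hom)
  · show (eV A V ≫ (A ◁ oi V).left) ≫ (fst A T).left = _ ≫ (fst A T).left
    rw [Category.assoc, ← Over.comp_left, whiskerLeft_fst]
    exact Limits.pullback.lift_fst _ _ _
  · show (eV A V ≫ (A ◁ oi V).left) ≫ (snd A T).left = _ ≫ (snd A T).left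
    rw [Category.assoc, ← Over.comp_left, whiskerLeft_snd, Over.comp_left, ← Category.assoc]
    exact (congrArg (· ≫ V.ι) (Limits.pullback.lift_snd _ _ _)).trans (morphismRestrict_ι _ _)

instance isIso_eV (V : T.left.Opens) : IsIso (eV A V) := by
  have hr : Set.range ((A ◁ oi V).left) ⊆ Set.range (preV A V).ι := by
    rw [Scheme.Opens.range_ι]
    rintro _ ⟨z, rfl⟩
    show (snd A T).left ((A ◁ oi V).left z) ∈ V
    rw [← Scheme.Hom.comp_apply, ← Over.comp_left, whiskerLeft_snd, Over.comp_left, Scheme.Hom.comp_apply]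
    exact ((snd A (oo V)).left z).2
  let e' := IsOpenImmersion.lift (preV A V).ι (A ◁ oi V).left hr
  have he' : e' ≫ (preV A V).ι = (A ◁ oi V).left := IsOpenImmersion.lift_fac _ _ _
  refine ⟨e', ?_, ?_⟩
  · rw [← cancel_mono (preV A V).ι, Category.assoc, he', eV_whisker, Category.id_comp]
  · apply Limits.pullback.hom_ext (f := A.hom) (g := (oo V).hom)
    · show (e' ≫ eV A V) ≫ _ = 𝟙 _ ≫ (fst A (oo V)).left
      rw [Category.assoc, Category.id_comp, eV, Limits.pullback.lift_fst, ← Category.assoc, he', ← Over.comp_left,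
        whiskerLeft_fst]
    · show (e' ≫ eV A V) ≫ _ = 𝟙 _ ≫ (snd A (oo V)).left
      rw [Category.assoc, Category.id_comp, eV, Limits.pullback.lift_snd, ← cancel_mono V.ι, Category.assoc,
        morphismRestrict_ι, ← Category.assoc, he', ← Over.comp_left, whiskerLeft_snd, Over.comp_left]
      rfl

variable (A L) in
/-- The same, on pairs. -/
def cV (V : T.left.Opens) :
    mobj (preV A V : Scheme.{u}) (KFlatLib.pb (preV A V).ι ((Scheme.Modules.pullback (fst A T).left).obj L)) ⟶
      thetaObj A L (oo V) :=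
  (exists_lift (bcLift A L (oi V)) (proj (preV A V).ι ((Scheme.Modules.pullback (fst A T).left).obj L))
    (eV A V) (eV_whisker V)).choose

theorem cV_base (V : T.left.Opens) : (cV A L V).base = eV A V := by
  unfold cV
  generalize_proofs h
  exact h.choose_spec.1

theorem cV_bcLift (V : T.left.Opens) :
    cV A L V ≫ bcLift A L (oi V) = proj (preV A V).ι ((Scheme.Modules.pullback (fst A T).left).obj L) := by
  unfold cV
  generalize_proofs h
  exact h.choose_spec.2

instance isIso_cV (V : T.left.Opens) : IsIso (cV A L V) := by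
  haveI : Cart (cV A L V) := @cart_of_comp _ _ _ _ _ _ (cV A L V) (bcLift A L (oi V)) _ (by
    rw [cV_bcLift]; infer_instance)
  haveI : IsIso (cV A L V).base := by rw [cV_base]; infer_instance
  exact isIso_of_cart _

theorem cV_ol {V V' : T.left.Opens} (h : V ≤ V') :
    bcProj ((A ⊗ T).left.homOfLE ((snd A T).left.preimage_mono h)) (preV A V').ι (preV A V).ι
        (Scheme.homOfLE_ι _ _).symm ((Scheme.Modules.pullback (fst A T).left).obj L) ≫ cV A L V' =
      cV A L V ≫ bcLift A L (ol h) := by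
  refine cancel (bcLift A L (oi V')) ?_ ?_
  · show _ ≫ (cV A L V').base = (cV A L V).base ≫ (A ◁ ol h).left
    rw [cV_base, cV_base]
    haveI : Mono (A ◁ oi V').left := by
      have : (A ◁ oi V').left = inv (eV A V') ≫ (preV A V').ι := by
        rw [IsIso.eq_inv_comp, eV_whisker]
      rw [this]; infer_instance
    rw [← cancel_mono (A ◁ oi V').left, Category.assoc, Category.assoc, eV_whisker, ← Over.comp_left,
      ← MonoidalCategory.whiskerLeft_comp, ol_oi, eV_whisker]
    exact Scheme.homOfLE_ι _ ((snd A T).left.preimage_mono h)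
  · rw [Category.assoc, Category.assoc, cV_bcLift, ← bcLift_comp, ol_oi, cV_bcLift, bcProj_proj]

section Glue

variable [IsProper A.hom] [GeometricallyIntegral A.hom] [IsCommMonObj A] (hL : PicF.IsInvertible L)

theorem exists_glue_hom {J : Type v} (V : J → T.left.Opens) (hV : ∀ t : T.left, ∃ i, t ∈ V i)
    (α : ∀ i, thetaPts A L (oo (V i)))
    (hc : ∀ i j, bc (ol (inf_le_left : V i ⊓ V j ≤ V i)) (α i) = bc (ol (inf_le_right : V i ⊓ V j ≤ V j)) (α j))
    (x : T ⟶ A) (hx : ∀ i, pt (α i) = oi (V i) ≫ x) :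
    ∃ g : thetaObj A L T ⟶ thetaObj A L T, g.base = (transl A x).left ∧
      ∀ i, bcLift A L (oi (V i)) ≫ g = (α i).1.hom ≫ bcLift A L (oi (V i)) := by
  obtain ⟨g, hg, hgi⟩ := exists_glue_mhom (Y := thetaObj A L T) (fun i => preV A (V i))
    (fun z => hV ((snd A T).left z)) (transl A x).left
    (fun i => cV A L (V i) ≫ (α i).1.hom ≫ bcLift A L (oi (V i)))
    (fun i => by
      show (cV A L (V i)).base ≫ (α i).1.hom.base ≫ (A ◁ oi (V i)).left = _
      rw [cV_base, base_eq, hx, ← Over.comp_left, transl_bc, Over.comp_left, ← Category.assoc, eV_whisker])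
    fun i j => by
      have key : ∀ (l : J) (h : V i ⊓ V j ≤ V l),
          bcProj ((A ⊗ T).left.homOfLE ((snd A T).left.preimage_mono h)) (preV A (V l)).ι (preV A (V i ⊓ V j)).ι
            (Scheme.homOfLE_ι _ ((snd A T).left.preimage_mono h)).symm ((Scheme.Modules.pullback (fst A T).left).obj L) ≫
              cV A L (V l) ≫ (α l).1.hom ≫ bcLift A L (oi (V l)) =
            cV A L (V i ⊓ V j) ≫ (bc (ol h) (α l)).1.hom ≫ bcLift A L (oi (V i ⊓ V j)) := by
        intro l h
        rw [← Category.assoc, cV_ol, Category.assoc, ← Category.assoc (bcLift A L (ol h)), ← bc_comm, Category.assoc,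
          ← bcLift_comp, ol_oi]
        exact h
      refine (key i inf_le_left).trans (Eq.trans ?_ (key j inf_le_right).symm)
      rw [hc]
  refine ⟨g, hg, fun i => ?_⟩
  rw [← cancel_epi (cV A L (V i)), ← Category.assoc, cV_bcLift, hgi]

theorem hom_ext_local {J : Type v} (V : J → T.left.Opens) (hV : ∀ t : T.left, ∃ i, t ∈ V i)
    {g₁ g₂ : thetaObj A L T ⟶ thetaObj A L T} (hb : g₁.base = g₂.base)
    (h : ∀ i, bcLift A L (oi (V i)) ≫ g₁ = bcLift A L (oi (V i)) ≫ g₂) : g₁ = g₂ :=
  mhom_ext (fun i => preV A (V i)) (fun z => hV ((snd A T).left z)) hb fun i => by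
    rw [← cV_bcLift, Category.assoc, Category.assoc, h]

include hL in
/-- Points on the members of a cover, agreeing on overlaps, glue. -/
theorem exists_glue_pts {J : Type v} (V : J → T.left.Opens) (hV : ∀ t : T.left, ∃ i, t ∈ V i)
    (α : ∀ i, thetaPts A L (oo (V i)))
    (hc : ∀ i j, bc (ol (inf_le_left : V i ⊓ V j ≤ V i)) (α i) = bc (ol (inf_le_right : V i ⊓ V j ≤ V j)) (α j)) :
    ∃ β : thetaPts A L T, ∀ i, bc (oi (V i)) β = α i := by
  let 𝒰 : T.left.OpenCover := T.left.openCoverOfIsOpenCover V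
    (top_le_iff.1 fun t _ => TopologicalSpace.Opens.mem_iSup.2 (hV t))
  have hp : ∀ i j, pullback.fst (V i).ι (V j).ι ≫ (pt (α i)).left =
      pullback.snd (V i).ι (V j).ι ≫ (pt (α j)).left := by
    intro i j
    have h := congrArg (fun a => (pt a).left) (hc i j)
    simp only [pt_bc, Over.comp_left] at h
    have hr : Set.range (pullback.fst (V i).ι (V j).ι ≫ (V i).ι) ⊆ Set.range (V i ⊓ V j).ι := by
      rw [Scheme.Opens.range_ι]
      rintro _ ⟨z, rfl⟩
      refine ⟨(pullback.fst (V i).ι (V j).ι z).2, ?_⟩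
      show (pullback.fst (V i).ι (V j).ι ≫ (V i).ι) z ∈ V j
      rw [pullback.condition]
      exact (pullback.snd (V i).ι (V j).ι z).2
    let l := IsOpenImmersion.lift (V i ⊓ V j).ι (pullback.fst (V i).ι (V j).ι ≫ (V i).ι) hr
    have hl1 : l ≫ T.left.homOfLE (inf_le_left : V i ⊓ V j ≤ V i) = pullback.fst (V i).ι (V j).ι := by
      rw [← cancel_mono (V i).ι, Category.assoc, Scheme.homOfLE_ι, IsOpenImmersion.lift_fac]
    have hl2 : l ≫ T.left.homOfLE (inf_le_right : V i ⊓ V j ≤ V j) = pullback.snd (V i).ι (V j).ι := by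
      rw [← cancel_mono (V j).ι, Category.assoc, Scheme.homOfLE_ι, IsOpenImmersion.lift_fac, pullback.condition]
    rw [← hl1, ← hl2, Category.assoc, Category.assoc]
    exact congrArg (l ≫ ·) h
  let x₀ : T.left ⟶ A.left := 𝒰.glueMorphisms (fun i => (pt (α i)).left) hp
  have hx₀ : ∀ i, (V i).ι ≫ x₀ = (pt (α i)).left := fun i => Scheme.Cover.ι_glueMorphisms 𝒰 _ hp i
  let x : T ⟶ A := Over.homMk x₀ (𝒰.hom_ext _ _ fun i => by
    show (V i).ι ≫ x₀ ≫ A.hom = (V i).ι ≫ T.hom
    rw [← Category.assoc, hx₀, Over.w]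
    rfl)
  have hx : ∀ i, pt (α i) = oi (V i) ≫ x := fun i => Over.OverMorphism.ext (hx₀ i).symm
  obtain ⟨g, hg, hgi⟩ := exists_glue_hom V hV α hc x hx
  obtain ⟨g', hg', hgi'⟩ := exists_glue_hom V hV (fun i => (α i)⁻¹) (fun i j => by rw [bc_inv, bc_inv, hc]) x⁻¹
    (fun i => by rw [pt_inv, hx, GrpObj.comp_inv])
  have e1 : g ≫ g' = 𝟙 _ := hom_ext_local V hV (by
    rw [CoGrothendieck.categoryStruct_comp_base, hg, hg', ← Over.comp_left, ← transl_mul, mul_inv_cancel, transl_one]
    rfl) fun i => by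
    rw [← Category.assoc, hgi, Category.assoc, hgi', ← Category.assoc]
    show ((α i).1.hom ≫ (α i).1.inv) ≫ _ = _
    rw [Iso.hom_inv_id, Category.id_comp, Category.comp_id]
  have e2 : g' ≫ g = 𝟙 _ := hom_ext_local V hV (by
    rw [CoGrothendieck.categoryStruct_comp_base, hg, hg', ← Over.comp_left, ← transl_mul, inv_mul_cancel, transl_one]
    rfl) fun i => by
    rw [← Category.assoc, hgi', Category.assoc, hgi, ← Category.assoc]
    show ((α i).1.inv ≫ (α i).1.hom) ≫ _ = _
    rw [Iso.inv_hom_id, Category.id_comp, Category.comp_id]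
  exact ⟨⟨⟨g, g', e1, e2⟩, x, hg⟩, fun i => (isBaseChange_iff.1
    (show ThetaGrp.IsBaseChange (α i) (oi (V i)) (⟨⟨g, g', e1, e2⟩, x, hg⟩ : thetaPts A L T) from (hgi i).symm)).symm⟩

end Glue

end AVThetaLib
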