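import Groth.Agent.AVThetaLib.GroupLike
import Groth.Agent.AVThetaLib.GluePts
import Groth.Agent.AVThetaLib.Exist
import Groth.Agent.AVThetaLib.Desc
import Groth.Agent.AntiAffLib.Basic
import Mathlib.AlgebraicGeometry.Artinian

/-!
Lifting an isotropic finite subgroup to the theta group over an algebraically closed field.
-/

set_option autoImplicit false
set_option maxHeartbeats 1600000
set_option maxRecDepth 8000
set_option backward.isDefEq.respectTransparency false
set_option linter.style.haveILetI false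
set_option linter.unusedSectionVars false

noncomputable section

universe u

open CategoryTheory CategoryTheory.Limits MonoidalCategory CartesianMonoidalCategory MonObj AlgebraicGeometry
open Pseudofunctor Bicategory ThetaGrp CubeConsLib
open TensorProduct (tmul)
open scoped TensorProduct

namespace AVThetaLib

variable {k : Type u} [Field k]

/-- Global functions as an algebra over the base field. -/
def strMap (X : Over (Spec (CommRingCat.of k))) : CommRingCat.of k ⟶ Γ(X.left, ⊤) :=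
  (Scheme.ΓSpecIso (CommRingCat.of k)).inv ≫ X.hom.appTop

instance algΓ (X : Over (Spec (CommRingCat.of k))) : Algebra k Γ(X.left, ⊤) := (strMap X).hom.toAlgebra

/-- Inverse image of functions. -/
def pullΓ {X Y : Over (Spec (CommRingCat.of k))} (f : X ⟶ Y) : Γ(Y.left, ⊤) →ₐ[k] Γ(X.left, ⊤) where
  toRingHom := f.left.appTop.hom
  commutes' r := by
    show f.left.appTop (strMap Y r) = strMap X r
    rw [← ConcreteCategory.comp_apply, strMap, strMap, Category.assoc, ← Scheme.Hom.comp_appTop, Over.w]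

theorem pullΓ_comp {X Y Z : Over (Spec (CommRingCat.of k))} (f : X ⟶ Y) (g : Y ⟶ Z) (r : Γ(Z.left, ⊤)) :
    pullΓ (f ≫ g) r = pullΓ f (pullΓ g r) := by
  show (f ≫ g).left.appTop r = f.left.appTop (g.left.appTop r)
  rw [Over.comp_left, Scheme.Hom.comp_appTop, ConcreteCategory.comp_apply]

theorem pullΓ_id (X : Over (Spec (CommRingCat.of k))) (r : Γ(X.left, ⊤)) : pullΓ (𝟙 X) r = r := rfl

/-- Functions on a product from functions on the factors. -/
def prodΓ (X Y : Over (Spec (CommRingCat.of k))) : Γ(X.left, ⊤) ⊗[k] Γ(Y.left, ⊤) →ₐ[k] Γ((X ⊗ Y).left, ⊤) :=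
  Algebra.TensorProduct.lift (pullΓ (fst X Y)) (pullΓ (snd X Y)) fun _ _ => mul_comm _ _

theorem prodΓ_tmul (X Y : Over (Spec (CommRingCat.of k))) (a : Γ(X.left, ⊤)) (b : Γ(Y.left, ⊤)) :
    prodΓ X Y (a ⊗ₜ b) = pullΓ (fst X Y) a * pullΓ (snd X Y) b := Algebra.TensorProduct.lift_tmul _ _ _ _ _

theorem prodΓ_bijective (X Y : Over (Spec (CommRingCat.of k))) [QuasiCompact X.hom] [QuasiSeparated X.hom]
    [QuasiCompact Y.hom] [QuasiSeparated Y.hom] : Function.Bijective (prodΓ X Y) := by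
  have h0 := AntiAffLib.isPushout_appTop X Y
  have h1 : IsPushout (strMap X) (strMap Y) (fst X Y).left.appTop (snd X Y).left.appTop :=
    h0.of_iso (Scheme.ΓSpecIso (CommRingCat.of k)) (Iso.refl _) (Iso.refl _) (Iso.refl _)
      (by simp [strMap]) (by simp [strMap]) (by simp) (by simp)
  have h2 : IsPushout (strMap X) (strMap Y)
      (CommRingCat.ofHom (Algebra.TensorProduct.includeLeftRingHom (R := k) (A := Γ(X.left, ⊤)) (B := Γ(Y.left, ⊤))))
      (CommRingCat.ofHom (Algebra.TensorProduct.includeRight (R := k) (A := Γ(X.left, ⊤)) (B := Γ(Y.left, ⊤))).toRingHom) :=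
    CommRingCat.isPushout_tensorProduct k Γ(X.left, ⊤) Γ(Y.left, ⊤)
  let e := h2.isoIsPushout _ _ h1
  have he : e.hom = CommRingCat.ofHom (prodΓ X Y).toRingHom := by
    apply h2.hom_ext
    · rw [IsPushout.inl_isoIsPushout_hom]
      refine CommRingCat.hom_ext (RingHom.ext fun a => ?_)
      show (fst X Y).left.appTop a = prodΓ X Y (a ⊗ₜ 1)
      rw [prodΓ_tmul, map_one, _root_.mul_one]
      rfl
    · rw [IsPushout.inr_isoIsPushout_hom]
      refine CommRingCat.hom_ext (RingHom.ext fun a => ?_)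
      show (snd X Y).left.appTop a = prodΓ X Y (1 ⊗ₜ a)
      rw [prodΓ_tmul, map_one, _root_.one_mul]
      rfl
  have hb : Function.Bijective e.hom := ConcreteCategory.bijective_of_isIso e.hom
  rw [he] at hb
  exact hb

/-- The value of a tensor at a pair of points. -/
def ev {X Y T : Over (Spec (CommRingCat.of k))} (x : T ⟶ X) (y : T ⟶ Y) :
    Γ(X.left, ⊤) ⊗[k] Γ(Y.left, ⊤) →ₐ[k] Γ(T.left, ⊤) := (pullΓ (lift x y)).comp (prodΓ X Y)

theorem ev_tmul {X Y T : Over (Spec (CommRingCat.of k))} (x : T ⟶ X) (y : T ⟶ Y) (a : Γ(X.left, ⊤)) (b : Γ(Y.left, ⊤)) :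
    ev x y (a ⊗ₜ b) = pullΓ x a * pullΓ y b := by
  show pullΓ (lift x y) (prodΓ X Y (a ⊗ₜ b)) = _
  rw [prodΓ_tmul, map_mul, ← pullΓ_comp, ← pullΓ_comp, lift_fst, lift_snd]

variable {A : Over (Spec (CommRingCat.of k))} [GrpObj A] [IsCommMonObj A] [IsProper A.hom] [GeometricallyIntegral A.hom]
  {L : A.left.Modules} (hL : PicF.IsInvertible L) {N : Over (Spec (CommRingCat.of k))} [GrpObj N] [IsFinite N.hom]
  (i : N ⟶ A) [IsMonHom i]

instance finite_Γ (N : Over (Spec (CommRingCat.of k))) [IsFinite N.hom] : Module.Finite k Γ(N.left, ⊤) :=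
  RingHom.Finite.comp (f := (Scheme.ΓSpecIso (CommRingCat.of k)).inv.hom) (g := N.hom.appTop.hom)
    N.hom.finite_appTop (RingHom.Finite.of_surjective _
      (ConcreteCategory.bijective_of_isIso (Scheme.ΓSpecIso (CommRingCat.of k)).inv).2)

include hL in
theorem exists_pts_of_finite (hi : MumfordZero hL i) : ∃ β : thetaPts A L N, pt β = i := by
  haveI : IsAffine N.left := isAffine_of_isAffineHom N.hom
  haveI : IsArtinianRing Γ(N.left, ⊤) := IsArtinianRing.of_finite k _
  haveI : DiscreteTopology N.left := N.left.isoSpec.hom.homeomorph.symm.discreteTopology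
  let V : N.left → N.left.Opens := fun p => ⟨{p}, isOpen_discrete _⟩
  choose W hW α hα using exists_local_pts hL hi
  have hVW : ∀ p, V p ≤ W p := fun p q hq => (Set.mem_singleton_iff.1 hq) ▸ hW p
  obtain ⟨β, hβ⟩ := exists_glue_pts hL V (fun p => ⟨p, rfl⟩) (fun p => bc (ol (hVW p)) (α p)) fun p q => by
    by_cases hpq : p = q
    · subst hpq; rfl
    · refine pts_eq_of_local hL fun z => ?_
      exact absurd ((Set.mem_singleton_iff.1 z.2.1).symm.trans (Set.mem_singleton_iff.1 z.2.2)) hpq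
  refine ⟨β, Over.OverMorphism.ext ((N.left.openCoverOfIsOpenCover V
    (top_le_iff.1 fun p _ => TopologicalSpace.Opens.mem_iSup.2 ⟨p, rfl⟩)).hom_ext _ _ fun p => ?_)⟩
  have h := congrArg pt (hβ p)
  rw [pt_bc, pt_bc, hα, ← Category.assoc] at h
  exact (congrArg Over.Hom.left h).trans (congrArg (fun z => z ≫ i.left) (N.left.homOfLE_ι (hVW p)))

theorem scal_swap {T : Over (Spec (CommRingCat.of k))} (a b : Γ(T.left, ⊤)ˣ) (g : thetaPts A L T) :
    g * (scal A L T a * scal A L T b) = scal A L T a * (g * scal A L T b) := by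
  rw [← _root_.mul_assoc, scal_central a g, _root_.mul_assoc]

variable [IsAlgClosed k] [Mono i]

include hL in
/-- An isotropic finite subgroup of `K(L)` lifts to the theta group. -/
theorem exists_lift_of_isotropic {G : Over (Spec (CommRingCat.of k))} [GrpObj G] {u : thetaPts A L G}
    (hG : IsThetaGrpSch A L G u) (hi : MumfordZero hL i) (hiso : IsIsotropic L i) :
    ∃ j : N ⟶ G, IsMonHom j ∧
      ∀ (T : Over (Spec (CommRingCat.of k))) (n : T ⟶ N), pt (bc (n ≫ j) u) = n ≫ i := by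
  obtain ⟨β₀, hβ₀⟩ := exists_pts_of_finite hL i hi
  have hptc : ∀ {T : Over (Spec (CommRingCat.of k))} (x : T ⟶ N), pt (bc x β₀) = x ≫ i := fun x => by
    rw [pt_bc, hβ₀]
  have hcomm : ∀ {T : Over (Spec (CommRingCat.of k))} (x y : T ⟶ N), x * y = y * x := fun x y => by
    rw [← cancel_mono i, MonObj.mul_comp, MonObj.mul_comp, mul_comm]
  obtain ⟨c, hc⟩ := exists_eq_mul_scal hL (α := bc (fst N N * snd N N) β₀)
    (α' := bc (fst N N) β₀ * bc (snd N N) β₀) (by
      rw [pt_mul, hptc, hptc, hptc, MonObj.mul_comp, mul_comm])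
  let C : ∀ {T : Over (Spec (CommRingCat.of k))}, (T ⟶ N) → (T ⟶ N) → Γ(T.left, ⊤)ˣ := fun x y => uP (lift x y) c
  have hC : ∀ {T : Over (Spec (CommRingCat.of k))} (x y : T ⟶ N),
      bc x β₀ * bc y β₀ = bc (x * y) β₀ * scal A L T (C x y) := fun x y => by
    have := congrArg (bc (lift x y)) hc
    rw [bc_mul, bc_mul, bc_bc, bc_bc, bc_bc, bc_scal, lift_fst, lift_snd, MonObj.comp_mul, lift_fst, lift_snd] at this
    exact this
  have hsymm : ∀ {T : Over (Spec (CommRingCat.of k))} (x y : T ⟶ N), C x y = C y x := fun {T} x y => by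
    have h := hiso T x y _ _ (isOverPt_iff.2 (hptc x)) (isOverPt_iff.2 (hptc y))
    rw [hC, hC, hcomm y x] at h
    exact scal_injective hL (mul_left_cancel h)
  have hcoc : ∀ {T : Over (Spec (CommRingCat.of k))} (x y z : T ⟶ N),
      C x y * C (x * y) z = C x (y * z) * C y z := fun {T} x y z => by
    have h := _root_.mul_assoc (bc x β₀) (bc y β₀) (bc z β₀)
    rw [hC x y, hC y z, _root_.mul_assoc, ← scal_central, ← _root_.mul_assoc, ← _root_.mul_assoc, hC, hC] at h
    simp only [_root_.mul_assoc, ← map_mul] at h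
    have h2 := scal_injective hL (mul_left_cancel h)
    rw [mul_comm] at h2
    exact h2
  -- the twisted comultiplication
  haveI : IsAffine N.left := isAffine_of_isAffineHom N.hom
  haveI : IsFinite (N ⊗ N).hom := by
    haveI : IsFinite (fst N N).left := MorphismProperty.pullback_fst (P := @IsFinite) _ _ ‹_›
    rw [← Over.w (fst N N)]; infer_instance
  let ψ := AlgEquiv.ofBijective (prodΓ N N) (prodΓ_bijective N N)
  let E : Γ(N.left, ⊤) →ₗ[k] Γ(N.left, ⊤) ⊗[k] Γ(N.left, ⊤) :=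
    ψ.symm.toLinearMap ∘ₗ LinearMap.mulLeft k (c : Γ((N ⊗ N).left, ⊤)) ∘ₗ (pullΓ (fst N N * snd N N)).toLinearMap
  have hψ : ∀ z, ψ z = prodΓ N N z := fun z => rfl
  have hE : ∀ r, prodΓ N N (E r) = c * pullΓ (fst N N * snd N N) r := fun r => by
    rw [← hψ]
    exact ψ.apply_symm_apply _
  have hevE : ∀ {T : Over (Spec (CommRingCat.of k))} (x y : T ⟶ N) (r : Γ(N.left, ⊤)),
      ev x y (E r) = C x y * pullΓ (x * y) r := fun x y r => by
    show pullΓ (lift x y) (prodΓ N N (E r)) = _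
    rw [hE, map_mul, ← pullΓ_comp, MonObj.comp_mul, lift_fst, lift_snd]
    rfl
  have hinj : Function.Injective E := fun r r' h => by
    have h1 := congrArg (prodΓ N N) h
    rw [hE, hE] at h1
    have h2 := congrArg (pullΓ (lift (𝟙 N) 1)) (c.mul_right_inj.1 h1)
    rwa [← pullΓ_comp, ← pullΓ_comp, MonObj.comp_mul, lift_fst, lift_snd, _root_.mul_one, pullΓ_id, pullΓ_id] at h2
  have hcomm' : ∀ r, TensorProduct.comm k _ _ (E r) = E r := fun r => by
    refine (prodΓ_bijective N N).1 ?_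
    have e : ∀ z, prodΓ N N (TensorProduct.comm k _ _ z) = ev (snd N N) (fst N N) z := fun z => by
      induction z using TensorProduct.induction_on with
      | zero => rw [map_zero, map_zero, map_zero]
      | tmul a b => rw [TensorProduct.comm_tmul, prodΓ_tmul, ev_tmul, mul_comm]
      | add a b ha hb => simp only [map_add, ha, hb]
    have ec : C (fst N N) (snd N N) = c := by
      show uP (lift (fst N N) (snd N N)) c = c
      rw [lift_fst_snd]
      exact Units.ext rfl
    rw [e, hevE, hsymm, hcomm, hE, ec]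
  let x₁ : N ⊗ N ⊗ N ⟶ N := fst N (N ⊗ N)
  let x₂ : N ⊗ N ⊗ N ⟶ N := snd N (N ⊗ N) ≫ fst N N
  let x₃ : N ⊗ N ⊗ N ⟶ N := snd N (N ⊗ N) ≫ snd N N
  let ψ₃ : Γ(N.left, ⊤) ⊗[k] (Γ(N.left, ⊤) ⊗[k] Γ(N.left, ⊤)) →ₐ[k] Γ((N ⊗ N ⊗ N).left, ⊤) :=
    (prodΓ N (N ⊗ N)).comp (Algebra.TensorProduct.congr AlgEquiv.refl ψ).toAlgHom
  have hψ₃ : ∀ a t, ψ₃ (a ⊗ₜ t) = pullΓ x₁ a * ev x₂ x₃ t := fun a t => by
    show prodΓ N (N ⊗ N) (a ⊗ₜ ψ t) = _
    rw [prodΓ_tmul, hψ]
    refine congrArg (pullΓ x₁ a * ·) ?_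
    show _ = pullΓ (lift x₂ x₃) (prodΓ N N t)
    rw [show lift x₂ x₃ = snd N (N ⊗ N) from CartesianMonoidalCategory.hom_ext _ _ (by simp [x₂]) (by simp [x₃])]
  have hψ₃b : Function.Bijective ψ₃ :=
    (prodΓ_bijective N (N ⊗ N)).comp (Algebra.TensorProduct.congr AlgEquiv.refl ψ).bijective
  have hassoc : ∀ r, TensorProduct.assoc k _ _ _ (LinearMap.rTensor _ E (E r)) = LinearMap.lTensor _ E (E r) :=
    fun r => by
    refine hψ₃b.1 ?_
    have eL : ∀ z, ψ₃ (LinearMap.lTensor _ E z) = C x₂ x₃ * ev x₁ (x₂ * x₃) z := fun z => by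
      induction z using TensorProduct.induction_on with
      | zero => simp only [map_zero, mul_zero]
      | tmul a b => rw [LinearMap.lTensor_tmul, hψ₃, hevE, ev_tmul, mul_left_comm]
      | add a b ha hb => simp only [map_add, ha, hb, mul_add]
    have eR1 : ∀ t b, ψ₃ (TensorProduct.assoc k _ _ _ (t ⊗ₜ b)) = ev x₁ x₂ t * pullΓ x₃ b := fun t b => by
      induction t using TensorProduct.induction_on with
      | zero => simp only [TensorProduct.zero_tmul, map_zero, zero_mul]
      | tmul a a' => rw [TensorProduct.assoc_tmul, hψ₃, ev_tmul, ev_tmul, _root_.mul_assoc]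
      | add a a' ha hb => simp only [TensorProduct.add_tmul, map_add, ha, hb, add_mul]
    have eR : ∀ z, ψ₃ (TensorProduct.assoc k _ _ _ (LinearMap.rTensor _ E z)) = C x₁ x₂ * ev (x₁ * x₂) x₃ z := fun z => by
      induction z using TensorProduct.induction_on with
      | zero => simp only [map_zero, mul_zero]
      | tmul a b => rw [LinearMap.rTensor_tmul, eR1, hevE, ev_tmul, _root_.mul_assoc]
      | add a b ha hb => simp only [map_add, ha, hb, mul_add]
    rw [eR, eL, hevE, hevE, ← _root_.mul_assoc, ← _root_.mul_assoc, ← Units.val_mul, ← Units.val_mul, hcoc,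
      mul_comm (C x₁ (x₂ * x₃)), _root_.mul_assoc x₁ x₂ x₃]
  -- functions on the point
  have hconst : ∀ z : Γ((𝟙_ (Over (Spec (CommRingCat.of k)))).left, ⊤), z ≠ 0 → IsUnit z := fun z hz => by
    let e := (Scheme.ΓSpecIso (CommRingCat.of k)).commRingCatIsoToRingEquiv
    have h := (Ne.isUnit ((map_ne_zero_iff e e.injective).2 hz)).map e.symm
    rwa [RingEquiv.symm_apply_apply] at h
  haveI : Nontrivial Γ(N.left, ⊤) := by
    refine ⟨0, 1, fun h => ?_⟩
    have h2 := congrArg (fun z => (Scheme.ΓSpecIso (CommRingCat.of k)).hom (pullΓ η[N] z)) h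
    simp only [map_zero, map_one] at h2
    exact zero_ne_one h2
  obtain ⟨φ, hφ0, hφ⟩ := exists_groupLike E hinj hcomm' hassoc
  have hφev : ∀ {T : Over (Spec (CommRingCat.of k))} (x y : T ⟶ N),
      pullΓ x φ * pullΓ y φ = C x y * pullΓ (x * y) φ := fun x y => by
    rw [← ev_tmul, ← hφ, hevE]
  have h1φ : IsUnit (pullΓ (1 : N ⟶ N) φ) := by
    by_cases h : pullΓ η[N] φ = 0
    · exfalso
      have h2 := hφev (𝟙 N) 1
      rw [_root_.mul_one, show (1 : N ⟶ N) = toUnit N ≫ η[N] from Hom.one_def, pullΓ_comp, h, map_zero, mul_zero] at h2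
      exact hφ0 ((C (𝟙 N) 1).mul_right_eq_zero.1 h2.symm)
    · rw [Hom.one_def, pullΓ_comp]
      exact (hconst _ h).map _
  have hu : IsUnit φ := by
    have h2 := hφev (𝟙 N) (𝟙 N)⁻¹
    rw [mul_inv_cancel, pullΓ_id] at h2
    exact isUnit_of_mul_isUnit_left (h2 ▸ (C (𝟙 N) (𝟙 N)⁻¹).isUnit.mul h1φ)
  -- the lift
  let β' := β₀ * scal A L N hu.unit⁻¹
  have hptβ : pt β' = i := by rw [pt_mul, pt_scal, hβ₀, _root_.one_mul]
  have hbc : ∀ {T : Over (Spec (CommRingCat.of k))} (x y : T ⟶ N), bc (x * y) β' = bc x β' * bc y β' := fun {T} x y => by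
    have key : C x y * ((uP x hu.unit⁻¹) * (uP y hu.unit⁻¹)) = uP (x * y) hu.unit⁻¹ := by
      rw [map_inv, map_inv, map_inv, ← mul_inv, mul_inv_eq_iff_eq_mul, eq_inv_mul_iff_mul_eq]
      refine Units.ext ?_
      have h2 := hφev x y
      show pullΓ (x * y) φ * (C x y : Γ(T.left, ⊤)) = pullΓ x φ * pullΓ y φ
      rw [mul_comm]
      exact h2.symm
    rw [bc_mul, bc_mul, bc_mul, bc_scal, bc_scal, bc_scal, ← key, map_mul, map_mul, ← _root_.mul_assoc (bc (x * y) β₀),
      ← hC x y]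
    simp only [_root_.mul_assoc]
    exact congrArg (bc x β₀ * ·) (scal_swap _ _ _)
  obtain ⟨j, hj, -⟩ := hG.univ N β'
  rw [isBaseChange_iff] at hj
  have key : ∀ (T : Over (Spec (CommRingCat.of k))) (x : T ⟶ N), bc (x ≫ j) u = bc x β' := fun T x => by
    rw [← bc_bc, ← hj]
  refine ⟨j, isMonHom_of_mul j fun T x y => ?_, fun T x => by rw [key, pt_bc, hptβ]⟩
  refine (hG.univ T (bc ((x * y) ≫ j) u)).unique (isBaseChange_iff.2 rfl) ?_
  have hm := hG.mul T (x ≫ j) (y ≫ j) _ _ (isBaseChange_iff.2 (rfl : bc (x ≫ j) u = _))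
    (isBaseChange_iff.2 (rfl : bc (y ≫ j) u = _))
  rw [key, key, ← hbc] at hm
  rw [key]
  exact hm

end AVThetaLib
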