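import Groth.Agent.AVThetaLib.Rep
import Mathlib.RingTheory.FiniteType

/-!
A scheme representing the theta group is of finite type.
-/

set_option autoImplicit false
set_option maxHeartbeats 1000000
set_option maxRecDepth 8000
set_option backward.isDefEq.respectTransparency false
set_option linter.style.haveILetI false
set_option linter.unusedSectionVars false

noncomputable section

universe u

open CategoryTheory CategoryTheory.Limits MonoidalCategory CartesianMonoidalCategory MonObj AlgebraicGeometry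
open Pseudofunctor Bicategory ThetaGrp Opposite CubeConsLib

namespace AVThetaLib

variable {k : Type u} [Field k]

theorem finiteType_Gm (S : Scheme.{u}) : LocallyOfFiniteType (Red.Gm S).hom ∧ QuasiCompact (Red.Gm S).hom := by
  haveI : LocallyOfFiniteType (Red.diag (ULift.{u} ℤ) ℤ).hom := by
    show LocallyOfFiniteType (Spec.map (CommRingCat.ofHom (algebraMap (ULift.{u} ℤ) (MonoidAlgebra (ULift.{u} ℤ) (Multiplicative ℤ)))))
    rw [HasRingHomProperty.Spec_iff (P := @LocallyOfFiniteType)]
    haveI : Monoid.FG (Multiplicative ℤ) := inferInstance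
    exact RingHom.finiteType_algebraMap.2 inferInstance
  haveI : QuasiCompact (Red.diag (ULift.{u} ℤ) ℤ).hom :=
    inferInstanceAs (QuasiCompact (Spec.map _))
  exact ⟨MorphismProperty.pullback_snd (P := @LocallyOfFiniteType) _ _ ‹_›,
    MorphismProperty.pullback_snd (P := @QuasiCompact) _ _ ‹_›⟩

variable {A : Over (Spec (CommRingCat.of k))} [GrpObj A] [IsCommMonObj A] [IsProper A.hom] [GeometricallyIntegral A.hom]
  {L : A.left.Modules} (hL : PicF.IsInvertible L)
  {G : Over (Spec (CommRingCat.of k))} [GrpObj G] {u : thetaPts A L G} (hG : IsThetaGrpSch A L G u)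

include hL hG in
theorem finiteType_of_isThetaGrpSch : LocallyOfFiniteType G.hom ∧ CompactSpace G.left := by
  obtain ⟨K, iK, hK⟩ := exists_isKL hL
  haveI := hK.closed
  haveI : Mono iK := Over.mono_of_mono_left _
  have hmz : MumfordZero hL iK := mumfordZero_of_factors hL hK ⟨𝟙 K, Category.id_comp iK⟩
  obtain ⟨y, hy⟩ : ∃ y : G ⟶ K, y ≫ iK = pt u := (hK.univ _ _).1 ((mumfordTriv_iff hL _).2 (mumfordZero_of_pts hL u))
  choose W hW b hb using exists_local_pts hL hmz
  let Gm := Red.Gm (Spec (CommRingCat.of k))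
  haveI : LocallyOfFiniteType Gm.hom := (finiteType_Gm _).1
  haveI : QuasiCompact Gm.hom := (finiteType_Gm _).2
  haveI : LocallyOfFiniteType A.hom := inferInstance
  haveI : IsLocallyNoetherian A.left := LocallyOfFiniteType.isLocallyNoetherian A.hom
  haveI : LocallyOfFiniteType K.hom := by rw [← Over.w iK]; infer_instance
  haveI : IsLocallyNoetherian K.left := LocallyOfFiniteType.isLocallyNoetherian K.hom
  haveI : CompactSpace A.left := QuasiCompact.compactSpace_of_compactSpace A.hom
  haveI : CompactSpace K.left := QuasiCompact.compactSpace_of_compactSpace iK.left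
  haveI : AlgebraicGeometry.IsNoetherian K.left := ⟨⟩
  have key : ∀ p, Nonempty (oo (y.left ⁻¹ᵁ W p) ≅ oo (W p) ⊗ Gm) := fun p => by
    let V := y.left ⁻¹ᵁ W p
    have hw : pt (bc (oi V) u) = ores y (W p) ≫ oi (W p) ≫ iK := by
      rw [pt_bc, ← hy, ← Category.assoc, ← Category.assoc, ores_oi]
    obtain ⟨a, ha, hau⟩ := chart_existsUnique hL (hb p) (bc (oi V) u) (ores y (W p)) hw
    obtain ⟨c, hc, -⟩ := hG.univ _ (chartPt (W p) (b p))
    rw [isBaseChange_iff] at hc
    have hcy : c ≫ y = fst (oo (W p)) Gm ≫ oi (W p) := by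
      rw [← cancel_mono iK, Category.assoc, hy, ← pt_bc, ← hc, chartPt, pt_mul, pt_scal, pt_bc, hb,
        _root_.one_mul, Category.assoc]
    have hr : Set.range c.left ⊆ Set.range V.ι := by
      rw [Scheme.Opens.range_ι]
      rintro _ ⟨z, rfl⟩
      show (c.left ≫ y.left) z ∈ W p
      rw [← Over.comp_left, hcy]
      exact ((fst (oo (W p)) Gm).left z).2
    let c' : oo (W p) ⊗ Gm ⟶ oo V := Over.homMk (IsOpenImmersion.lift V.ι c.left hr) (by
      show _ ≫ V.ι ≫ G.hom = _
      rw [IsOpenImmersion.lift_fac_assoc, Over.w])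
    have hc' : c' ≫ oi V = c := Over.OverMorphism.ext (IsOpenImmersion.lift_fac _ _ _)
    haveI : Mono (oi V) := Over.mono_of_mono_left _
    have h1 : a ≫ c' = 𝟙 _ := by
      rw [← cancel_mono (oi V), Category.assoc, hc', Category.id_comp]
      refine (hG.univ _ (bc (oi V) u)).unique (isBaseChange_iff.2 ?_) (isBaseChange_iff.2 rfl)
      rw [← bc_bc, ← hc, ha]
    have h2 : c' ≫ a = 𝟙 _ := by
      haveI : Mono (oi (W p)) := Over.mono_of_mono_left _
      refine (chart_existsUnique hL (hb p) (chartPt (W p) (b p)) (fst (oo (W p)) Gm) (by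
        rw [← cancel_mono iK] at hcy; rw [hc, pt_bc, ← hy, ← Category.assoc, hcy, Category.assoc])).unique
        (y₁ := c' ≫ a) ?_ (bc_id _)
      rw [← bc_bc, ha, bc_bc, hc', ← hc]
    exact ⟨⟨a, c', h1, h2⟩⟩
  have hft : ∀ p, LocallyOfFiniteType (oo (W p) ⊗ Gm).hom ∧ CompactSpace (oo (W p) ⊗ Gm).left := fun p => by
    haveI : LocallyOfFiniteType (oo (W p)).hom := inferInstanceAs (LocallyOfFiniteType ((W p).ι ≫ K.hom))
    haveI : CompactSpace (oo (W p)).left := isCompact_iff_compactSpace.1 (TopologicalSpace.NoetherianSpace.isCompact _)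
    haveI : LocallyOfFiniteType (fst (oo (W p)) Gm).left :=
      MorphismProperty.pullback_fst (P := @LocallyOfFiniteType) _ _ ‹_›
    haveI : QuasiCompact (fst (oo (W p)) Gm).left :=
      MorphismProperty.pullback_fst (P := @QuasiCompact) _ _ ‹_›
    exact ⟨by rw [← Over.w (fst (oo (W p)) Gm)]; infer_instance,
      QuasiCompact.compactSpace_of_compactSpace (fst (oo (W p)) Gm).left⟩
  constructor
  · refine IsZariskiLocalAtSource.of_iSup_eq_top (fun p => y.left ⁻¹ᵁ W p)
      (top_le_iff.1 fun z _ => TopologicalSpace.Opens.mem_iSup.2 ⟨y.left z, hW (y.left z)⟩) fun p => ?_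
    obtain ⟨e⟩ := key p
    haveI := (hft p).1
    haveI : IsIso e.hom.left := inferInstanceAs (IsIso ((Over.forget _).map e.hom))
    show LocallyOfFiniteType (oo (y.left ⁻¹ᵁ W p)).hom
    rw [← Over.w e.hom]
    infer_instance
  · obtain ⟨s, hs⟩ := isCompact_univ.elim_finite_subcover (fun p : K.left => (W p : Set K.left)) (fun p => (W p).2)
      fun z _ => Set.mem_iUnion.2 ⟨z, hW z⟩
    refine ⟨?_⟩
    have : (Set.univ : Set G.left) = ⋃ p ∈ s, ((y.left ⁻¹ᵁ W p : G.left.Opens) : Set G.left) := by
      refine Set.eq_univ_of_forall (fun z => ?_) |>.symm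
      obtain ⟨p, hp, hz⟩ := Set.mem_iUnion₂.1 (hs (Set.mem_univ (y.left z)))
      exact Set.mem_iUnion₂.2 ⟨p, hp, hz⟩
    rw [this]
    refine s.finite_toSet.isCompact_biUnion fun p _ => ?_
    obtain ⟨e⟩ := key p
    haveI := (hft p).2
    haveI : IsIso e.inv.left := inferInstanceAs (IsIso ((Over.forget _).map e.inv))
    have h := isCompact_range ((e.inv.left ≫ (y.left ⁻¹ᵁ W p).ι).continuous)
    rw [← Scheme.Opens.range_ι]
    convert h using 1
    rw [Scheme.Hom.comp_base, TopCat.coe_comp, Set.range_comp, (e.inv.left.surjective).range_eq, Set.image_univ]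
    rfl

end AVThetaLib
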