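import Groth.Agent.AVThetaLib.DescKernel
import Groth.Agent.AVThetaLib.GFinite
import Groth.Agent.QuotRepLib.Final
import Groth.Agent.MonoQuotLib.QuotGrp
import Groth.Agent.AVAmpleLib.Simple
import Groth.Agent.ProperOverLib.Basic
import Groth.Agent.GrpHomLib.Artin
import Groth.Agent.S5938

/-!
Quotient of an abelian variety by the subgroup under a level subgroup.
-/

set_option autoImplicit false
set_option maxHeartbeats 1000000
set_option maxRecDepth 8000
set_option backward.isDefEq.respectTransparency false
set_option linter.style.haveILetI false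
set_option linter.unusedSectionVars false

noncomputable section

universe u

open CategoryTheory CategoryTheory.Limits MonoidalCategory CartesianMonoidalCategory MonObj AlgebraicGeometry
open Pseudofunctor Bicategory ThetaGrp

namespace AVThetaLib

variable {k : Type u} [Field k]

theorem dominant_of_flat_surjective {X Y : Scheme.{u}} (f : X ⟶ Y) [Flat f] [Surjective f] [QuasiCompact f] :
    IsSchemeTheoreticallyDominant f := by
  rw [isSchemeTheoreticallyDominant_iff]
  refine Scheme.IdealSheafData.ext (funext fun U => ?_)
  rw [Scheme.Hom.ker_apply, Scheme.IdealSheafData.ideal_bot]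
  exact (RingHom.injective_iff_ker_eq_bot _).1 (app_injective_of_flat_surjective f U.1)

/-- A closed subgroup of an abelian variety is the kernel of a surjection to an abelian variety. -/
theorem exists_quotient_kernel (A : Over (Spec (CommRingCat.of k))) [GrpObj A] [IsCommMonObj A] [IsProper A.hom]
    [GeometricallyIntegral A.hom] {H : Over (Spec (CommRingCat.of k))} [GrpObj H] (iH : H ⟶ A) [IsMonHom iH]
    [IsClosedImmersion iH.left] :
    ∃ (B : Over (Spec (CommRingCat.of k))) (_ : GrpObj B) (f : A ⟶ B),
      IsProper B.hom ∧ GeometricallyIntegral B.hom ∧ IsMonHom f ∧ Surjective f.left ∧ AlgGrp.IsKernel iH f := by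
  haveI : Mono iH := Over.mono_of_mono_left _
  haveI : IsArtinianRing k := inferInstance
  haveI : Flat H.hom := inferInstance
  haveI : Flat A.hom := inferInstance
  haveI : LocallyOfFiniteType H.hom := by rw [← Over.w iH]; infer_instance
  obtain ⟨B, p, hp1, hp2, hp3, hsq, hsep, -, -⟩ := Groth.Agent.QuotRep.exists_quotient_artinian iH
  have hsq' : IsPullback (fst A H) ((A ◁ iH) ≫ μ[A]) p p := by
    refine IsPullback.of_iso hsq.flip (β_ H A) (Iso.refl _) (Iso.refl _) (Iso.refl _) ?_ ?_ (by simp) (by simp)
    · simp
    · have e : (A ◁ iH) ≫ μ[A] = fst A H * (snd A H ≫ iH) := by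
        rw [Hom.mul_def]
        congr 1
      rw [Iso.refl_hom, Category.comp_id, Groth.Agent.QuotRep.actHom_eq, e, MonObj.comp_mul, braiding_hom_fst,
        ← Category.assoc, braiding_hom_snd, mul_comm]
  have hN : AlgGrp.IsNormalHom iH := fun T g n => ⟨n, by rw [mul_comm g, mul_inv_cancel_right]⟩
  obtain ⟨gB', hpm⟩ := Groth.Agent.MonoQuot.exists_grpObj_quotient (Groth.Agent.MonoQuot.IsCov.of_fppf p.left) hN hsq'
  letI := gB'
  haveI := hpm
  haveI : LocallyOfFiniteType A.hom := inferInstance
  haveI : IsProper (p.left ≫ B.hom) := by rw [Over.w p]; infer_instance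
  haveI : UniversallyClosed p.left := UniversallyClosed.of_comp_of_isSeparated p.left B.hom
  haveI : LocallyOfFiniteType B.hom := by
    haveI : LocallyOfFiniteType (p.left ≫ B.hom) := inferInstance
    exact Groth.Agent.S5938.result p.left B.hom
  haveI : IsProper B.hom := ProperOverLib.isProper_of_comp_surjective p.left B.hom
  haveI : QuasiCompact p.left := inferInstance
  haveI := dominant_of_flat_surjective p.left
  exact ⟨B, gB', p, inferInstance, AVAmpleLib.geometricallyIntegral_of_dominant p, hpm, hp2,
    Groth.Agent.MonoQuot.isKernel_quotient hsq'⟩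

end AVThetaLib
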