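import Groth.Agent.AVThetaLib.Functor
import Groth.Agent.AVThetaLib.KLExist
import Groth.Prelude.Def_GmPts

/-!
The theta group is representable.
-/

set_option autoImplicit false
set_option maxHeartbeats 1000000
set_option maxRecDepth 8000
set_option backward.isDefEq.respectTransparency false
set_option linter.style.haveILetI false
set_option linter.unusedSectionVars false

noncomputable section

universe u

open CategoryTheory CategoryTheory.Limits MonoidalCategory CartesianMonoidalCategory MonObj AlgebraicGeometry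
open Pseudofunctor Bicategory ThetaGrp Opposite CubeConsLib

namespace AVThetaLib

variable {k : Type u} [Field k] {A : Over (Spec (CommRingCat.of k))} [GrpObj A] {L : A.left.Modules}

section Chart

variable {K : Over (Spec (CommRingCat.of k))} (W : K.left.Opens) (b : thetaPts A L (oo W))

/-- The chart over a piece of `K(L)` with a chosen lift. -/
abbrev chartObj : Over (Spec (CommRingCat.of k)) := oo W ⊗ Red.Gm (Spec (CommRingCat.of k))

/-- Its point. -/
def chartPt : thetaPts A L (chartObj W) :=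
  bc (fst (oo W) (Red.Gm (Spec (CommRingCat.of k)))) b *
    scal A L (chartObj W) (GmPts.unitOfPt (snd (oo W) (Red.Gm (Spec (CommRingCat.of k)))))

theorem bc_chartPt {U : Over (Spec (CommRingCat.of k))} (a : U ⟶ chartObj W) :
    bc a (chartPt W b) = bc (a ≫ fst _ _) b * scal A L U (GmPts.unitOfPt (a ≫ snd _ _)) := by
  rw [chartPt, bc_mul, bc_bc, bc_scal, GmPts.unitOfPt_comp]

variable {W b} [IsProper A.hom] [GeometricallyIntegral A.hom] [IsCommMonObj A] (hL : PicF.IsInvertible L)
  {iK : K ⟶ A} [Mono iK] (hb : pt b = oi W ≫ iK)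

include hL hb in
theorem chart_existsUnique {U : Over (Spec (CommRingCat.of k))} (g : thetaPts A L U) (w : U ⟶ oo W)
    (hw : pt g = w ≫ oi W ≫ iK) : ∃! a : U ⟶ chartObj W, bc a (chartPt W b) = g := by
  obtain ⟨c, hc⟩ := exists_eq_mul_scal hL (α := bc w b) (α' := g) (by rw [pt_bc, hb, hw])
  refine ⟨lift w (GmPts.ptOfUnit c), ?_, fun a ha => ?_⟩
  · dsimp only
    rw [bc_chartPt, lift_fst, lift_snd, GmPts.unitOfPt_ptOfUnit, hc]
  · have hp := congrArg pt ha
    rw [bc_chartPt, pt_mul, pt_scal, pt_bc, hb, _root_.one_mul, hw] at hp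
    haveI : Mono (oi W) := Over.mono_of_mono_left _
    have hfst : a ≫ fst _ _ = w := by
      rw [← cancel_mono (oi W), ← cancel_mono iK, Category.assoc, hp, Category.assoc]
    dsimp only at ha
    rw [bc_chartPt, hfst, hc] at ha
    have h2 := scal_injective hL (mul_left_cancel ha)
    apply CartesianMonoidalCategory.hom_ext
    · rw [hfst, lift_fst]
    · rw [lift_snd, ← GmPts.ptOfUnit_unitOfPt (a ≫ snd _ _), h2]

variable (W b) in
/-- The chart as a morphism of presheaves. -/
def chartMap : yoneda.obj (chartObj W).left ⟶ thetaF A L :=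
  yonedaEquiv.symm (el (chartObj W) (chartPt W b))

theorem chartMap_app {U : Over (Spec (CommRingCat.of k))} (a : U ⟶ chartObj W) :
    (chartMap W b).app (op U.left) a.left = el U (bc a (chartPt W b)) :=
  (yonedaEquiv_symm_app_apply _ _ _).trans (map_el a _)

include hL hb in
theorem chartMap_relative (hcl : ∀ {U : Over (Spec (CommRingCat.of k))} (g : thetaPts A L U), ∃ y : U ⟶ K, y ≫ iK = pt g) :
    IsOpenImmersion.presheaf (chartMap W b) := by
  haveI : Mono iK := ‹_›
  refine MorphismProperty.relative.of_exists fun T g => ?_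
  let e : (thetaF A L).obj (op T) := yonedaEquiv g
  let U : Over (Spec (CommRingCat.of k)) := Over.mk e.1
  let β : thetaPts A L U := e.2
  obtain ⟨y, hy⟩ := hcl β
  let V : U.left.Opens := y.left ⁻¹ᵁ W
  obtain ⟨a, ha, -⟩ := chart_existsUnique hL hb (bc (oi V) β) (ores y W) (by
    rw [pt_bc, ← hy, ← Category.assoc, ← Category.assoc, ores_oi])
  have hg : ∀ (Z : Over (Spec (CommRingCat.of k))) (h : Z ⟶ U), g.app (op Z.left) h.left = el Z (bc h β) := by
    intro Z h
    rw [← map_el h β, show el U β = e from rfl]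
    exact (map_yonedaEquiv g h.left).symm
  refine ⟨(oo V).left, yoneda.map a.left, (oi V).left, ?_, inferInstanceAs (IsOpenImmersion V.ι)⟩
  refine IsPullback.of_forall_isPullback_app fun Z => ?_
  rw [Types.isPullback_iff]
  refine ⟨?_, ?_, ?_⟩
  · ext (h : Z.unop ⟶ (oo V).left)
    let Z' : Over (Spec (CommRingCat.of k)) := Over.mk (h ≫ (oo V).hom)
    let h' : Z' ⟶ oo V := Over.homMk h rfl
    show (chartMap W b).app Z (h ≫ a.left) = g.app Z (h ≫ (oi V).left)
    refine (chartMap_app (U := Z') (h' ≫ a)).trans (Eq.trans ?_ (hg Z' (h' ≫ oi V)).symm)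
    rw [← bc_bc, ha, bc_bc]
  · rintro x₁ x₂ ⟨-, h2⟩
    exact (cancel_mono V.ι).1 (show x₁ ≫ V.ι = x₂ ≫ V.ι from h2)
  · intro (x₂ : Z.unop ⟶ (chartObj W).left) (x₃ : Z.unop ⟶ T) hx
    let Z₂ : Over (Spec (CommRingCat.of k)) := Over.mk (x₂ ≫ (chartObj W).hom)
    let h₂ : Z₂ ⟶ chartObj W := Over.homMk x₂ rfl
    have hx3 : x₃ ≫ U.hom = Z₂.hom := by
      have := congrArg Sigma.fst ((chartMap_app (U := Z₂) h₂).symm.trans hx)
      rw [← map_yonedaEquiv] at this
      exact this.symm
    let h₃ : Z₂ ⟶ U := Over.homMk x₃ hx3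
    have hel : bc h₂ (chartPt W b) = bc h₃ β :=
      el_injective Z₂ ((chartMap_app h₂).symm.trans (hx.trans (hg Z₂ h₃)))
    have hp := congrArg pt hel
    rw [bc_chartPt, pt_mul, pt_scal, pt_bc, hb, _root_.one_mul, pt_bc, ← hy, ← Category.assoc, ← Category.assoc h₃,
      cancel_mono] at hp
    have hr : Set.range x₃ ⊆ Set.range V.ι := by
      rw [Scheme.Opens.range_ι]
      rintro _ ⟨z, rfl⟩
      show (x₃ ≫ y.left) z ∈ W
      rw [show x₃ ≫ y.left = (h₂ ≫ fst _ _).left ≫ W.ι from (congrArg Over.Hom.left hp).symm]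
      exact ((h₂ ≫ fst (oo W) _).left z).2
    let l : Z.unop ⟶ (oo V).left := IsOpenImmersion.lift V.ι x₃ hr
    have hl : l ≫ V.ι = x₃ := IsOpenImmersion.lift_fac _ _ _
    refine ⟨l, ?_, hl⟩
    let l' : Z₂ ⟶ oo V := Over.homMk l (by
      show l ≫ V.ι ≫ U.hom = _
      rw [← Category.assoc, hl, hx3])
    show l ≫ a.left = x₂
    have hw : pt (bc h₃ β) = (h₂ ≫ fst _ _) ≫ oi W ≫ iK := by
      rw [← hel, bc_chartPt, pt_mul, pt_scal, pt_bc, hb, _root_.one_mul]
    refine congrArg Over.Hom.left ((chart_existsUnique hL hb (bc h₃ β) (h₂ ≫ fst _ _) hw).unique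
      (y₁ := l' ≫ a) ?_ hel)
    rw [← bc_bc, ha, bc_bc]
    exact congrArg (fun t => bc t β) (Over.OverMorphism.ext hl)

end Chart

variable [IsProper A.hom] [GeometricallyIntegral A.hom] [IsCommMonObj A] (hL : PicF.IsInvertible L)

include hL in
theorem exists_glued : ∃ (G : Over (Spec (CommRingCat.of k))) (u : thetaPts A L G),
    ∀ T : Over (Spec (CommRingCat.of k)), Function.Bijective (fun g : T ⟶ G => bc g u) := by
  obtain ⟨K, iK, hK⟩ := exists_isKL hL
  haveI := hK.closed
  haveI : Mono iK := Over.mono_of_mono_left _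
  have hmz : MumfordZero hL iK := mumfordZero_of_factors hL hK ⟨𝟙 K, Category.id_comp iK⟩
  have hcl : ∀ {U : Over (Spec (CommRingCat.of k))} (g : thetaPts A L U), ∃ y : U ⟶ K, y ≫ iK = pt g := fun g =>
    (hK.univ _ _).1 ((mumfordTriv_iff hL _).2 (mumfordZero_of_pts hL g))
  choose W hW b hb using exists_local_pts hL hmz
  let F : Sheaf Scheme.zariskiTopology.{u} (Type u) := ⟨thetaF A L, isSheaf_thetaF hL⟩
  let f : ∀ p : K.left, yoneda.obj (chartObj (W p)).left ⟶ F.1 := fun p => chartMap (W p) (b p)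
  have hf : ∀ p, IsOpenImmersion.presheaf (f p) := fun p => chartMap_relative hL (hb p) hcl
  haveI : Presheaf.IsLocallySurjective Scheme.zariskiTopology (Sigma.desc f) := ⟨fun {T} e => by
    let U : Over (Spec (CommRingCat.of k)) := Over.mk (Sigma.fst (e : (thetaF A L).obj (op T)))
    let β : thetaPts A L U := Sigma.snd (e : (thetaF A L).obj (op T))
    obtain ⟨y, hy⟩ := hcl β
    let V : U.left → U.left.Opens := fun x => y.left ⁻¹ᵁ W (y.left x)
    let 𝒰 : U.left.OpenCover := U.left.openCoverOfIsOpenCover V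
      (top_le_iff.1 fun x _ => TopologicalSpace.Opens.mem_iSup.2 ⟨x, hW (y.left x)⟩)
    refine GrothendieckTopology.superset_covering _ ?_ 𝒰.mem_grothendieckTopology
    rw [Sieve.generate_le_iff]
    rintro _ _ ⟨x⟩
    let p := y.left x
    obtain ⟨a, ha, -⟩ := chart_existsUnique hL (hb p) (bc (oi (V x)) β) (ores y (W p)) (by
      rw [pt_bc, ← hy, ← Category.assoc, ← Category.assoc, ores_oi])
    refine ⟨(Sigma.ι (fun p => yoneda.obj (chartObj (W p)).left) p).app _ a.left, ?_⟩
    show ((Sigma.ι _ p) ≫ Sigma.desc f).app _ a.left = _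
    rw [Sigma.ι_desc]
    refine (chartMap_app a).trans ?_
    rw [ha]
    exact (map_el (oi (V x)) β).symm⟩
  let R := Scheme.LocalRepresentability.representableBy hf
  let Gs := (Scheme.LocalRepresentability.glueData hf).glued
  let e₀ : (thetaF A L).obj (op Gs) := R.homEquiv (𝟙 Gs)
  let G : Over (Spec (CommRingCat.of k)) := Over.mk e₀.1
  have hR : ∀ {T : Over (Spec (CommRingCat.of k))} (g : T ⟶ G), R.homEquiv g.left = el T (bc g e₀.2) := fun {T} g => by
    rw [← map_el g e₀.2]
    exact (congrArg R.homEquiv (Category.comp_id g.left).symm).trans (R.homEquiv_comp g.left (𝟙 Gs))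
  refine ⟨G, e₀.2, fun T => ⟨fun g g' h => ?_, fun β => ?_⟩⟩
  · refine Over.OverMorphism.ext (R.homEquiv.injective ?_)
    rw [hR, hR]
    exact congrArg (el T) h
  · let g₀ : T.left ⟶ Gs := R.homEquiv.symm (el T β)
    have h1 : (thetaF A L).map g₀.op e₀ = el T β := by
      rw [show (thetaF A L).map g₀.op e₀ = R.homEquiv (g₀ ≫ 𝟙 Gs) from (R.homEquiv_comp g₀ (𝟙 Gs)).symm,
        Category.comp_id, Equiv.apply_symm_apply]
    let g : T ⟶ G := Over.homMk g₀ (congrArg Sigma.fst h1)
    exact ⟨g, el_injective T (((hR g).symm.trans (Equiv.apply_symm_apply _ _)))⟩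

include hL in
theorem exists_isThetaGrpSch :
    ∃ (G : Over (Spec (CommRingCat.of k))) (_ : GrpObj G) (u : thetaPts A L G), IsThetaGrpSch A L G u := by
  obtain ⟨G, u, hu⟩ := exists_glued hL
  let Φ : (Over (Spec (CommRingCat.of k)))ᵒᵖ ⥤ GrpCat.{u} :=
    { obj := fun T => GrpCat.of (thetaPts A L T.unop)
      map := fun g => GrpCat.ofHom (bcHom g.unop)
      map_id := fun T => GrpCat.hom_ext (MonoidHom.ext fun x => bc_id x)
      map_comp := fun g h => GrpCat.hom_ext (MonoidHom.ext fun x => (bc_bc h.unop g.unop x).symm) }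
  let α : (Φ ⋙ forget _).RepresentableBy G :=
    { homEquiv := fun {T} => Equiv.ofBijective _ (hu T)
      homEquiv_comp := fun h g => (bc_bc h g u).symm }
  letI grp : GrpObj G := GrpObj.ofRepresentableBy G Φ α
  refine ⟨G, grp, u, fun T β => ?_, fun T g => ⟨bc g u, isBaseChange_iff.2 rfl, fun y hy => isBaseChange_iff.1 hy⟩,
    fun T g h β₁ β₂ h₁ h₂ => ?_⟩
  · obtain ⟨g, hg⟩ := (hu T).2 β
    exact ⟨g, isBaseChange_iff.2 hg.symm, fun g' hg' => (hu T).1 ((isBaseChange_iff.1 hg').symm.trans hg.symm)⟩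
  · rw [isBaseChange_iff] at h₁ h₂ ⊢
    subst h₁ h₂
    have hμ : bc μ[G] u = bc (fst G G) u * bc (snd G G) u :=
      Equiv.apply_symm_apply (Equiv.ofBijective _ (hu (G ⊗ G))) _
    rw [Hom.mul_def, ← bc_bc, hμ, bc_mul, bc_bc, bc_bc, lift_fst, lift_snd]

end AVThetaLib
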