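import Groth.Agent.AVThetaLib.Transport
import Groth.Agent.AVThetaLib.QuotKernel
import Groth.Agent.AVThetaLib.NSplit
import Groth.Agent.AVThetaLib.KLExist
import Groth.Agent.AVThetaLib.Rep
import Groth.Agent.AVIndexLib.DualHom

/-!
The quotient by an isotropic finite subgroup, and the orthogonal of the subgroup.
-/

set_option autoImplicit false
set_option maxHeartbeats 1000000
set_option maxRecDepth 8000
set_option backward.isDefEq.respectTransparency false
set_option linter.style.haveILetI false
set_option linter.unusedSectionVars false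

noncomputable section

universe u

open CategoryTheory CategoryTheory.Limits MonoidalCategory CartesianMonoidalCategory MonObj AlgebraicGeometry
open Pseudofunctor Bicategory ThetaGrp CubeConsLib

namespace AVThetaLib

variable {k : Type u} [Field k]

theorem isFinite_of_finite_isKernel {A B N : Over (Spec (CommRingCat.of k))} [GrpObj A] [GrpObj B] [IsProper A.hom]
    [IsProper B.hom] [IsFinite N.hom] {i : N ⟶ A} {f : A ⟶ B} [IsMonHom f] (hN : AlgGrp.IsKernel i f) :
    IsFinite f.left := by
  refine AVIndexLib.isFinite_of_finite_kernel f ?_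
  haveI : Finite N.left := by
    haveI : Finite ↥(Spec (CommRingCat.of k)) := inferInstanceAs (Finite (PrimeSpectrum k))
    refine Set.finite_univ_iff.1 ?_
    have : (Set.univ : Set N.left) = ⋃ s : ↥(Spec (CommRingCat.of k)), N.hom ⁻¹' {s} := by ext x; simp
    rw [this]
    exact Set.finite_iUnion fun s => IsFinite.finite_preimage_singleton N.hom s
  refine (Set.finite_range i.left).subset fun x hx => ?_
  obtain ⟨n, h1, -⟩ := Scheme.Pullback.exists_preimage_pullback (f := f.left)
    (g := (η[B] : 𝟙_ (Over (Spec (CommRingCat.of k))) ⟶ B).left) x (IsLocalRing.closedPoint k) hx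
  have hsq : IsPullback i.left (toUnit N).left f.left (η[B] : 𝟙_ (Over (Spec (CommRingCat.of k))) ⟶ B).left :=
    hN.map (Over.forget _)
  exact ⟨hsq.isoPullback.inv n, (Scheme.Hom.comp_apply _ i.left n).symm.trans
    ((congrArg (fun g : _ ⟶ A.left => g n) hsq.isoPullback_inv_fst).trans h1)⟩

variable {A : Over (Spec (CommRingCat.of k))} [GrpObj A] [IsCommMonObj A] [IsProper A.hom]
  [GeometricallyIntegral A.hom] {L : A.left.Modules} (hL : PicF.IsInvertible L)

theorem isPerpPt_comp {H : Over (Spec (CommRingCat.of k))} {iH : H ⟶ A} {T U : Over (Spec (CommRingCat.of k))}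
    {x : T ⟶ A} (h : IsPerpPt L iH x) (g : U ⟶ T) : IsPerpPt L iH (g ≫ x) := fun T' t y β₁ β₂ h₁ h₂ =>
  h T' (t ≫ g) y β₁ β₂ (by rwa [Category.assoc]) h₂

variable [IsAlgClosed k]

include hL in
/-- The quotient by an isotropic finite subgroup: `L` descends, and the points going to `K(M)` are the points of `K(L)`
orthogonal to the subgroup. -/
theorem exists_perp_quotient {R : Over (Spec (CommRingCat.of k))} [GrpObj R] (iR : R ⟶ A) [IsMonHom iR]
    [IsClosedImmersion iR.left] [IsFinite R.hom] (hR : MumfordZero hL iR) (hiso : IsIsotropic L iR) :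
    ∃ (B : Over (Spec (CommRingCat.of k))) (_ : GrpObj B) (_ : IsProper B.hom) (_ : GeometricallyIntegral B.hom)
      (f : A ⟶ B) (_ : IsMonHom f) (_ : IsFinite f.left) (_ : Surjective f.left) (M : B.left.Modules)
      (hM : PicF.IsInvertible M), AlgGrp.IsKernel iR f ∧
        Nonempty ((Scheme.Modules.pullback f.left).obj M ≅ L) ∧
        ∀ (T : Over (Spec (CommRingCat.of k))) (x : T ⟶ A),
          MumfordZero hM (x ≫ f) ↔ MumfordZero hL x ∧ IsPerpPt L iR x := by
  obtain ⟨B, hBg, f, hBp, hBi, hfm, hfs, hN⟩ := exists_quotient_kernel A iR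
  haveI := hfm
  haveI := hfs
  haveI := hBp
  haveI := hBi
  haveI : IsFinite f.left := isFinite_of_finite_isKernel hN
  haveI : IsCommMonObj B := CubeConsLib.isCommMonObj_field
  haveI : Mono iR := mono_of_isKernel f hN
  obtain ⟨G, hGrp, u, hG⟩ := exists_isThetaGrpSch (L := L) hL
  obtain ⟨j, hj, hover⟩ := exists_lift_of_isotropic hL iR hG hR hiso
  haveI := hj
  obtain ⟨M, hM, ⟨e⟩⟩ := exists_descent_of_lift hN hL hG hover
  have hP := AmpleDevLib.isInvertible_pb f.left hM
  refine ⟨B, hBg, hBp, hBi, f, hfm, inferInstance, hfs, M, hM, hN, ⟨e⟩, fun T x => ⟨fun h => ⟨?_, ?_⟩, ?_⟩⟩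
  · exact mumfordZero_of_iso hP hL e (mumfordZero_pullback hM h)
  · refine isPerpPt_of_iso e fun T' t y β₁ β₂ h₁ h₂ => commute_of_mumfordZero hM ?_ ?_
    · rw [pt_eq_of_isOverPt h₁, Category.assoc]
      exact mumfordZero_comp hM h t
    · rw [pt_eq_of_isOverPt h₂]
      exact kernel_comp f hN y
  · rintro ⟨hx, hperp⟩
    obtain ⟨KM, iM, hKM⟩ := exists_isKL hM
    refine mumfordZero_of_factors hM hKM (factors_of_local_pts hM hKM (x ≫ f) fun t => ?_)
    obtain ⟨V, htV, α', hα'⟩ := exists_local_pts hP (mumfordZero_of_iso hL hP e.symm hx) t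
    have hperp' := isPerpPt_of_iso e.symm (isPerpPt_comp hperp (oi V))
    obtain ⟨α, hα⟩ := exists_pts_of_commute hM α' fun T' s n hn => by
      obtain ⟨y, hy⟩ := exists_lift_kernel hN n hn
      exact hperp' T' s y _ _ (isOverPt_iff.2 (by rw [pt_bc, hα'])) (isOverPt_iff.2 (by rw [pt_dlift, hy]))
    exact ⟨V, htV, α, by rw [hα, hα', Category.assoc]⟩

end AVThetaLib
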