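import Groth.Agent.AVThetaLib.Radical
import Groth.Agent.AVThetaLib.PerpQuot

/-!
Subgroup schemes from closure conditions on points, and orthogonals inside a finite subgroup.
-/

set_option autoImplicit false
set_option maxHeartbeats 1000000
set_option maxRecDepth 8000
set_option backward.isDefEq.respectTransparency false
set_option linter.style.haveILetI false
set_option linter.unusedSectionVars false

noncomputable section

universe u

open CategoryTheory CategoryTheory.Limits MonoidalCategory CartesianMonoidalCategory MonObj AlgebraicGeometry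
open Pseudofunctor Bicategory ThetaGrp CubeConsLib
open scoped commutatorElement

namespace AVThetaLib

variable {k : Type u} [Field k] {A : Over (Spec (CommRingCat.of k))} [GrpObj A]

/-- A monomorphism whose points form subgroups is a subgroup. -/
theorem exists_grpObj_sub {W : Over (Spec (CommRingCat.of k))} (iW : W ⟶ A) [Mono iW]
    (h1 : ∀ T : Over (Spec (CommRingCat.of k)), ∃ w : T ⟶ W, w ≫ iW = 1)
    (hmul : ∀ (T : Over (Spec (CommRingCat.of k))) (a b : T ⟶ W), ∃ w : T ⟶ W, w ≫ iW = (a ≫ iW) * (b ≫ iW))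
    (hinv : ∀ (T : Over (Spec (CommRingCat.of k))) (a : T ⟶ W), ∃ w : T ⟶ W, w ≫ iW = (a ≫ iW)⁻¹) :
    ∃ _ : GrpObj W, IsMonHom iW := by
  let Sub : ∀ T : Over (Spec (CommRingCat.of k)), Subgroup (T ⟶ A) := fun T =>
    { carrier := {x | ∃ w : T ⟶ W, w ≫ iW = x}
      one_mem' := h1 T
      mul_mem' := fun {a b} ha hb => by
        obtain ⟨wa, rfl⟩ := ha
        obtain ⟨wb, rfl⟩ := hb
        exact hmul T wa wb
      inv_mem' := fun {a} ha => by
        obtain ⟨wa, rfl⟩ := ha
        exact hinv T wa }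
  let Φ : (Over (Spec (CommRingCat.of k)))ᵒᵖ ⥤ GrpCat.{u} :=
    { obj := fun T => GrpCat.of (Sub T.unop)
      map := fun {T U} g => GrpCat.ofHom (MonoidHom.mk' (fun x => ⟨g.unop ≫ x.1, by
          obtain ⟨w, hw⟩ := x.2
          exact ⟨g.unop ≫ w, by rw [Category.assoc, hw]⟩⟩)
        fun x y => Subtype.ext (MonObj.comp_mul _ _ _))
      map_id := fun T => GrpCat.hom_ext (MonoidHom.ext fun x => Subtype.ext (Category.id_comp x.1))
      map_comp := fun g h => GrpCat.hom_ext (MonoidHom.ext fun x => Subtype.ext (Category.assoc _ _ _)) }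
  let α : (Φ ⋙ forget _).RepresentableBy W :=
    { homEquiv := fun {T} => Equiv.ofBijective (fun w => (⟨w ≫ iW, w, rfl⟩ : Sub T))
        ⟨fun a b h => (cancel_mono iW).1 (congrArg Subtype.val h), fun x => by
          obtain ⟨w, hw⟩ := x.2
          exact ⟨w, Subtype.ext hw⟩⟩
      homEquiv_comp := fun h g => Subtype.ext (Category.assoc _ _ _) }
  letI grp : GrpObj W := GrpObj.ofRepresentableBy W Φ α
  have hμ : μ[W] ≫ iW = (fst W W ≫ iW) * (snd W W ≫ iW) :=
    congrArg Subtype.val (Equiv.apply_symm_apply (α.homEquiv (X := W ⊗ W)) _)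
  exact ⟨grp, isMonHom_of_mul iW fun T x y => by
    rw [Hom.mul_def, Category.assoc, hμ, MonObj.comp_mul, lift_fst_assoc, lift_snd_assoc]⟩

variable [IsCommMonObj A] [IsProper A.hom] [GeometricallyIntegral A.hom] {L : A.left.Modules}
  (hL : PicF.IsInvertible L)

include hL in
/-- The orthogonal of a finite scheme inside a finite subgroup, as a closed subgroup. -/
theorem exists_perp_sub {S H : Over (Spec (CommRingCat.of k))} [GrpObj S] (iS : S ⟶ A) [IsMonHom iS]
    [IsClosedImmersion iS.left] [IsFinite S.hom] [IsFinite H.hom] (iH : H ⟶ A) (hS : MumfordZero hL iS)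
    (hH : MumfordZero hL iH) :
    ∃ (P : Over (Spec (CommRingCat.of k))) (_ : GrpObj P) (j : P ⟶ S) (_ : IsMonHom (j ≫ iS))
      (_ : IsClosedImmersion j.left) (_ : IsClosedImmersion (j ≫ iS).left) (_ : IsFinite P.hom),
      MumfordZero hL (j ≫ iS) ∧ IsPerpPt L iH (j ≫ iS) ∧
      ∀ (T : Over (Spec (CommRingCat.of k))) (y : T ⟶ S), IsPerpPt L iH (y ≫ iS) → ∃ z : T ⟶ P, z ≫ j = y := by
  have hz : ∀ {T : Over (Spec (CommRingCat.of k))} (y : T ⟶ S), MumfordZero hL (y ≫ iS) := fun y =>
    mumfordZero_comp hL hS y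
  obtain ⟨c, hc⟩ := exists_pairing hL (hz (fst S H)) (mumfordZero_comp hL hH (snd S H))
  obtain ⟨P, j, hcl, hR0, hRuniv⟩ := exists_zero_locus ((c : Γ((S ⊗ H).left, ⊤)) - 1)
  have hperp : IsPerpPt L iH (j ≫ iS) := by
    intro T' t y β₁ β₂ h₁ h₂
    have hc1 := hc.comp (lift (t ≫ j) y)
    rw [← Category.assoc (lift (t ≫ j) y), ← Category.assoc (lift (t ≫ j) y), lift_fst, lift_snd] at hc1
    have e1 : uP (lift (t ≫ j) y) c = 1 := by
      refine Units.ext (sub_eq_zero.1 ?_)
      have e := congrArg (pullΓ (lift t y)) hR0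
      rw [← pullΓ_comp, map_zero, lift_whiskerRight, map_sub, map_one] at e
      exact e
    rw [e1] at hc1
    exact hc1.commute hL β₁ β₂ (by rw [pt_eq_of_isOverPt h₁]; simp only [Category.assoc]) (pt_eq_of_isOverPt h₂)
  have huniv : ∀ {T : Over (Spec (CommRingCat.of k))} (y : T ⟶ S), IsPerpPt L iH (y ≫ iS) →
      ∃ w : T ⟶ P, w ≫ j = y := fun {T} y hy => by
    refine hRuniv T y ?_
    have hc1 := hc.comp (y ▷ H)
    rw [← Category.assoc (y ▷ H), ← Category.assoc (y ▷ H), whiskerRight_fst, whiskerRight_snd] at hc1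
    have h1 : IsPairing L ((fst T H ≫ y) ≫ iS) (snd T H ≫ iH) 1 := fun U g α β hα hβ => by
      rw [map_one, map_one, commutatorElement_eq_one_iff_mul_comm]
      exact hy U (g ≫ fst T H) (g ≫ snd T H) α β (isOverPt_iff.2 (by rw [hα]; simp only [Category.assoc]))
        (isOverPt_iff.2 (by rw [hβ]; simp only [Category.assoc]))
    have e := congrArg Units.val (pairing_unique hL (hz _) (mumfordZero_comp hL hH _) hc1 h1)
    rw [map_sub, map_one, sub_eq_zero]
    exact e
  haveI : IsClosedImmersion j.left := hcl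
  haveI : Mono j := Over.mono_of_mono_left _
  haveI : Mono iS := Over.mono_of_mono_left _
  obtain ⟨grp, hm⟩ := exists_grpObj_sub (j ≫ iS)
    (fun T => by
      obtain ⟨w, hw⟩ := huniv (1 : T ⟶ S) (by rw [MonObj.one_comp]; exact isPerpPt_one hL)
      exact ⟨w, by rw [← Category.assoc, hw, MonObj.one_comp]⟩)
    (fun T a b => by
      have hp : ∀ w : T ⟶ P, IsPerpPt L iH ((w ≫ j) ≫ iS) := fun w => by
        rw [Category.assoc]; exact isPerpPt_comp hperp w
      obtain ⟨w, hw⟩ := huniv ((a ≫ j) * (b ≫ j)) (by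
        rw [MonObj.mul_comp]; exact isPerpPt_mul hL (hz _) (hp a) (hp b))
      exact ⟨w, by rw [← Category.assoc, hw, MonObj.mul_comp, Category.assoc, Category.assoc]⟩)
    (fun T a => by
      obtain ⟨w, hw⟩ := huniv ((a ≫ j)⁻¹) (by
        rw [GrpObj.inv_comp, Category.assoc]; exact isPerpPt_inv hL (isPerpPt_comp hperp a))
      exact ⟨w, by rw [← Category.assoc, hw, GrpObj.inv_comp, Category.assoc]⟩)
  haveI : IsClosedImmersion (j ≫ iS).left := inferInstanceAs (IsClosedImmersion (j.left ≫ iS.left))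
  haveI : IsFinite P.hom := by rw [← Over.w j]; infer_instance
  exact ⟨P, grp, j, hm, hcl, inferInstance, inferInstance, mumfordZero_comp hL hS j, hperp, fun T y hy => huniv y hy⟩

end AVThetaLib
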