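import Mathlib.AlgebraicGeometry.Restrict

/-!
Gluing of functions and of invertible functions given on the members of an open cover.
-/

set_option autoImplicit false
set_option backward.isDefEq.respectTransparency false

noncomputable section

universe u

open CategoryTheory AlgebraicGeometry TopologicalSpace

namespace AVThetaLib

variable {X : Scheme.{u}} {ι : Type u} (V : ι → X.Opens) (hV : ∀ x : X, ∃ i, x ∈ V i)

theorem topIso_homOfLE {U W : X.Opens} (h : W ≤ U) (a : Γ((U : Scheme.{u}), ⊤)) :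
    W.topIso.hom ((X.homOfLE h).appTop a) = X.presheaf.map (homOfLE h).op (U.topIso.hom a) := by
  rw [← ConcreteCategory.comp_apply, ← ConcreteCategory.comp_apply]
  congr! 2
  simp [Scheme.Opens.topIso_hom, ← Functor.map_comp]

theorem topIso_ι (U : X.Opens) (a : Γ(X, ⊤)) :
    U.topIso.hom (U.ι.appTop a) = X.presheaf.map (homOfLE (le_top : U ≤ ⊤)).op a := by
  rw [← ConcreteCategory.comp_apply]
  congr! 2
  simp [Scheme.Opens.topIso_hom, ← Functor.map_comp]

include hV in
theorem fun_ext {a b : Γ(X, ⊤)} (h : ∀ i, (V i).ι.appTop a = (V i).ι.appTop b) : a = b := by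
  refine X.sheaf.eq_of_locally_eq' V ⊤ (fun i => homOfLE le_top)
    (fun x _ => Opens.mem_iSup.2 (hV x)) a b fun i => ?_
  show X.presheaf.map _ a = X.presheaf.map _ b
  rw [← topIso_ι, ← topIso_ι, h i]

include hV in
theorem exists_fun (c : ∀ i, Γ((V i : Scheme.{u}), ⊤))
    (hc : ∀ i j, (X.homOfLE (inf_le_left : V i ⊓ V j ≤ V i)).appTop (c i) =
      (X.homOfLE (inf_le_right : V i ⊓ V j ≤ V j)).appTop (c j)) :
    ∃ a : Γ(X, ⊤), ∀ i, (V i).ι.appTop a = c i := by
  obtain ⟨a, ha, -⟩ := X.sheaf.existsUnique_gluing' V ⊤ (fun i => homOfLE le_top)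
    (fun x _ => Opens.mem_iSup.2 (hV x)) (fun i => (V i).topIso.hom (c i)) fun i j => by
      show X.presheaf.map (homOfLE (inf_le_left : V i ⊓ V j ≤ V i)).op ((V i).topIso.hom (c i)) =
        X.presheaf.map (homOfLE (inf_le_right : V i ⊓ V j ≤ V j)).op ((V j).topIso.hom (c j))
      rw [← topIso_homOfLE, ← topIso_homOfLE, hc i j]
  refine ⟨a, fun i => (ConcreteCategory.bijective_of_isIso (V i).topIso.hom).1 ?_⟩
  rw [topIso_ι]
  exact ha i

include hV in
theorem units_ext {a b : Γ(X, ⊤)ˣ}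
    (h : ∀ i, Units.map (V i).ι.appTop.hom.toMonoidHom a = Units.map (V i).ι.appTop.hom.toMonoidHom b) : a = b :=
  Units.ext (fun_ext V hV fun i => congrArg Units.val (h i))

include hV in
theorem exists_units (c : ∀ i, Γ((V i : Scheme.{u}), ⊤)ˣ)
    (hc : ∀ i j, Units.map (X.homOfLE (inf_le_left : V i ⊓ V j ≤ V i)).appTop.hom.toMonoidHom (c i) =
      Units.map (X.homOfLE (inf_le_right : V i ⊓ V j ≤ V j)).appTop.hom.toMonoidHom (c j)) :
    ∃ a : Γ(X, ⊤)ˣ, ∀ i, Units.map (V i).ι.appTop.hom.toMonoidHom a = c i := by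
  obtain ⟨a, ha⟩ := exists_fun V hV (fun i => (c i).1) fun i j => congrArg Units.val (hc i j)
  obtain ⟨b, hb⟩ := exists_fun V hV (fun i => ((c i)⁻¹ : Γ((V i : Scheme.{u}), ⊤)ˣ).1) fun i j => by
    have := congrArg (fun u => (u⁻¹).1) (hc i j)
    simpa [map_inv] using this
  have h1 : a * b = 1 := fun_ext V hV fun i => by rw [map_mul, map_one, ha, hb, Units.mul_inv]
  exact ⟨⟨a, b, h1, (mul_comm b a).trans h1⟩, fun i => Units.ext (ha i)⟩

end AVThetaLib
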