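import Groth.Agent.AVThetaLib.Exist
import Groth.Agent.AVThetaLib.Glue
import Mathlib.Algebra.Group.Commutator

/-!
The commutator pairing `e_L` as a function on the parameter scheme.
-/

set_option autoImplicit false
set_option maxHeartbeats 1000000
set_option maxRecDepth 8000
set_option backward.isDefEq.respectTransparency false
set_option linter.style.haveILetI false
set_option linter.unusedSectionVars false

noncomputable section

universe u

open CategoryTheory CategoryTheory.Limits MonoidalCategory CartesianMonoidalCategory MonObj AlgebraicGeometry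
open Pseudofunctor Bicategory ThetaGrp CubeConsLib
open scoped commutatorElement

namespace AVThetaLib

variable {k : Type u} [Field k] {A : Over (Spec (CommRingCat.of k))} [GrpObj A]
  {L : A.left.Modules} {T U W : Over (Spec (CommRingCat.of k))}

/-- Pullback of invertible functions. -/
abbrev uP (g : U ⟶ T) : Γ(T.left, ⊤)ˣ →* Γ(U.left, ⊤)ˣ := Units.map g.left.appTop.hom.toMonoidHom

theorem uP_uP (g : W ⟶ U) (h : U ⟶ T) (c : Γ(T.left, ⊤)ˣ) : uP g (uP h c) = uP (g ≫ h) c := by
  refine Units.ext ?_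
  show g.left.appTop (h.left.appTop c.1) = (g ≫ h).left.appTop c.1
  rw [Over.comp_left, Scheme.Hom.comp_appTop, ConcreteCategory.comp_apply]

/-- An open of the parameter scheme, over the base. -/
abbrev oo {T : Over (Spec (CommRingCat.of k))} (V : T.left.Opens) : Over (Spec (CommRingCat.of k)) :=
  Over.mk (V.ι ≫ T.hom)

/-- Its inclusion. -/
abbrev oi {T : Over (Spec (CommRingCat.of k))} (V : T.left.Opens) : oo V ⟶ T := Over.homMk V.ι rfl

/-- Inclusions of opens. -/
abbrev ol {T : Over (Spec (CommRingCat.of k))} {V V' : T.left.Opens} (h : V ≤ V') : oo V ⟶ oo V' :=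
  Over.homMk (T.left.homOfLE h) (Scheme.homOfLE_ι_assoc _ h _)

theorem ol_oi {V V' : T.left.Opens} (h : V ≤ V') : ol h ≫ oi V' = oi V :=
  Over.OverMorphism.ext (Scheme.homOfLE_ι _ h)

/-- The restriction of a morphism over a preimage. -/
abbrev ores (g : U ⟶ T) (V : T.left.Opens) : oo (g.left ⁻¹ᵁ V) ⟶ oo V :=
  Over.homMk (g.left ∣_ V) (by
    show _ ≫ V.ι ≫ T.hom = _ ≫ U.hom
    rw [morphismRestrict_ι_assoc, Over.w])

theorem ores_oi (g : U ⟶ T) (V : T.left.Opens) : ores g V ≫ oi V = oi (g.left ⁻¹ᵁ V) ≫ g :=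
  Over.OverMorphism.ext (morphismRestrict_ι _ _)

variable [IsProper A.hom] [GeometricallyIntegral A.hom] [IsCommMonObj A] (hL : PicF.IsInvertible L)

theorem pt_commutator (α β : thetaPts A L T) : pt ⁅α, β⁆ = 1 := by
  rw [commutatorElement_def, pt_mul, pt_mul, pt_mul, pt_inv, pt_inv, mul_comm (pt β) (pt α),
    inv_mul_cancel_left, inv_mul_cancel]

theorem bc_commutator (g : U ⟶ T) (α β : thetaPts A L T) : bc g ⁅α, β⁆ = ⁅bc g α, bc g β⁆ :=
  map_commutatorElement (bcHom g) α β

include hL in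
theorem commutator_congr {α α' β β' : thetaPts A L T} (hα : pt α = pt α') (hβ : pt β = pt β') :
    ⁅α, β⁆ = ⁅α', β'⁆ := by
  obtain ⟨a, rfl⟩ := exists_eq_mul_scal hL hα
  obtain ⟨b, rfl⟩ := exists_eq_mul_scal hL hβ
  have ha : ∀ γ' : thetaPts A L T, Commute (scal A L T a) γ' := fun γ' => (scal_central a γ').symm
  have hb : ∀ γ' : thetaPts A L T, Commute (scal A L T b) γ' := fun γ' => (scal_central b γ').symm
  rw [commutatorElement_def, commutatorElement_def, mul_inv_rev, mul_inv_rev]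
  symm
  calc α * scal A L T a * (β * scal A L T b) * ((scal A L T a)⁻¹ * α⁻¹) * ((scal A L T b)⁻¹ * β⁻¹)
      = α * β * scal A L T a * scal A L T b * (scal A L T a)⁻¹ * α⁻¹ * (scal A L T b)⁻¹ * β⁻¹ := by
        simp only [_root_.mul_assoc]
        rw [(ha β).left_comm]
    _ = α * β * (scal A L T b * α⁻¹ * (scal A L T b)⁻¹) * β⁻¹ := by
        simp only [_root_.mul_assoc]
        rw [← (ha (scal A L T b)).inv_left.left_comm, mul_inv_cancel_left]
    _ = α * β * α⁻¹ * β⁻¹ := by
        rw [(hb α⁻¹).eq, mul_inv_cancel_right]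

variable (L) in
/-- `c` is the value of the pairing at the points `x`, `y`. -/
def IsPairing (x y : T ⟶ A) (c : Γ(T.left, ⊤)ˣ) : Prop :=
  ∀ (U : Over (Spec (CommRingCat.of k))) (g : U ⟶ T) (α β : thetaPts A L U),
    pt α = g ≫ x → pt β = g ≫ y → ⁅α, β⁆ = scal A L U (uP g c)

theorem IsPairing.comp {x y : T ⟶ A} {c : Γ(T.left, ⊤)ˣ} (h : IsPairing L x y c) (g : U ⟶ T) :
    IsPairing L (g ≫ x) (g ≫ y) (uP g c) := fun V j α β hα hβ => by
  rw [uP_uP]
  exact h V (j ≫ g) α β (by rw [hα, Category.assoc]) (by rw [hβ, Category.assoc])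

include hL in
theorem exists_pairing {x y : T ⟶ A} (hx : MumfordZero hL x) (hy : MumfordZero hL y) :
    ∃ c, IsPairing L x y c := by
  have hloc : ∀ t : T.left, ∃ (V : T.left.Opens), t ∈ V ∧ ∃ (α β : thetaPts A L (oo V)),
      pt α = oi V ≫ x ∧ pt β = oi V ≫ y := fun t => by
    obtain ⟨V₁, h₁, α, hα⟩ := exists_local_pts hL hx t
    obtain ⟨V₂, h₂, β, hβ⟩ := exists_local_pts hL hy t
    refine ⟨V₁ ⊓ V₂, ⟨h₁, h₂⟩, bc (ol inf_le_left) α, bc (ol inf_le_right) β, ?_, ?_⟩
    · rw [pt_bc, hα, ← Category.assoc]; exact congrArg (· ≫ x) (ol_oi _)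
    · rw [pt_bc, hβ, ← Category.assoc]; exact congrArg (· ≫ y) (ol_oi _)
  choose V htV α β hα hβ using hloc
  choose c hc using fun t => exists_scal hL (pt_commutator (α t) (β t))
  have compat : ∀ i j, uP (ol (inf_le_left : V i ⊓ V j ≤ V i)) (c i) =
      uP (ol (inf_le_right : V i ⊓ V j ≤ V j)) (c j) := fun i j => by
    refine scal_injective hL ?_
    rw [← bc_scal, ← bc_scal, ← hc, ← hc, bc_commutator, bc_commutator]
    refine commutator_congr hL ?_ ?_
    · rw [pt_bc, pt_bc, hα, hα, ← Category.assoc, ← Category.assoc, ol_oi, ol_oi]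
    · rw [pt_bc, pt_bc, hβ, hβ, ← Category.assoc, ← Category.assoc, ol_oi, ol_oi]
  obtain ⟨a, ha⟩ := exists_units V (fun t => ⟨t, htV t⟩) c compat
  refine ⟨a, fun U g α' β' hα' hβ' => pts_eq_of_local hL fun s => ⟨g.left ⁻¹ᵁ V (g.left s), htV _, ?_⟩⟩
  let t := g.left s
  show bc (oi _) ⁅α', β'⁆ = bc (oi _) (scal A L U (uP g a))
  rw [bc_commutator, commutator_congr hL (α' := bc (ores g (V t)) (α t)) (β' := bc (ores g (V t)) (β t)),
    ← bc_commutator, hc, bc_scal, bc_scal]
  · refine congrArg (scal A L _) ?_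
    show uP (ores g (V t)) (c t) = uP (oi _) (uP g a)
    rw [uP_uP, ← ores_oi, ← uP_uP]
    exact congrArg (uP (ores g (V t))) (ha t).symm
  · rw [pt_bc, pt_bc, hα', hα, ← Category.assoc, ← Category.assoc, ores_oi]
  · rw [pt_bc, pt_bc, hβ', hβ, ← Category.assoc, ← Category.assoc, ores_oi]

include hL in
theorem IsPairing.commute {x y : T ⟶ A} (h : IsPairing L x y 1) (α β : thetaPts A L T) (hα : pt α = x)
    (hβ : pt β = y) : α * β = β * α := by
  have := h T (𝟙 T) α β (by rw [hα, Category.id_comp]) (by rw [hβ, Category.id_comp])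
  rw [map_one, map_one] at this
  exact commutatorElement_eq_one_iff_mul_comm.1 this

include hL in
theorem pairing_unique {x y : T ⟶ A} (hx : MumfordZero hL x) (hy : MumfordZero hL y) {c c' : Γ(T.left, ⊤)ˣ}
    (h : IsPairing L x y c) (h' : IsPairing L x y c') : c = c' := by
  have hloc : ∀ t : T.left, ∃ V : T.left.Opens, t ∈ V ∧ uP (oi V) c = uP (oi V) c' := fun t => by
    obtain ⟨V₁, h₁, α, hα⟩ := exists_local_pts hL hx t
    obtain ⟨V₂, h₂, β, hβ⟩ := exists_local_pts hL hy t
    refine ⟨V₁ ⊓ V₂, ⟨h₁, h₂⟩, scal_injective hL ?_⟩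
    rw [← h _ (oi _) (bc (ol inf_le_left) α) (bc (ol inf_le_right) β),
      ← h' _ (oi _) (bc (ol inf_le_left) α) (bc (ol inf_le_right) β)]
    all_goals rw [pt_bc]
    all_goals first
      | (rw [hα, ← Category.assoc]; exact congrArg (· ≫ x) (ol_oi _))
      | (rw [hβ, ← Category.assoc]; exact congrArg (· ≫ y) (ol_oi _))
  choose V htV hV using hloc
  exact units_ext V (fun t => ⟨t, htV t⟩) hV

include hL in
/-- When `K(L)` is everything the pairing is trivial. -/
theorem pairing_eq_one_of_forall (h : ∀ (T : Over (Spec (CommRingCat.of k))) (x : T ⟶ A), MumfordZero hL x)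
    (x y : T ⟶ A) : IsPairing L x y 1 := by
  obtain ⟨c, hc⟩ := exists_pairing hL (h (A ⊗ A) (fst A A)) (h (A ⊗ A) (snd A A))
  suffices c = 1 by
    rename' this => hc1
    have := hc.comp (lift x y)
    rwa [lift_fst, lift_snd, hc1, map_one] at this
  haveI : LocallyOfFinitePresentation A.hom := LocallyOfFinitePresentation.iff_locallyOfFiniteType.2 inferInstance
  have hu : CubeLib.UnivO (A ⊗ A).hom := by
    have := (univO_snd A A).comp (CubeLib.univO_of_geometricallyIntegral A.hom)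
    rwa [Over.w (snd A A)] at this
  haveI := hu.appTop ⊤
  obtain ⟨a, ha⟩ := (ConcreteCategory.bijective_of_isIso ((A ⊗ A).hom.app ⊤)).2 c.1
  let e₀ : 𝟙_ (Over (Spec (CommRingCat.of k))) ⟶ A ⊗ A := lift 1 1
  have h1 : uP e₀ c = 1 := by
    refine pairing_unique hL (h _ (e₀ ≫ fst A A)) (h _ (e₀ ≫ snd A A)) (hc.comp e₀) fun U g α β hα hβ => ?_
    rw [lift_fst, MonObj.comp_one] at hα
    rw [map_one, map_one, commutator_congr hL (α' := 1) (β' := β) (by rw [hα, pt_one]) rfl,
      commutatorElement_one_left]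
  have h2 : e₀.left ≫ (A ⊗ A).hom = 𝟙 _ := Over.w e₀
  have h3 : (a : Γ(Spec (CommRingCat.of k), ⊤)) = 1 := by
    have h4 := congrArg Units.val h1
    change e₀.left.appTop c.1 = 1 at h4
    rw [← ha] at h4
    change ((A ⊗ A).hom.appTop ≫ e₀.left.appTop) a = 1 at h4
    rw [← Scheme.Hom.comp_appTop] at h4
    change (e₀.left ≫ (A ⊗ A).hom).appTop a = 1 at h4
    rw [h2, Scheme.Hom.id_appTop] at h4
    exact h4
  refine Units.ext ?_
  rw [← ha, h3, map_one]
  rfl

end AVThetaLib
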