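import Groth.Agent.AVThetaLib.Descend
import Groth.Agent.AbSchLib.Flat
import Groth.Agent.QuotRepLib.Restrict

/-!
The orthogonal of the kernel of a homomorphism.
-/

set_option autoImplicit false
set_option maxHeartbeats 1000000
set_option maxRecDepth 8000
set_option backward.isDefEq.respectTransparency false
set_option linter.style.haveILetI false
set_option linter.unusedSectionVars false

noncomputable section

universe u

open CategoryTheory CategoryTheory.Limits MonoidalCategory CartesianMonoidalCategory MonObj AlgebraicGeometry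
open Pseudofunctor Bicategory ThetaGrp CubeConsLib
open scoped commutatorElement

namespace AVThetaLib

section Gen

variable {S : Scheme.{u}} {A B : Over S} [GrpObj A] [GrpObj B] (f : A ⟶ B) [IsMonHom f] (M : B.left.Modules)
  {T : Over S}

theorem dlift_qf (x : T ⟶ A) (hx : x ≫ f = 1) :
    (dlift f (Iso.refl _) x hx).1.hom ≫ qf f M T = qf f M T := by
  refine cancel (π B M T) ?_ ?_
  · rw [CoGrothendieck.categoryStruct_comp_base, base_eq, pt_dlift, qf_base, ← Over.comp_left, transl_whisker, hx,
      transl_one, Category.comp_id]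
  · have h := dlift_comm f (Iso.refl ((Scheme.Modules.pullback f.left).obj M)) x hx
    unfold dq at h
    rw [show vert (F := modPF) (B := A.left) (Iso.refl ((Scheme.Modules.pullback f.left).obj M)).inv = 𝟙 _ from
      vert_id _, Category.id_comp] at h
    rw [Category.assoc, qf_π]
    exact h

theorem pushes_dlift (x : T ⟶ A) (hx : x ≫ f = 1) :
    Pushes (dlift f (Iso.refl _) x hx) (1 : thetaPts B M T) := by
  unfold Pushes
  rw [dlift_qf, one_hom, Category.comp_id]

/-- A point commuting with the canonical points of the kernel is invariant. -/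
theorem invariant_of_commute (α' : thetaPts A ((Scheme.Modules.pullback f.left).obj M) T)
    (hc : ∀ (T' : Over S) (t : T' ⟶ T) (n : T' ⟶ A) (hn : n ≫ f = 1),
      Commute (bc t α') (dlift f (Iso.refl _) n hn)) :
    Invariant (qf f M T) (α'.1.hom ≫ qf f M T) := by
  intro W P a a' h
  have hb : a.base ≫ (f ▷ T).left = a'.base ≫ (f ▷ T).left := by
    have := congrArg CoGrothendieck.Hom.base h
    rwa [CoGrothendieck.categoryStruct_comp_base, CoGrothendieck.categoryStruct_comp_base, qf_base] at this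
  let W' : Over S := Over.mk (a.base ≫ (A ⊗ T).hom)
  let A₁ : W' ⟶ A ⊗ T := Over.homMk a.base rfl
  let A₂ : W' ⟶ A ⊗ T := Over.homMk a'.base (by
    show a'.base ≫ (A ⊗ T).hom = a.base ≫ (A ⊗ T).hom
    rw [← Over.w (f ▷ T), ← Category.assoc, ← hb, Category.assoc])
  have e : A₁ ≫ f ▷ T = A₂ ≫ f ▷ T := Over.OverMorphism.ext hb
  let t : W' ⟶ T := A₁ ≫ snd A T
  have ht : A₂ ≫ snd A T = t := by
    have := congrArg (fun z => z ≫ snd B T) e
    simpa [t] using this.symm
  have hf : (A₁ ≫ fst A T) ≫ f = (A₂ ≫ fst A T) ≫ f := by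
    have := congrArg (fun z => z ≫ fst B T) e
    simpa using this
  let n : W' ⟶ A := (A₁ ≫ fst A T)⁻¹ * (A₂ ≫ fst A T)
  have hn : n ≫ f = 1 := by rw [MonObj.mul_comp, GrpObj.inv_comp, hf, inv_mul_cancel]
  have h1 : lift (A₁ ≫ fst A T) (𝟙 W') ≫ A ◁ t = A₁ := by
    apply CartesianMonoidalCategory.hom_ext <;> simp [t]
  have h2 : lift (A₁ ≫ fst A T) (𝟙 W') ≫ transl A n ≫ A ◁ t = A₂ := by
    apply CartesianMonoidalCategory.hom_ext
    · simp [transl, comp_mul, n]
    · simp [transl, ht]
  obtain ⟨a₀, ha₀, ha⟩ := exists_lift (bcLift A ((Scheme.Modules.pullback f.left).obj M) t) a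
    (lift (A₁ ≫ fst A T) (𝟙 W')).left (congrArg Over.Hom.left h1)
  let γ₀ := dlift f (Iso.refl ((Scheme.Modules.pullback f.left).obj M)) n hn
  have hd : γ₀.1.hom ≫ qf f M W' = qf f M W' := dlift_qf f M n hn
  have ha' : a' = a₀ ≫ γ₀.1.hom ≫ bcLift A _ t := by
    refine cancel (qf f M T) ?_ ?_
    · rw [CoGrothendieck.categoryStruct_comp_base, CoGrothendieck.categoryStruct_comp_base, base_eq, pt_dlift, ha₀]
      show A₂.left = _ ≫ _ ≫ (A ◁ t).left
      rw [← h2]
      rfl
    · rw [Category.assoc, Category.assoc, qf_natural, reassoc_of% hd, ← qf_natural, ← Category.assoc, ha, h]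
  have hcm : γ₀.1.hom ≫ (bc t α').1.hom = (bc t α').1.hom ≫ γ₀.1.hom := by
    rw [← mul_hom, ← mul_hom, (hc W' t n hn).eq]
  rw [ha', ← ha, Category.assoc, Category.assoc, Category.assoc,
    ← Category.assoc (bcLift A _ t), ← bc_comm, Category.assoc, qf_natural,
    ← Category.assoc γ₀.1.hom, hcm, Category.assoc, reassoc_of% hd]

end Gen

variable {k : Type u} [Field k] {A B : Over (Spec (CommRingCat.of k))} [GrpObj A] [GrpObj B]
  [IsCommMonObj A] [IsCommMonObj B] [IsProper A.hom] [GeometricallyIntegral A.hom]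
  [IsProper B.hom] [GeometricallyIntegral B.hom] {f : A ⟶ B} [IsMonHom f] {M : B.left.Modules}
  (hM : PicF.IsInvertible M) {T : Over (Spec (CommRingCat.of k))}

include hM in
/-- Points over a point mapping into `K(M)` commute with the points over the kernel. -/
theorem commute_of_mumfordZero {α' β' : thetaPts A ((Scheme.Modules.pullback f.left).obj M) T}
    (hα : MumfordZero hM (pt α' ≫ f)) (hβ : pt β' ≫ f = 1) : α' * β' = β' * α' := by
  rw [← commutatorElement_eq_one_iff_mul_comm]
  refine pts_eq_of_local (AmpleDevLib.isInvertible_pb f.left hM) fun s => ?_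
  obtain ⟨V, hs, α, hαp⟩ := exists_local_pts hM hα s
  refine ⟨V, hs, ?_⟩
  obtain ⟨α₀, hα₀, ha⟩ := exists_pushes α (oi V ≫ pt α') (hαp.trans (Category.assoc _ _ _).symm)
  have hn : (oi V ≫ pt β') ≫ f = 1 := by rw [Category.assoc, hβ, MonObj.comp_one]
  let β₀ : thetaPts A ((Scheme.Modules.pullback f.left).obj M) (oo V) := dlift f (Iso.refl _) (oi V ≫ pt β') hn
  have key : ⁅(α₀ : thetaPts A ((Scheme.Modules.pullback f.left).obj M) (oo V)), β₀⁆ = 1 := by
    have h := ha.commutator (pushes_dlift f M (oi V ≫ pt β') hn)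
    rw [commutatorElement_one_right, ← map_one (scal B M (oo V))] at h
    rw [scal_of_pushes hM (pt_commutator _ _) h, map_one]
  show bc (oi V) ⁅α', β'⁆ = bc (oi V) 1
  rw [bc_commutator, bc_one, commutator_congr (AmpleDevLib.isInvertible_pb f.left hM) (α' := α₀)
    (β' := β₀) (by rw [pt_bc, hα₀]) (by rw [pt_bc, pt_dlift]), key]

variable [Surjective f.left]

instance flat_qf : Flat (qf f M T).base := by
  haveI := AbSchLib.flat_of_surjective f
  rw [qf_base]
  exact Groth.Agent.QuotRep.whiskerRight_left _ f T inferInstance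

instance surjective_qf : Surjective (qf f M T).base := by
  rw [qf_base]
  exact Groth.Agent.QuotRep.whiskerRight_left _ f T inferInstance

instance quasiCompact_qf : QuasiCompact (qf f M T).base := by
  haveI : IsProper (f.left ≫ B.hom) := by rw [Over.w f]; infer_instance
  haveI : IsProper f.left := IsProper.of_comp f.left B.hom
  rw [qf_base]
  exact Groth.Agent.QuotRep.whiskerRight_left _ f T inferInstance

include hM in
/-- Points commuting with the kernel descend. -/
theorem exists_pts_of_commute (α' : thetaPts A ((Scheme.Modules.pullback f.left).obj M) T)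
    (hc : ∀ (T' : Over (Spec (CommRingCat.of k))) (t : T' ⟶ T) (n : T' ⟶ A) (hn : n ≫ f = 1),
      Commute (bc t α') (dlift f (Iso.refl _) n hn)) :
    ∃ α : thetaPts B M T, pt α = pt α' ≫ f := by
  have hA : PicF.IsInvertible (thetaObj A ((Scheme.Modules.pullback f.left).obj M) T).fiber :=
    AmpleDevLib.isInvertible_pb _ (AmpleDevLib.isInvertible_pb f.left hM)
  have hB : PicF.IsInvertible (thetaObj B M T).fiber := AmpleDevLib.isInvertible_pb _ hM
  have key : ∀ (β : thetaPts A ((Scheme.Modules.pullback f.left).obj M) T),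
      (β.1.hom ≫ qf f M T).base = (qf f M T).base ≫ (transl B (pt β ≫ f)).left := fun β => by
    rw [CoGrothendieck.categoryStruct_comp_base, base_eq, qf_base, ← Over.comp_left, transl_whisker, Over.comp_left]
  obtain ⟨G, hG, hGq⟩ := exists_desc hA hB hB (qf f M T) _ _ (key α') (invariant_of_commute f M α' hc)
  obtain ⟨G', hG', hGq'⟩ := exists_desc hA hB hB (qf f M T) _ _ (key α'⁻¹)
    (invariant_of_commute f M α'⁻¹ fun T' t n hn => by rw [bc_inv]; exact (hc T' t n hn).inv_left)
  have hq : Cart (qf f M T) := inferInstance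
  refine ⟨⟨⟨G, G', hom_ext_ff hA hB hB (qf f M T) ?_ ?_, hom_ext_ff hA hB hB (qf f M T) ?_ ?_⟩, _, hG⟩,
    pt_eq_of_isOverPt hG⟩
  · rw [CoGrothendieck.categoryStruct_comp_base, hG, hG', ← Over.comp_left, ← transl_mul, pt_inv, GrpObj.inv_comp,
      mul_inv_cancel, transl_one]
    rfl
  · rw [reassoc_of% hGq, hGq', ← Category.assoc]
    show (α'.1.hom ≫ α'.1.inv) ≫ _ = _
    rw [Iso.hom_inv_id, Category.id_comp, Category.comp_id]
  · rw [CoGrothendieck.categoryStruct_comp_base, hG, hG', ← Over.comp_left, ← transl_mul, pt_inv, GrpObj.inv_comp,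
      inv_mul_cancel, transl_one]
    rfl
  · rw [reassoc_of% hGq', hGq, ← Category.assoc]
    show (α'.1.inv ≫ α'.1.hom) ≫ _ = _
    rw [Iso.inv_hom_id, Category.id_comp, Category.comp_id]

end AVThetaLib

namespace AVThetaLib

variable {k : Type u} [Field k] {A B N : Over (Spec (CommRingCat.of k))} [GrpObj A] [GrpObj B]

theorem exists_lift_kernel [GrpObj N] {f : A ⟶ B} [IsMonHom f] {i : N ⟶ A} (hN : AlgGrp.IsKernel i f)
    {T : Over (Spec (CommRingCat.of k))} (n : T ⟶ A) (hn : n ≫ f = 1) : ∃ y : T ⟶ N, y ≫ i = n := by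
  have h : n ≫ f = toUnit T ≫ η[B] := hn
  exact ⟨hN.lift n (toUnit T) h, hN.lift_fst _ _ _⟩

end AVThetaLib
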