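import Groth.Agent.AVThetaLib.PerpQuot
import Groth.Agent.AVIndexLib.KLRank
import Groth.Agent.AVAmpleLib.TateLattice

/-!
Ranks of `K(L)` and of the kernel of an isogeny along which `L` descends.
-/

set_option autoImplicit false
set_option maxHeartbeats 1000000
set_option maxRecDepth 8000
set_option backward.isDefEq.respectTransparency false
set_option linter.style.haveILetI false
set_option linter.unusedSectionVars false

noncomputable section

universe u

open CategoryTheory CategoryTheory.Limits MonoidalCategory CartesianMonoidalCategory MonObj AlgebraicGeometry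
open Pseudofunctor Bicategory ThetaGrp CubeConsLib
open scoped TensorProduct

namespace AVThetaLib

variable {k : Type u} [Field k]

theorem finrank_algebra_comp {B C : Type u} [CommRing B] [CommRing C] [Algebra k B] [Algebra k C] [Algebra B C]
    [IsScalarTower k B C] [Module.Finite k B] [Module.Finite B C] [Module.Flat B C] {d : ℕ}
    (hd : ∀ p : PrimeSpectrum B, Module.rankAtStalk C p = d) :
    Module.finrank k C = d * Module.finrank k B := by
  haveI : IsArtinianRing B := IsArtinianRing.of_finite k B
  rcases subsingleton_or_nontrivial B with h | h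
  · haveI : Subsingleton C := Module.subsingleton B C
    simp [Module.finrank_zero_of_subsingleton]
  haveI : Module.Free B C := Module.free_of_flat_of_finrank_eq B C d fun P => by
    haveI : P.asIdeal.IsMaximal := P.isMaximal
    letI := Ideal.Quotient.field P.asIdeal
    have e := Module.rankAtStalk_baseChange (R := B) (S := B ⧸ P.asIdeal) (M := C) ⟨⊥, Ideal.isPrime_bot⟩
    rw [Module.rankAtStalk_eq_finrank_of_free] at e
    exact e.trans (hd _)
  have e2 : Module.finrank B C = d := by
    have e := hd (Classical.arbitrary _)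
    rw [Module.rankAtStalk_eq_finrank_of_free] at e
    exact e
  rw [← e2, mul_comm, Module.finrank_mul_finrank]

/-- Ranks multiply for finite schemes over a field. -/
theorem finrank_comp_finite {Z W : Scheme.{u}} (g : Z ⟶ W) (c : W ⟶ Spec (CommRingCat.of k)) [IsFinite c]
    [IsFinite g] [Flat g] {d : ℕ} (hd : ∀ w, g.finrank w = d) (s : ↥(Spec (CommRingCat.of k))) :
    (g ≫ c).finrank s = d * c.finrank s := by
  haveI : IsAffine W := isAffine_of_isAffineHom c
  haveI : IsAffine Z := isAffine_of_isAffineHom g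
  haveI : Flat c := inferInstance
  haveI : Flat (g ≫ c) := inferInstance
  have hs : ∀ x, x = s := fun x => Subsingleton.elim (α := PrimeSpectrum k) x s
  have h1 := AVIndexLib.finrank_gamma_fibre c (d := c.finrank s) fun x => by rw [hs x]
  have h2 := AVIndexLib.finrank_gamma_fibre (g ≫ c) (d := (g ≫ c).finrank s) fun x => by rw [hs x]
  letI : Algebra k Γ(W, ⊤) := (Coh.toGlobal c : k →+* Γ(W, ⊤)).toAlgebra
  letI : Algebra k Γ(Z, ⊤) := (Coh.toGlobal (g ≫ c) : k →+* Γ(Z, ⊤)).toAlgebra
  letI : Algebra Γ(W, ⊤) Γ(Z, ⊤) := g.appTop.hom.toAlgebra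
  haveI : IsScalarTower k Γ(W, ⊤) Γ(Z, ⊤) := IsScalarTower.of_algebraMap_eq fun r => by
    change (g ≫ c).appTop ((Scheme.ΓSpecIso (CommRingCat.of k)).inv r) =
      g.appTop (c.appTop ((Scheme.ΓSpecIso (CommRingCat.of k)).inv r))
    rw [Scheme.Hom.comp_appTop, ConcreteCategory.comp_apply]
  haveI : Module.Finite k Γ(W, ⊤) := c.finite_appTop.comp (RingHom.Finite.of_surjective _
      (ConcreteCategory.bijective_of_isIso (Scheme.ΓSpecIso (CommRingCat.of k)).inv).2)
  haveI : Module.Finite Γ(W, ⊤) Γ(Z, ⊤) := g.finite_appTop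
  haveI : Module.Flat Γ(W, ⊤) Γ(Z, ⊤) := g.flat_appTop
  have key : ∀ p : PrimeSpectrum Γ(W, ⊤), Module.rankAtStalk Γ(Z, ⊤) p = d := fun p => by
    have hsq : IsPullback Z.isoSpec.hom g (Spec.map g.appTop) W.isoSpec.hom :=
      IsPullback.of_horiz_isIso ⟨Scheme.isoSpec_hom_naturality g⟩
    haveI : IsFinite (Spec.map g.appTop) := (IsFinite.SpecMap_iff _).2 g.finite_appTop
    haveI : Flat (Spec.map g.appTop) := Flat.SpecMap_iff.2 g.flat_appTop
    obtain ⟨w, hw⟩ := W.isoSpec.hom.homeomorph.surjective p
    have h3 := Scheme.Hom.finrank_of_isPullback _ _ _ _ hsq w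
    rw [hd, show W.isoSpec.hom w = p from hw] at h3
    rw [h3]
    exact (Scheme.Hom.finrank_SpecMap_algebraMap Γ(W, ⊤) Γ(Z, ⊤) p).symm
  rw [← h1, ← h2]
  exact finrank_algebra_comp key

variable {A B : Over (Spec (CommRingCat.of k))} [GrpObj A] [IsCommMonObj A] [IsProper A.hom]
  [GeometricallyIntegral A.hom] [GrpObj B] [IsProper B.hom] [GeometricallyIntegral B.hom]

/-- The rank of the kernel of an isogeny is its degree. -/
theorem finrank_kernel {N : Over (Spec (CommRingCat.of k))} {i : N ⟶ A} {f : A ⟶ B} [IsFinite f.left] [Flat f.left]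
    (hN : AlgGrp.IsKernel i f) {d : ℕ} (hd : ∀ b, f.left.finrank b = d) (s : ↥(Spec (CommRingCat.of k))) :
    N.hom.finrank s = d := by
  have hsq : IsPullback i.left (toUnit N).left f.left (η[B] : 𝟙_ (Over (Spec (CommRingCat.of k))) ⟶ B).left :=
    hN.map (Over.forget _)
  have h := Scheme.Hom.finrank_of_isPullback _ _ _ _ hsq s
  rw [hd] at h
  rw [← h]
  exact congrArg (fun g : N.left ⟶ Spec (CommRingCat.of k) => g.finrank s)
    ((Category.comp_id _).symm.trans (Over.w (toUnit N))).symm

/-- Along an isogeny with `f^*M ≅ L`, the part of `K(L)` over `K(M)` and `K(L)` itself. -/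
theorem exists_rank_relation {f : A ⟶ B} [IsMonHom f] [IsFinite f.left] [Surjective f.left] {L : A.left.Modules}
    (hL : PicF.IsInvertible L) {M : B.left.Modules} (hM : PicF.IsInvertible M)
    (e : (Scheme.Modules.pullback f.left).obj M ≅ L) {K : Over (Spec (CommRingCat.of k))} {iK : K ⟶ A}
    (hK : IsKL A L iK) [IsFinite K.hom] {d : ℕ} (hd : ∀ b, f.left.finrank b = d)
    (s : ↥(Spec (CommRingCat.of k))) :
    ∃ r, 0 < r ∧ K.hom.finrank s = d ^ 2 * r ∧
      ((∀ x : K ⟶ A, x = iK → MumfordZero hM (x ≫ f)) → K.hom.finrank s = d * r) ∧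
      (r = 1 → ∀ (T : Over (Spec (CommRingCat.of k))) (z : T ⟶ B), MumfordZero hM z → z = 1) ∧
      ((∀ (T : Over (Spec (CommRingCat.of k))) (z : T ⟶ B), MumfordZero hM z → z = 1) → r = 1) ∧
      ∃ (KM : Over (Spec (CommRingCat.of k))) (iM : KM ⟶ B), IsKL B M iM ∧ IsFinite KM.hom := by
  haveI := AbSchLib.flat_of_surjective f
  haveI : IsCommMonObj B := CubeConsLib.isCommMonObj_field
  have hP := AmpleDevLib.isInvertible_pb f.left hM
  obtain ⟨KM, iM, hKM⟩ := exists_isKL hM
  haveI := hKM.closed
  haveI := hK.closed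
  haveI : Mono iM := Over.mono_of_mono_left _
  haveI : Mono iK := Over.mono_of_mono_left _
  have hKP : IsKL A ((Scheme.Modules.pullback f.left).obj M) iK := ⟨hK.closed, fun T z => by
    rw [mumfordTriv_iff hP, ← hK.univ T z, mumfordTriv_iff hL]
    exact ⟨mumfordZero_of_iso hP hL e, mumfordZero_of_iso hL hP e.symm⟩⟩
  haveI : Finite K.left := by
    haveI : Finite ↥(Spec (CommRingCat.of k)) := inferInstanceAs (Finite (PrimeSpectrum k))
    refine Set.finite_univ_iff.1 ?_
    have : (Set.univ : Set K.left) = ⋃ t : ↥(Spec (CommRingCat.of k)), K.hom ⁻¹' {t} := by ext x; simp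
    rw [this]
    exact Set.finite_iUnion fun t => IsFinite.finite_preimage_singleton K.hom t
  -- the preimage of `K(M)`
  let W : Over (Spec (CommRingCat.of k)) := Over.mk (Limits.pullback.snd f.left iM.left ≫ KM.hom)
  let iW : W ⟶ A := Over.homMk (Limits.pullback.fst f.left iM.left) (by
    show _ = Limits.pullback.snd f.left iM.left ≫ KM.hom
    rw [← Over.w iM, ← Category.assoc, ← Limits.pullback.condition, Category.assoc, Over.w f])
  let p : W ⟶ KM := Over.homMk (Limits.pullback.snd f.left iM.left) rfl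
  have hWc : iW ≫ f = p ≫ iM := Over.OverMorphism.ext Limits.pullback.condition
  haveI : IsClosedImmersion iW.left := MorphismProperty.pullback_fst (P := @IsClosedImmersion) _ _ inferInstance
  haveI : Mono iW := Over.mono_of_mono_left _
  have hWM : MumfordZero hM (iW ≫ f) := mumfordZero_of_factors hM hKM ⟨p, hWc.symm⟩
  obtain ⟨w, hw⟩ := (hK.univ W iW).1 ((mumfordTriv_iff hL iW).2
    (mumfordZero_of_iso hP hL e (mumfordZero_pullback hM hWM)))
  haveI : IsClosedImmersion w.left := by
    haveI : IsClosedImmersion (w.left ≫ iK.left) := by rw [← Over.comp_left, hw]; infer_instance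
    exact IsClosedImmersion.of_comp w.left iK.left
  haveI : IsFinite W.hom := by rw [← Over.w w]; infer_instance
  haveI : Surjective p.left := MorphismProperty.pullback_snd (P := @Surjective) _ _ inferInstance
  haveI : IsFinite p.left := MorphismProperty.pullback_snd (P := @IsFinite) _ _ inferInstance
  haveI : Flat p.left := MorphismProperty.pullback_snd (P := @Flat) _ _ inferInstance
  haveI : Finite W.left := Finite.of_injective w.left w.left.isClosedEmbedding.injective
  haveI : Finite KM.left := Finite.of_surjective p.left p.left.surjective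
  haveI : IsFinite KM.hom := by
    haveI : IsProper KM.hom := by rw [← Over.w iM]; infer_instance
    haveI : LocallyQuasiFinite KM.hom := LocallyQuasiFinite.of_finite_preimage_singleton KM.hom fun x => Set.toFinite _
    exact IsFinite.of_isProper_of_locallyQuasiFinite KM.hom
  have hdp : ∀ y, p.left.finrank y = d := fun y =>
    (Scheme.Hom.finrank_of_isPullback _ _ _ _ (IsPullback.of_hasPullback f.left iM.left) y).trans (hd _)
  obtain ⟨g, hg⟩ := AVAmpleLib.exists_dim_field A
  have hst : ∀ t, KM.hom.finrank t = KM.hom.finrank s := fun t => by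
    rw [Subsingleton.elim (α := PrimeSpectrum k) t s]
  haveI : IsFinite K.hom := ‹_›
  have hrank := AVIndexLib.rank_KL_pullback f hM hKM hKP hg hd hst s
  obtain ⟨y₁, hy₁⟩ : ∃ y₁ : 𝟙_ (Over (Spec (CommRingCat.of k))) ⟶ KM, y₁ ≫ iM = 1 :=
    (hKM.univ _ 1).1 ((mumfordTriv_iff hM _).2 (by simpa only [pt_one] using mumfordZero_of_pts hM (1 : thetaPts B M _)))
  refine ⟨KM.hom.finrank s, ?_, hrank, fun h => ?_, fun hr T z hz => ?_, fun h => ?_, KM, iM, hKM, inferInstance⟩
  · haveI : Nonempty KM.left := ⟨y₁.left (IsLocalRing.closedPoint k)⟩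
    haveI : Flat KM.hom := inferInstance
    have := Scheme.Hom.one_le_finrank_map KM.hom (Classical.arbitrary _)
    rw [hst] at this
    exact this
  · obtain ⟨q, hq⟩ := (hKM.univ K (iK ≫ f)).1 ((mumfordTriv_iff hM _).2 (h iK rfl))
    let v₀ : K.left ⟶ W.left := Limits.pullback.lift iK.left q.left (congrArg Over.Hom.left hq.symm)
    have hv : v₀ ≫ iW.left = iK.left := Limits.pullback.lift_fst _ _ _
    let v : K ⟶ W := Over.homMk v₀ (by rw [← Over.w iW, ← Category.assoc, hv, Over.w iK])
    have hv' : v ≫ iW = iK := Over.OverMorphism.ext hv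
    haveI : IsIso v := ⟨w, by rw [← cancel_mono iK, Category.assoc, hw, hv', Category.id_comp],
      by rw [← cancel_mono iW, Category.assoc, hv', hw, Category.id_comp]⟩
    haveI : IsIso v.left := inferInstanceAs (IsIso ((Over.forget _).map v))
    have e1 : K.hom.finrank s = W.hom.finrank s := by
      haveI : Flat W.hom := inferInstance
      rw [← congrFun (Scheme.Hom.finrank_comp_left_of_isIso v.left W.hom) s]
      exact congrArg (fun g : K.left ⟶ Spec (CommRingCat.of k) => g.finrank s) (Over.w v).symm
    rw [e1]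
    exact finrank_comp_finite p.left KM.hom hdp s
  · obtain ⟨y, hy⟩ := (hKM.univ T z).1 ((mumfordTriv_iff hM _).2 hz)
    haveI : IsIso KM.hom := by
      haveI : Flat KM.hom := inferInstance
      exact (Scheme.Hom.isIso_iff_finrank_eq _).2 (funext fun t => (hst t).trans hr)
    have hy₁' : y = toUnit T ≫ y₁ := by
      refine Over.OverMorphism.ext ((cancel_mono KM.hom).1 ?_)
      rw [Over.w, Over.w]
    rw [← hy, hy₁', Category.assoc, hy₁, MonObj.comp_one]
  · have e1 : iM = 1 := h KM iM (mumfordZero_of_factors hM hKM ⟨𝟙 KM, Category.id_comp _⟩)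
    have e2 : 𝟙 KM = toUnit KM ≫ y₁ := by
      rw [← cancel_mono iM, Category.assoc, hy₁, Category.id_comp, e1, MonObj.comp_one]
    haveI : IsIso KM.hom := by
      refine ⟨y₁.left, ?_, Over.w y₁⟩
      have := congrArg Over.Hom.left e2
      rw [Over.comp_left, Over.id_left] at this
      rw [show KM.hom = (toUnit KM).left from ((Over.w (toUnit KM)).symm.trans (Category.comp_id _))]
      exact this.symm
    rw [Scheme.Hom.finrank_eq_one_of_isIso]
    rfl

end AVThetaLib
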