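import Groth.Agent.AVIndexLib.SwapNorm
import Groth.Agent.AVIndexLib.KLRank
import Groth.Agent.AVIndexLib.PolPullback

/-!
The Poincaré class as a symmetric bilinear form along a symmetric homomorphism.
-/

set_option autoImplicit false
set_option maxHeartbeats 1000000
set_option maxRecDepth 8000
set_option backward.isDefEq.respectTransparency false
set_option linter.style.haveILetI false
set_option linter.unusedSectionVars false

noncomputable section

universe u

open CategoryTheory CategoryTheory.Limits MonoidalCategory CartesianMonoidalCategory MonObj AlgebraicGeometry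
open CubeConsLib AVIndexLib

namespace AVThetaLib

variable {k : Type u} [Field k] {X Xt : Over (Spec (CommRingCat.of k))}
  [GrpObj X] [IsProper X.hom] [GeometricallyIntegral X.hom] [GrpObj Xt] [IsProper Xt.hom] [GeometricallyIntegral Xt.hom]
  {P : (PicF.XT X.hom Xt).Modules} (hP : PicF.IsInvertible P)

theorem XTmap_eq (A : Over (Spec (CommRingCat.of k))) {V W : Over (Spec (CommRingCat.of k))} (g : V ⟶ W) :
    (A ◁ g).left = PicF.XTmap A.hom g := by
  apply Limits.pullback.hom_ext
  · rw [XTmap_fst]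
    exact congrArg Over.Hom.left (whiskerLeft_fst A g)
  · rw [XTmap_snd]
    exact congrArg Over.Hom.left (whiskerLeft_snd A g)

theorem bcMap_eq {A B : Over (Spec (CommRingCat.of k))} (g : A ⟶ B) (W : Over (Spec (CommRingCat.of k))) :
    (g ▷ W).left = AbDual.bcMap g W := by
  apply Limits.pullback.hom_ext
  · rw [bcMap_fst]
    exact congrArg Over.Hom.left (whiskerRight_fst g W)
  · rw [bcMap_snd]
    exact congrArg Over.Hom.left (whiskerRight_snd g W)

theorem symm_eq (A B : Over (Spec (CommRingCat.of k))) :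
    (lift (snd A B) (fst A B)).left = (pullbackSymmetry A.hom B.hom).hom := by
  apply Limits.pullback.hom_ext
  · rw [pullbackSymmetry_hom_comp_fst]
    exact congrArg Over.Hom.left (lift_fst (snd A B) (fst A B))
  · rw [pullbackSymmetry_hom_comp_snd]
    exact congrArg Over.Hom.left (lift_snd (snd A B) (fst A B))

theorem secT_eq (A T : Over (Spec (CommRingCat.of k))) [GrpObj A] :
    (lift (1 : T ⟶ A) (𝟙 T)).left = PicF.secT A.hom η[A].left (Over.w η[A]) T := by
  apply Limits.pullback.hom_ext
  · simp only [PicF.secT, Limits.pullback.lift_fst]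
    refine (congrArg Over.Hom.left (lift_fst (1 : T ⟶ A) (𝟙 T))).trans ?_
    rw [Hom.one_def, Over.comp_left]
    exact congrArg (· ≫ _) ((Over.w (toUnit T)).symm.trans (Category.comp_id _)).symm
  · simp only [PicF.secT, Limits.pullback.lift_snd]
    exact congrArg Over.Hom.left (lift_snd (1 : T ⟶ A) (𝟙 T))

/-- The value of the class of `P` at a pair of points. -/
def bta {V : Over (Spec (CommRingCat.of k))} (a : V ⟶ X) (b : V ⟶ Xt) : PicA V.left :=
  pullA (lift a b).left (clA hP : PicA (X ⊗ Xt).left)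

theorem pullA_bta {V W : Over (Spec (CommRingCat.of k))} (w : W ⟶ V) (a : V ⟶ X) (b : V ⟶ Xt) :
    pullA w.left (bta hP a b) = bta hP (w ≫ a) (w ≫ b) := by
  rw [bta, bta, pullA_comp, ← Over.comp_left, comp_lift]

variable {φ : AgPol.DualMap X Xt} (hξ : AbDual.IsPoincareCl X Xt φ (PicF.cl P))
  {φ' : AgPol.DualMap Xt X}
  (hξ' : AbDual.IsPoincareCl Xt X φ' (PicF.pullCl (pullbackSymmetry Xt.hom X.hom).hom (PicF.cl P)))

include hξ in
theorem bta_mul_left {V : Over (Spec (CommRingCat.of k))} (a a' : V ⟶ X) (b : V ⟶ Xt) :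
    bta hP (a * a') b = bta hP a b + bta hP a' b := by
  haveI : LocallyOfFinitePresentation X.hom := LocallyOfFinitePresentation.iff_locallyOfFiniteType.2 inferInstance
  haveI : IsCommMonObj X := isCommMonObj_field
  have h := pullA_bcMap_mul hP hξ.1 (clA_zero_of_trivialCl _ hP hξ.2.2) a a'
  have h2 := congrArg (pullA (lift (𝟙 V) b).left) h
  have e : ∀ g : V ⟶ X, pullA (lift (𝟙 V) b).left
      (pullA (AbDual.bcMap g Xt) (clA hP) : PicA (V ⊗ Xt).left) = bta hP g b := fun g => by
    rw [← bcMap_eq, bta]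
    refine (pullA_comp _ _ _).trans ?_
    rw [← Over.comp_left, lift_whiskerRight, Category.id_comp]
    rfl
  rw [e] at h2
  refine h2.trans ((map_add _ _ _).trans ?_)
  rw [e, e]

include hξ' in
theorem bta_mul_right {V : Over (Spec (CommRingCat.of k))} (a : V ⟶ X) (b b' : V ⟶ Xt) :
    bta hP a (b * b') = bta hP a b + bta hP a b' := by
  haveI : LocallyOfFinitePresentation Xt.hom := LocallyOfFinitePresentation.iff_locallyOfFiniteType.2 inferInstance
  haveI : IsCommMonObj Xt := isCommMonObj_field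
  have hPs := AmpleDevLib.isInvertible_pb (pullbackSymmetry Xt.hom X.hom).hom hP
  have e0 : PicF.pullCl (pullbackSymmetry Xt.hom X.hom).hom (PicF.cl P) =
      PicF.cl ((Scheme.Modules.pullback (pullbackSymmetry Xt.hom X.hom).hom).obj P) := rfl
  have h := pullA_bcMap_mul hPs (e0 ▸ hξ'.1) (clA_zero_of_trivialCl _ hPs (e0 ▸ hξ'.2.2)) b b'
  have h2 := congrArg (pullA (lift (𝟙 V) a).left) h
  have e : ∀ g : V ⟶ Xt, pullA (lift (𝟙 V) a).left
      (pullA (AbDual.bcMap g X) (clA hPs) : PicA (V ⊗ X).left) = bta hP a g := fun g => by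
    rw [← pullA_clA _ hP, ← bcMap_eq, ← symm_eq, bta]
    refine (congrArg (pullA (lift (𝟙 V) a).left) (pullA_comp _ _ _)).trans ((pullA_comp _ _ _).trans ?_)
    rw [← Over.comp_left, ← Over.comp_left, lift_whiskerRight_assoc, Category.id_comp, comp_lift, lift_fst, lift_snd]
    rfl
  rw [e] at h2
  refine h2.trans ((map_add _ _ _).trans ?_)
  rw [e, e]

include hξ in
theorem bta_one_left {V : Over (Spec (CommRingCat.of k))} (b : V ⟶ Xt) : bta hP (1 : V ⟶ X) b = 0 := by
  have h := bta_mul_left hP hξ 1 1 b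
  rw [_root_.one_mul] at h
  exact left_eq_add.1 h

include hξ' in
theorem bta_one_right {V : Over (Spec (CommRingCat.of k))} (a : V ⟶ X) : bta hP a (1 : V ⟶ Xt) = 0 := by
  have h := bta_mul_right hP hξ' a 1 1
  rw [_root_.one_mul] at h
  exact left_eq_add.1 h

include hξ in
theorem bta_pow_left {V : Over (Spec (CommRingCat.of k))} (a : V ⟶ X) (b : V ⟶ Xt) :
    ∀ n : ℕ, bta hP (a ^ n) b = n • bta hP a b
  | 0 => by rw [pow_zero, bta_one_left hP hξ, zero_smul]
  | n + 1 => by rw [pow_succ, bta_mul_left hP hξ, bta_pow_left a b n, succ_nsmul]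

include hξ' in
theorem bta_pow_right {V : Over (Spec (CommRingCat.of k))} (a : V ⟶ X) (b : V ⟶ Xt) :
    ∀ n : ℕ, bta hP a (b ^ n) = n • bta hP a b
  | 0 => by rw [pow_zero, bta_one_right hP hξ', zero_smul]
  | n + 1 => by rw [pow_succ, bta_mul_right hP hξ', bta_pow_right a b n, succ_nsmul]

variable (hφ : AbDual.IsDualAV Scheme.fppfPrecoverage X Xt φ)

include hξ hφ in
/-- A morphism to the dual is determined by its class. -/
theorem eq_of_bta_eq {T : Over (Spec (CommRingCat.of k))} {u v : T ⟶ Xt}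
    (h : bta hP (fst X T) (snd X T ≫ u) = bta hP (fst X T) (snd X T ≫ v)) : u = v := by
  have key : ∀ w : T ⟶ Xt, bta hP (fst X T) (snd X T ≫ w) =
      clA (AmpleDevLib.isInvertible_pb (PicF.XTmap X.hom w) hP) := fun w => by
    rw [bta, show lift (fst X T) (snd X T ≫ w) = X ◁ w from CartesianMonoidalCategory.hom_ext _ _ (by simp) (by simp),
      XTmap_eq]
    exact pullA_clA _ hP
  rw [key, key] at h
  have h3 : PicF.pullCl (PicF.XTmap X.hom u) (PicF.cl P) = PicF.pullCl (PicF.XTmap X.hom v) (PicF.cl P) :=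
    Quot.sound ((clA_eq_iff _ _).1 h)
  have h2 := congrArg (φ T) h3
  rwa [hφ.relPic.natural _ _ u _ hξ.1, hφ.relPic.natural _ _ v _ hξ.1, hξ.2.1, Category.comp_id,
    Category.comp_id] at h2

variable {lam : X ⟶ Xt} [IsMonHom lam]

include hξ hξ' hφ in
/-- Symmetry along a homomorphism equal to its transpose. -/
theorem bta_symm (hsymm : AbDual.IsTranspose lam φ φ' lam) {V : Over (Spec (CommRingCat.of k))} (a c : V ⟶ X) :
    bta hP a (c ≫ lam) = bta hP c (a ≫ lam) := by
  suffices h : bta hP (fst X X) (snd X X ≫ lam) = bta hP (snd X X) (fst X X ≫ lam) by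
    have h2 := congrArg (pullA (lift a c).left) h
    rwa [pullA_bta, pullA_bta, lift_fst, lift_snd, lift_fst_assoc, lift_snd_assoc] at h2
  haveI : IsIntegral X.left := GeometricallyIntegral.isIntegral_of_subsingleton X.hom
  let m := AbDual.bcMap lam X ≫ (pullbackSymmetry Xt.hom X.hom).hom
  have e1 : PicF.XTmap X.hom lam = (lift (fst X X) (snd X X ≫ lam)).left := by
    rw [← XTmap_eq]
    exact congrArg Over.Hom.left (CartesianMonoidalCategory.hom_ext _ _ (by simp) (by simp))
  have e2 : m = (lift (snd X X) (fst X X ≫ lam)).left := by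
    show AbDual.bcMap lam X ≫ (pullbackSymmetry Xt.hom X.hom).hom = _
    rw [← bcMap_eq, ← symm_eq, ← Over.comp_left]
    exact congrArg Over.Hom.left (CartesianMonoidalCategory.hom_ext _ _ (by simp) (by simp))
  have h1 := AmpleDevLib.isInvertible_pb (PicF.XTmap X.hom lam) hP
  have h2 := AmpleDevLib.isInvertible_pb m hP
  have c1 : bta hP (fst X X) (snd X X ≫ lam) = clA h1 := by
    rw [bta, ← e1]; exact pullA_clA _ hP
  have c2 : bta hP (snd X X) (fst X X ≫ lam) = clA h2 := by
    rw [bta, ← e2]; exact pullA_clA _ hP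
  have z2 : AbDual.IsPicZeroCl X.hom X (PicF.cl ((Scheme.Modules.pullback m).obj P)) := by
    have := isPicZeroCl_bcMap lam hξ'.1
    rwa [pullCl_pullCl] at this
  rw [c1, c2]
  have es : ∀ w : PicA (X ⊗ X).left, (pullA (PicF.secT X.hom η[X].left (Over.w η[X]) X) w : PicA X.left) =
      pullA (lift (1 : X ⟶ X) (𝟙 X)).left w := fun w => by rw [secT_eq]; rfl
  refine eq_of_phi_eq hφ h1 h2 (isPicZeroCl_XTmap lam hξ.1) z2 ?_ ?_ ?_
  · refine (congrArg _ c1.symm).trans ((es _).trans ?_)
    rw [pullA_bta, lift_fst, bta_one_left hP hξ]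
  · refine (congrArg _ c2.symm).trans ((es _).trans ?_)
    rw [pullA_bta, lift_fst_assoc, MonObj.one_comp, bta_one_right hP hξ']
  · have hn := hφ.relPic.natural _ _ lam _ hξ.1
    rw [hξ.2.1, Category.comp_id] at hn
    have h4 := hsymm X _ hξ'.1
    rw [hξ'.2.1, Category.id_comp, pullCl_pullCl] at h4
    exact hn.trans h4.symm

variable (lam) in
/-- The value of the class of the graph module. -/
def P' {V : Over (Spec (CommRingCat.of k))} (w : V ⟶ X) : PicA V.left :=
  CubeConsLib.P (AmpleDevLib.isInvertible_pb (lift (𝟙 X) (lam ^ 2)).left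
    (show @PicF.IsInvertible (X ⊗ Xt).left P from hP)) w

include hξ hξ' hφ in
/-- Twice the class along a symmetric homomorphism gives four times its Mumford class. -/
theorem lam_graph (hsymm : AbDual.IsTranspose lam φ φ' lam) {V : Over (Spec (CommRingCat.of k))} (f g : V ⟶ X) :
    CubeConsLib.lam (AmpleDevLib.isInvertible_pb (lift (𝟙 X) (lam ^ 2)).left
      (show @PicF.IsInvertible (X ⊗ Xt).left P from hP)) f g = 4 • bta hP f (g ≫ lam) := by
  have hP' : ∀ w : V ⟶ X, P' hP lam w = bta hP w ((w ≫ lam) ^ 2) := fun w => by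
    rw [P', CubeConsLib.P, ← pullA_clA _ (show @PicF.IsInvertible (X ⊗ Xt).left P from hP), pullA_comp,
      ← Over.comp_left, comp_lift, Category.comp_id, MonObj.comp_pow]
    rfl
  show P' hP lam (f * g) - P' hP lam f - P' hP lam g = _
  rw [hP', hP', hP', MonObj.mul_comp, bta_pow_right hP hξ', bta_pow_right hP hξ', bta_pow_right hP hξ',
    bta_mul_left hP hξ, bta_mul_right hP hξ', bta_mul_right hP hξ', bta_symm hP hξ hξ' hφ hsymm g f]
  abel

end AVThetaLib
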