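import Groth.Agent.AVThetaLib.NSplit
import Mathlib.Algebra.DualNumber
import Mathlib.RingTheory.Ideal.Cotangent

/-!
A nontrivial finite subgroup of `K(L)` has a nontrivial point orthogonal to itself.
-/

set_option autoImplicit false
set_option maxHeartbeats 1600000
set_option maxRecDepth 8000
set_option backward.isDefEq.respectTransparency false
set_option linter.style.haveILetI false
set_option linter.unusedSectionVars false

noncomputable section

universe u

open CategoryTheory CategoryTheory.Limits MonoidalCategory CartesianMonoidalCategory MonObj AlgebraicGeometry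
open Pseudofunctor Bicategory ThetaGrp CubeConsLib
open scoped TensorProduct

namespace AVThetaLib

variable {k : Type u} [Field k]

/-- The symmetric part: a tensor with equal restrictions to both axes is symmetric, on `k ⊕ k e`. -/
theorem comm_eq_of_axes {D : Type u} [CommRing D] [Algebra k D] (χ : D →ₐ[k] k) (e : D)
    (hspan : ∀ a, ∃ t : k, a = algebraMap k D (χ a) + t • e) (z : D ⊗[k] D)
    (h : Algebra.TensorProduct.lift ((Algebra.ofId k D).comp χ) (AlgHom.id k D) (fun _ _ => mul_comm _ _) z =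
      Algebra.TensorProduct.lift (AlgHom.id k D) ((Algebra.ofId k D).comp χ) (fun _ _ => mul_comm _ _) z) :
    TensorProduct.comm k D D z = z := by
  let l₁ := Algebra.TensorProduct.lift ((Algebra.ofId k D).comp χ) (AlgHom.id k D) (fun _ _ => mul_comm _ _)
  let l₂ := Algebra.TensorProduct.lift (AlgHom.id k D) ((Algebra.ofId k D).comp χ) (fun _ _ => mul_comm _ _)
  have key : ∀ w : D ⊗[k] D,
      TensorProduct.comm k D D w - w = (1 : D) ⊗ₜ[k] (l₂ w - l₁ w) - (l₂ w - l₁ w) ⊗ₜ[k] (1 : D) := fun w => by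
    induction w using TensorProduct.induction_on with
    | zero => simp
    | tmul a b =>
      obtain ⟨t, ht⟩ := hspan a
      obtain ⟨s, hs⟩ := hspan b
      have hl : l₂ (a ⊗ₜ b) - l₁ (a ⊗ₜ b) = (t * χ b - χ a * s) • e := by
        simp only [l₁, l₂, Algebra.TensorProduct.lift_tmul, AlgHom.comp_apply, AlgHom.id_apply, Algebra.ofId_apply]
        generalize χ a = p at ht ⊢
        generalize χ b = q at hs ⊢
        subst ht hs
        simp only [Algebra.algebraMap_eq_smul_one, smul_mul_assoc, mul_smul_comm, mul_add, add_mul,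
          _root_.one_mul, _root_.mul_one]
        module
      rw [hl, TensorProduct.comm_tmul]
      generalize χ a = p at ht ⊢
      generalize χ b = q at hs ⊢
      subst ht hs
      simp only [Algebra.algebraMap_eq_smul_one, TensorProduct.add_tmul, TensorProduct.tmul_add,
        ← TensorProduct.smul_tmul', TensorProduct.tmul_smul]
      module
    | add a b ha hb =>
      rw [map_add, map_add l₁, map_add l₂, add_sub_add_comm (TensorProduct.comm k D D a), ha, hb,
        add_sub_add_comm (l₂ a)]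
      simp only [TensorProduct.tmul_add, TensorProduct.add_tmul]
      abel
  have hk := key z
  rw [show l₂ z - l₁ z = 0 from sub_eq_zero.2 h.symm, TensorProduct.tmul_zero, TensorProduct.zero_tmul, sub_zero,
    sub_eq_zero] at hk
  exact hk

theorem bijective_algebraMap_unit :
    Function.Bijective (algebraMap k Γ((𝟙_ (Over (Spec (CommRingCat.of k)))).left, ⊤)) := by
  show Function.Bijective ((Scheme.ΓSpecIso (CommRingCat.of k)).inv ≫ (𝟙 (Spec (CommRingCat.of k)) : Spec (CommRingCat.of k) ⟶ _).appTop).hom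
  rw [Scheme.Hom.id_appTop, Category.comp_id]
  exact ConcreteCategory.bijective_of_isIso (Scheme.ΓSpecIso (CommRingCat.of k)).inv

/-- The evaluation at a rational point. -/
def evPt {X : Over (Spec (CommRingCat.of k))} (o : 𝟙_ (Over (Spec (CommRingCat.of k))) ⟶ X) : Γ(X.left, ⊤) →ₐ[k] k :=
  (AlgEquiv.ofBijective (Algebra.ofId k _) bijective_algebraMap_unit).symm.toAlgHom.comp (pullΓ o)

theorem pullΓ_toUnit {X T : Over (Spec (CommRingCat.of k))} (o : 𝟙_ (Over (Spec (CommRingCat.of k))) ⟶ X)
    (a : Γ(X.left, ⊤)) : pullΓ (toUnit T ≫ o) a = algebraMap k _ (evPt o a) := by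
  rw [pullΓ_comp, ← (pullΓ (toUnit T)).commutes (evPt o a)]
  congr 1
  exact (AlgEquiv.ofBijective (Algebra.ofId k _) bijective_algebraMap_unit).apply_symm_apply (pullΓ o a) |>.symm

/-- A finite algebra as a scheme over `k`. -/
abbrev specOver (D : Type u) [CommRing D] [Algebra k D] : Over (Spec (CommRingCat.of k)) :=
  Over.mk (Spec.map (CommRingCat.ofHom (algebraMap k D)))

/-- Its global functions. -/
def specEquiv (D : Type u) [CommRing D] [Algebra k D] : D ≃ₐ[k] Γ((specOver (k := k) D).left, ⊤) :=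
  AlgEquiv.ofRingEquiv (f := (Scheme.ΓSpecIso (CommRingCat.of D)).commRingCatIsoToRingEquiv.symm) fun r => by
    show (Scheme.ΓSpecIso (CommRingCat.of D)).inv (algebraMap k D r) =
      ((Scheme.ΓSpecIso (CommRingCat.of k)).inv ≫ (Spec.map (CommRingCat.ofHom (algebraMap k D))).appTop) r
    rw [← Scheme.ΓSpecIso_inv_naturality, ConcreteCategory.comp_apply]
    rfl

theorem exists_specPt {S : Over (Spec (CommRingCat.of k))} [IsFinite S.hom] (D : Type u) [CommRing D] [Algebra k D]
    (ψ : Γ(S.left, ⊤) →ₐ[k] D) : ∃ v : specOver (k := k) D ⟶ S, ∀ a, pullΓ v a = specEquiv D (ψ a) := by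
  haveI : IsAffine S.left := isAffine_of_isAffineHom S.hom
  let v₀ : Spec (CommRingCat.of D) ⟶ S.left := Spec.map (CommRingCat.ofHom ψ.toRingHom) ≫ S.left.isoSpec.inv
  have e : S.hom = S.left.isoSpec.hom ≫ Spec.map (CommRingCat.ofHom (algebraMap k Γ(S.left, ⊤))) := by
    change S.hom = S.left.toSpecΓ ≫ Spec.map ((Scheme.ΓSpecIso (CommRingCat.of k)).inv ≫ S.hom.appTop)
    rw [Spec.map_comp, ← Category.assoc, ← Scheme.toSpecΓ_naturality, Category.assoc,
      toSpecΓ_SpecMap_ΓSpecIso_inv, Category.comp_id]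
  refine ⟨Over.homMk v₀ ?_, fun a => ?_⟩
  · show v₀ ≫ S.hom = Spec.map (CommRingCat.ofHom (algebraMap k D))
    rw [e, Category.assoc, Iso.inv_hom_id_assoc, ← Spec.map_comp]
    congr 1
    exact CommRingCat.hom_ext (RingHom.ext ψ.commutes)
  · show v₀.appTop a = _
    have e2 : S.left.isoSpec.inv.appTop = (Scheme.ΓSpecIso Γ(S.left, ⊤)).inv := by
      rw [← cancel_epi (Scheme.ΓSpecIso Γ(S.left, ⊤)).hom, Iso.hom_inv_id, ← Scheme.toSpecΓ_appTop,
        ← Scheme.Hom.comp_appTop, Scheme.isoSpec_inv_toSpecΓ, Scheme.Hom.id_appTop]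
    rw [Scheme.Hom.comp_appTop, e2, ← Scheme.ΓSpecIso_inv_naturality, ConcreteCategory.comp_apply]
    rfl

theorem isFinite_specOver (D : Type u) [CommRing D] [Algebra k D] [Module.Finite k D] :
    IsFinite (specOver (k := k) D).hom :=
  (IsFinite.SpecMap_iff _).2 (RingHom.finite_algebraMap.2 inferInstance)

variable {A : Over (Spec (CommRingCat.of k))} [GrpObj A] [IsCommMonObj A] [IsProper A.hom]
  [GeometricallyIntegral A.hom] {L : A.left.Modules} (hL : PicF.IsInvertible L)
  {S : Over (Spec (CommRingCat.of k))} [GrpObj S] (iS : S ⟶ A) [IsMonHom iS] [IsFinite S.hom] [Mono iS]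

include hL in
/-- A point is orthogonal to itself when its source has symmetric functions on the square. -/
theorem isPerpPt_self (hS : MumfordZero hL iS) {W : Over (Spec (CommRingCat.of k))} [IsFinite W.hom] (v : W ⟶ S)
    (o : 𝟙_ (Over (Spec (CommRingCat.of k))) ⟶ W) (ho : o ≫ v = 1) (e : Γ(W.left, ⊤))
    (hspan : ∀ a, ∃ t : k, a = algebraMap k _ (evPt o a) + t • e) : IsPerpPt L (v ≫ iS) (v ≫ iS) := by
  obtain ⟨β, hβ⟩ := exists_pts_of_finite hL iS hS
  have hptc : ∀ {T : Over (Spec (CommRingCat.of k))} (x : T ⟶ S), pt (bc x β) = x ≫ iS := fun x => by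
    rw [pt_bc, hβ]
  obtain ⟨c, hc⟩ := exists_eq_mul_scal hL (α := bc (fst S S * snd S S) β)
    (α' := bc (fst S S) β * bc (snd S S) β) (by
      rw [pt_mul, hptc, hptc, hptc, MonObj.mul_comp, mul_comm])
  let C : ∀ {T : Over (Spec (CommRingCat.of k))}, (T ⟶ S) → (T ⟶ S) → Γ(T.left, ⊤)ˣ := fun x y => uP (lift x y) c
  have hC : ∀ {T : Over (Spec (CommRingCat.of k))} (x y : T ⟶ S),
      bc x β * bc y β = bc (x * y) β * scal A L T (C x y) := fun x y => by
    have := congrArg (bc (lift x y)) hc
    rw [bc_mul, bc_mul, bc_bc, bc_bc, bc_bc, bc_scal, lift_fst, lift_snd, MonObj.comp_mul, lift_fst, lift_snd] at this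
    exact this
  obtain ⟨κ, hκ⟩ : ∃ κ, bc (η[S] : 𝟙_ (Over (Spec (CommRingCat.of k))) ⟶ S) β = scal A L _ κ :=
    exists_scal hL (by rw [hptc, MonObj.one_eq_one, MonObj.one_comp])
  have hone : ∀ T : Over (Spec (CommRingCat.of k)), bc (1 : T ⟶ S) β = scal A L T (uP (toUnit T) κ) := fun T => by
    rw [Hom.one_def, ← bc_bc, hκ, bc_scal]
  have hl : ∀ {T : Over (Spec (CommRingCat.of k))} (y : T ⟶ S), C 1 y = uP (toUnit T) κ := fun {T} y => by
    have h := hC 1 y
    rw [_root_.one_mul, hone, ← scal_central] at h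
    exact (scal_injective hL (mul_left_cancel h)).symm
  have hr : ∀ {T : Over (Spec (CommRingCat.of k))} (x : T ⟶ S), C x 1 = uP (toUnit T) κ := fun {T} x => by
    have h := hC x 1
    rw [_root_.mul_one, hone] at h
    exact (scal_injective hL (mul_left_cancel h)).symm
  let f : Γ((W ⊗ W).left, ⊤) := (C (fst W W ≫ v) (snd W W ≫ v) : Γ((W ⊗ W).left, ⊤))
  obtain ⟨z, hz⟩ := (prodΓ_bijective W W).2 f
  have hev : ∀ {T : Over (Spec (CommRingCat.of k))} (x y : T ⟶ W), ev x y z = (C (x ≫ v) (y ≫ v) : Γ(T.left, ⊤)) :=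
    fun x y => by
    show pullΓ (lift x y) (prodΓ W W z) = _
    rw [hz]
    show pullΓ (lift x y) (uP (lift (fst W W ≫ v) (snd W W ≫ v)) c).1 = (uP (lift (x ≫ v) (y ≫ v)) c).1
    rw [show lift (x ≫ v) (y ≫ v) = lift x y ≫ lift (fst W W ≫ v) (snd W W ≫ v) by simp [comp_lift], ← uP_uP]
    rfl
  have hsym : TensorProduct.comm k _ _ z = z := by
    refine comm_eq_of_axes (evPt o) e hspan z ?_
    have e1 : ∀ w, Algebra.TensorProduct.lift ((Algebra.ofId k _).comp (evPt o)) (AlgHom.id k _)
        (fun x y => Commute.all _ _) w = ev (toUnit W ≫ o) (𝟙 W) w := fun w => by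
      induction w using TensorProduct.induction_on with
      | zero => simp only [map_zero]
      | tmul a b => rw [Algebra.TensorProduct.lift_tmul, ev_tmul, pullΓ_toUnit, pullΓ_id]; rfl
      | add a b ha hb => simp only [map_add, ha, hb]
    have e2 : ∀ w, Algebra.TensorProduct.lift (AlgHom.id k _) ((Algebra.ofId k _).comp (evPt o))
        (fun x y => Commute.all _ _) w = ev (𝟙 W) (toUnit W ≫ o) w := fun w => by
      induction w using TensorProduct.induction_on with
      | zero => simp only [map_zero]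
      | tmul a b => rw [Algebra.TensorProduct.lift_tmul, ev_tmul, pullΓ_toUnit, pullΓ_id]; rfl
      | add a b ha hb => simp only [map_add, ha, hb]
    rw [e1, e2, hev, hev, Category.id_comp, Category.assoc, ho, MonObj.comp_one, hl, hr]
  intro T t y β₁ β₂ h₁ h₂
  have hswap : C (t ≫ v) (y ≫ v) = C (y ≫ v) (t ≫ v) := by
    refine Units.ext ?_
    rw [← hev, ← hev]
    have e3 : ∀ w, ev y t w = ev t y (TensorProduct.comm k _ _ w) := fun w => by
      induction w using TensorProduct.induction_on with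
      | zero => simp only [map_zero]
      | tmul a b => rw [TensorProduct.comm_tmul, ev_tmul, ev_tmul, mul_comm]
      | add a b ha hb => simp only [map_add, ha, hb]
    rw [e3, hsym]
  refine (commute_congr hL (α' := bc (t ≫ v) β) (β' := bc (y ≫ v) β)
    (by rw [pt_eq_of_isOverPt h₁, hptc, Category.assoc]) (by rw [pt_eq_of_isOverPt h₂, hptc, Category.assoc])).2 ?_
  have hcomm : (t ≫ v) * (y ≫ v) = (y ≫ v) * (t ≫ v) := by
    rw [← cancel_mono iS, MonObj.mul_comp, MonObj.mul_comp, mul_comm]
  rw [hC, hC, hswap, hcomm]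

include hL in
/-- A nontrivial finite subgroup inside `K(L)` has a nontrivial point orthogonal to itself. -/
theorem exists_selfPerp_point [IsAlgClosed k] (hS : MumfordZero hL iS) (hnt : ¬ IsIso S.hom) :
    ∃ (W : Over (Spec (CommRingCat.of k))) (_ : IsFinite W.hom) (v : W ⟶ S), v ≠ 1 ∧
      IsPerpPt L (v ≫ iS) (v ≫ iS) := by
  haveI : IsAffine S.left := isAffine_of_isAffineHom S.hom
  let ε₀ : Γ(S.left, ⊤) →ₐ[k] k := evPt (η[S] : 𝟙_ (Over (Spec (CommRingCat.of k))) ⟶ S)
  let m : Ideal Γ(S.left, ⊤) := RingHom.ker ε₀.toRingHom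
  have hm : ∀ a, a ∈ m ↔ ε₀ a = 0 := fun a => Iff.rfl
  have hsub : ∀ a, a - algebraMap k _ (ε₀ a) ∈ m := fun a => by
    rw [hm, map_sub, AlgHom.commutes]
    exact sub_self _
  have hne : ∀ {W : Over (Spec (CommRingCat.of k))} (v : W ⟶ S) (a : Γ(S.left, ⊤)),
      pullΓ v a ≠ algebraMap k _ (ε₀ a) → v ≠ 1 := fun v a h hv => h (by
    rw [hv, Hom.one_def, pullΓ_toUnit])
  have hm0 : m ≠ ⊥ := fun h => hnt (by
    have hb : Function.Bijective (algebraMap k Γ(S.left, ⊤)) := by
      refine ⟨fun a b hab => ?_, fun a => ⟨ε₀ a, ?_⟩⟩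
      · have h2 := congrArg ε₀ hab
        rwa [AlgHom.commutes, AlgHom.commutes] at h2
      · refine (sub_eq_zero.1 ?_).symm
        have h3 := hsub a
        rwa [h, Ideal.mem_bot] at h3
    haveI : IsIso (CommRingCat.ofHom (algebraMap k Γ(S.left, ⊤))) :=
      (ConcreteCategory.isIso_iff_bijective _).2 hb
    have e : S.hom = S.left.isoSpec.hom ≫ Spec.map (CommRingCat.ofHom (algebraMap k Γ(S.left, ⊤))) := by
      change S.hom = S.left.toSpecΓ ≫ Spec.map ((Scheme.ΓSpecIso (CommRingCat.of k)).inv ≫ S.hom.appTop)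
      rw [Spec.map_comp, ← Category.assoc, ← Scheme.toSpecΓ_naturality, Category.assoc,
        toSpecΓ_SpecMap_ΓSpecIso_inv, Category.comp_id]
    rw [e]
    infer_instance)
  haveI : IsArtinianRing Γ(S.left, ⊤) := IsArtinianRing.of_finite k _
  by_cases hsq : m * m = m
  · -- another rational point
    obtain ⟨e, he, hme⟩ := (Ideal.isIdempotentElem_iff_of_fg m (IsNoetherian.noetherian m)).1 hsq
    have he0 : e ≠ 0 := fun h => hm0 (by rw [hme, h]; simp)
    have hne' : Ideal.span {1 - e} ≠ ⊤ := fun h => he0 (by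
      obtain ⟨a, ha⟩ := Ideal.mem_span_singleton'.1 ((Ideal.eq_top_iff_one _).1 h)
      have h2 := congrArg (· * e) ha
      rw [_root_.one_mul, _root_.mul_assoc, sub_mul, _root_.one_mul, he.eq, sub_self, mul_zero] at h2
      exact h2.symm)
    obtain ⟨M, hM, hle⟩ := Ideal.exists_le_maximal _ hne'
    haveI := hM
    letI := Ideal.Quotient.field M
    haveI : Module.Finite k (Γ(S.left, ⊤) ⧸ M) := inferInstance
    haveI : Algebra.IsIntegral k (Γ(S.left, ⊤) ⧸ M) := Algebra.IsIntegral.of_finite k _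
    let q := AlgEquiv.ofBijective (Algebra.ofId k (Γ(S.left, ⊤) ⧸ M))
      (IsAlgClosed.algebraMap_bijective_of_isIntegral (k := k) (K := Γ(S.left, ⊤) ⧸ M))
    let χ : Γ(S.left, ⊤) →ₐ[k] k := q.symm.toAlgHom.comp (Ideal.Quotient.mkₐ k M)
    obtain ⟨v, hv⟩ := exists_specPt k χ
    refine ⟨_, isFinite_specOver k, v, hne v e ?_, ?_⟩
    · rw [hv, show χ e = 1 from ?_, map_one, (hm e).1 (hme ▸ Ideal.subset_span rfl), map_zero]
      · haveI : Nontrivial Γ((specOver (k := k) k).left, ⊤) := (specEquiv (k := k) k).injective.nontrivial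
        exact one_ne_zero
      · have h2 : χ (1 - e) = 0 := by
          show q.symm (Ideal.Quotient.mk M (1 - e)) = 0
          rw [Ideal.Quotient.eq_zero_iff_mem.2 (hle (Ideal.subset_span rfl)), map_zero]
        rw [map_sub, map_one, sub_eq_zero] at h2
        exact h2.symm
    · intro T t y β₁ β₂ h₁ h₂
      haveI : IsIso (specOver (k := k) k).hom := by
        haveI : IsIso (CommRingCat.ofHom (algebraMap k k)) :=
          (ConcreteCategory.isIso_iff_bijective _).2 Function.bijective_id
        exact inferInstanceAs (IsIso (Spec.map (CommRingCat.ofHom (algebraMap k k))))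
      obtain rfl : t = y := Over.OverMorphism.ext
        ((cancel_mono (specOver (k := k) k).hom).1 ((Over.w t).trans (Over.w y).symm))
      obtain ⟨c, rfl⟩ := exists_eq_mul_scal hL ((pt_eq_of_isOverPt h₁).trans (pt_eq_of_isOverPt h₂).symm)
      rw [_root_.mul_assoc, scal_central]
  · -- a tangent vector
    obtain ⟨x, hxm, hx⟩ := SetLike.exists_of_lt (lt_of_le_of_ne Ideal.mul_le_left hsq)
    obtain ⟨φ, hφx, hφle⟩ := Submodule.exists_le_ker_of_notMem
      (show x ∉ (m * m).restrictScalars k from hx)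
    have hφ2 : ∀ a ∈ m * m, φ a = 0 := fun a ha => LinearMap.mem_ker.1 (hφle ha)
    let d : Γ(S.left, ⊤) →ₗ[k] k :=
      φ ∘ₗ (LinearMap.id - (Algebra.linearMap k Γ(S.left, ⊤)) ∘ₗ ε₀.toLinearMap)
    have hd : ∀ a, d a = φ (a - algebraMap k _ (ε₀ a)) := fun a => rfl
    have hd1 : d 1 = 0 := by rw [hd, map_one, map_one, sub_self, map_zero]
    have hdmul : ∀ a b, d (a * b) = ε₀ a * d b + ε₀ b * d a := fun a b => by
      have h := hφ2 _ (Ideal.mul_mem_mul (hsub a) (hsub b))
      have e1 : a * b - algebraMap k Γ(S.left, ⊤) (ε₀ (a * b)) =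
          (a - algebraMap k _ (ε₀ a)) * (b - algebraMap k _ (ε₀ b)) + ε₀ a • (b - algebraMap k _ (ε₀ b)) +
            ε₀ b • (a - algebraMap k _ (ε₀ a)) := by
        rw [map_mul, map_mul, Algebra.smul_def, Algebra.smul_def]
        ring
      rw [hd, hd, hd, e1, map_add, map_add, map_smul, map_smul, h, zero_add, smul_eq_mul, smul_eq_mul]
    let ψ : Γ(S.left, ⊤) →ₐ[k] DualNumber k :=
      AlgHom.ofLinearMap ((Algebra.linearMap k (DualNumber k)) ∘ₗ ε₀.toLinearMap + d.smulRight DualNumber.eps)
        (by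
          show algebraMap k (DualNumber k) (ε₀ 1) + d 1 • DualNumber.eps = 1
          rw [map_one, map_one, hd1, zero_smul, add_zero])
        (fun a b => by
          show algebraMap k (DualNumber k) (ε₀ (a * b)) + d (a * b) • DualNumber.eps =
            (algebraMap k (DualNumber k) (ε₀ a) + d a • DualNumber.eps) *
              (algebraMap k (DualNumber k) (ε₀ b) + d b • DualNumber.eps)
          rw [hdmul, map_mul, map_mul, Algebra.smul_def, Algebra.smul_def, Algebra.smul_def, map_add, map_mul, map_mul]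
          have h0 := DualNumber.eps_mul_eps (R := k)
          linear_combination (norm := ring_nf) -(algebraMap k (DualNumber k) (d a) * algebraMap k _ (d b)) * h0)
    haveI : Module.Finite k (DualNumber k) := inferInstanceAs (Module.Finite k (k × k))
    obtain ⟨v, hv⟩ := exists_specPt (DualNumber k) ψ
    haveI := isFinite_specOver (k := k) (DualNumber k)
    let W := specOver (k := k) (DualNumber k)
    let E := specEquiv (k := k) (DualNumber k)
    have hψ : ∀ a, ψ a = algebraMap k (DualNumber k) (ε₀ a) + d a • DualNumber.eps := fun a => rfl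
    refine ⟨W, inferInstance, v, hne v x ?_, ?_⟩
    · rw [hv, hψ, ← E.commutes]
      intro h
      have h2 := congrArg TrivSqZeroExt.snd (E.injective h)
      have h3 : ε₀ x = 0 := (hm x).1 hxm
      refine hφx ?_
      have h4 : d x = φ x := by rw [hd, h3, map_zero, sub_zero]
      rw [← h4]
      simpa [TrivSqZeroExt.algebraMap_eq_inl] using h2
    let o₀ : DualNumber k →ₐ[k] k := TrivSqZeroExt.fstHom k k k
    haveI : IsAffine W.left := isAffine_of_isAffineHom W.hom
    obtain ⟨o', ho'⟩ := exists_specPt (S := W) k (o₀.comp E.symm.toAlgHom)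
    let ι₀ : 𝟙_ (Over (Spec (CommRingCat.of k))) ⟶ specOver (k := k) k :=
      Over.homMk (𝟙 _) (by simp)
    let o := ι₀ ≫ o'
    have hE : ∀ a : DualNumber k, evPt o (E a) = a.fst := fun a => by
      refine bijective_algebraMap_unit.1 ?_
      rw [← pullΓ_toUnit, toUnit_unique (toUnit (𝟙_ (Over (Spec (CommRingCat.of k))))) (𝟙 _), Category.id_comp,
        pullΓ_comp, ho']
      have e5 : ∀ r : k, specEquiv (k := k) k r = algebraMap k _ r := fun r =>
        (specEquiv (k := k) k).commutes r
      rw [e5, (pullΓ ι₀).commutes]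
      simp [o₀]
      exact congrArg _ (E.symm_apply_apply a)
    have ho : o ≫ v = 1 := by
      refine Over.OverMorphism.ext (ext_of_isAffine (ConcreteCategory.hom_ext _ _ fun a => ?_))
      show pullΓ (o ≫ v) a = pullΓ (1 : _ ⟶ S) a
      rw [pullΓ_comp, hv, Hom.one_def, pullΓ_toUnit]
      have h6 := hE (ψ a)
      have h7 : pullΓ o (E (ψ a)) = algebraMap k _ (evPt o (E (ψ a))) := by
        rw [← pullΓ_toUnit, toUnit_unique (toUnit (𝟙_ (Over (Spec (CommRingCat.of k))))) (𝟙 _), Category.id_comp]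
      rw [h7, h6, hψ]
      simp [TrivSqZeroExt.algebraMap_eq_inl, ε₀]
    refine isPerpPt_self hL iS hS v o ho (E DualNumber.eps) fun a => ?_
    obtain ⟨a, rfl⟩ := E.surjective a
    refine ⟨a.snd, ?_⟩
    rw [hE, ← E.commutes, ← map_smul, ← map_add]
    congr 1
    ext <;> simp [TrivSqZeroExt.algebraMap_eq_inl]

end AVThetaLib
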