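import Groth.Agent.AVThetaLib.SubPts
import Groth.Agent.AVThetaLib.SelfPerp
import Groth.Agent.AVIndexLib.MumfordEuler

/-!
A nontrivial finite subgroup of `K(L)` contains a nontrivial isotropic subgroup.
-/

set_option autoImplicit false
set_option maxHeartbeats 1000000
set_option maxRecDepth 8000
set_option backward.isDefEq.respectTransparency false
set_option linter.style.haveILetI false
set_option linter.unusedSectionVars false

noncomputable section

universe u

open CategoryTheory CategoryTheory.Limits MonoidalCategory CartesianMonoidalCategory MonObj AlgebraicGeometry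
open Pseudofunctor Bicategory ThetaGrp CubeConsLib

namespace AVThetaLib

variable {k : Type u} [Field k]

/-- The dimension of the functions. -/
abbrev rk (X : Over (Spec (CommRingCat.of k))) : ℕ := Module.finrank k Γ(X.left, ⊤)

theorem finrank_eq_rk (X : Over (Spec (CommRingCat.of k))) [IsFinite X.hom] (s : ↥(Spec (CommRingCat.of k))) :
    X.hom.finrank s = rk X := by
  have h := AVIndexLib.finrank_gamma_fibre X.hom (d := X.hom.finrank s) fun x => by
    rw [Subsingleton.elim (α := PrimeSpectrum k) x s]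
  exact h.symm

theorem rk_lt_of_not_isIso {P S : Over (Spec (CommRingCat.of k))} [IsFinite S.hom] (j : P ⟶ S)
    [IsClosedImmersion j.left] (h : ¬ IsIso j) : rk P < rk S := by
  haveI : IsAffine S.left := isAffine_of_isAffineHom S.hom
  haveI : IsAffine P.left := IsClosedImmersion.isAffine_surjective_of_isAffine j.left |>.1
  have hs : Function.Surjective j.left.appTop := (IsClosedImmersion.isAffine_surjective_of_isAffine j.left).2
  have hs' : Function.Surjective (pullΓ j).toLinearMap := hs
  refine lt_of_le_of_ne (LinearMap.finrank_le_finrank_of_surjective hs') fun he => h ?_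
  haveI : Module.Finite k Γ(P.left, ⊤) := Module.Finite.of_surjective _ hs'
  have hi : Function.Injective (pullΓ j).toLinearMap :=
    (LinearMap.injective_iff_surjective_of_finrank_eq_finrank he.symm).2 hs'
  haveI : IsIso j.left.appTop := (ConcreteCategory.isIso_iff_bijective _).2 ⟨hi, hs'⟩
  haveI : IsIso j.left := by
    have e : j.left = P.left.isoSpec.hom ≫ Spec.map j.left.appTop ≫ S.left.isoSpec.inv := by
      rw [← Category.assoc, Scheme.isoSpec_hom_naturality, Category.assoc, Iso.hom_inv_id, Category.comp_id]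
    rw [e]; infer_instance
  haveI : IsIso ((Over.forget _).map j) := ‹IsIso j.left›
  exact isIso_of_reflects_iso j (Over.forget _)

variable {A : Over (Spec (CommRingCat.of k))} [GrpObj A] [IsCommMonObj A] [IsProper A.hom]
  [GeometricallyIntegral A.hom] {L : A.left.Modules} (hL : PicF.IsInvertible L) [IsAlgClosed k]

theorem eq_one_of_isIso_hom {P : Over (Spec (CommRingCat.of k))} [GrpObj P] [IsIso P.hom]
    {T : Over (Spec (CommRingCat.of k))} (z : T ⟶ P) : z = 1 :=
  Over.OverMorphism.ext ((cancel_mono P.hom).1 ((Over.w z).trans (Over.w (1 : T ⟶ P)).symm))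

theorem isPerpPt_symm {H P : Over (Spec (CommRingCat.of k))} {iH : H ⟶ A} {iP : P ⟶ A}
    (h : IsPerpPt L iH iP) : IsPerpPt L iP iH := fun T' t y β₁ β₂ h₁ h₂ => (h T' y t β₂ β₁ h₂ h₁).symm

include hL in
theorem exists_isotropic_sub (n : ℕ) : ∀ (S : Over (Spec (CommRingCat.of k))) [GrpObj S] (iS : S ⟶ A) [IsMonHom iS]
    [IsClosedImmersion iS.left] [IsFinite S.hom], rk S = n → MumfordZero hL iS → ¬ IsIso S.hom →
    ∃ (P : Over (Spec (CommRingCat.of k))) (_ : GrpObj P) (iP : P ⟶ A) (_ : IsMonHom iP)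
      (_ : IsClosedImmersion iP.left) (_ : IsFinite P.hom),
      (∃ y : P ⟶ S, y ≫ iS = iP) ∧ IsIsotropic L iP ∧ ¬ IsIso P.hom := by
  induction n using Nat.strong_induction_on with
  | _ n ih =>
    intro S _ iS _ _ _ hn hS hnt
    haveI : Mono iS := Over.mono_of_mono_left _
    obtain ⟨W, hW, v, hv1, hvv⟩ := exists_selfPerp_point hL iS hS hnt
    obtain ⟨P, hPg, j, hPm, hPc, hPc', hPf, hPz, hPperp, hPuniv⟩ :=
      exists_perp_sub hL iS (v ≫ iS) hS (mumfordZero_comp hL hS v)
    obtain ⟨w, hw⟩ := hPuniv W v hvv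
    have hPnt : ¬ IsIso P.hom := fun h => hv1 (by
      haveI := h
      rw [← cancel_mono iS, MonObj.one_comp, ← hw, eq_one_of_isIso_hom w, Category.assoc, MonObj.one_comp])
    by_cases hj : IsIso j
    · -- the point is orthogonal to everything
      have hSv : IsPerpPt L (v ≫ iS) iS := by
        have h := isPerpPt_comp hPperp (inv j)
        rwa [IsIso.inv_hom_id_assoc] at h
      obtain ⟨R, hRg, jR, hRm, hRc, hRc', hRf, hRz, hRperp, hRuniv⟩ := exists_perp_sub hL iS iS hS hS
      obtain ⟨w', hw'⟩ := hRuniv W v (isPerpPt_symm hSv)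
      have hRnt : ¬ IsIso R.hom := fun h => hv1 (by
        haveI := h
        rw [← cancel_mono iS, MonObj.one_comp, ← hw', eq_one_of_isIso_hom w', Category.assoc, MonObj.one_comp])
      by_cases hjR : IsIso jR
      · have hSS : IsPerpPt L iS iS := by
          have h := isPerpPt_comp hRperp (inv jR)
          rwa [IsIso.inv_hom_id_assoc] at h
        exact ⟨S, ‹_›, iS, ‹_›, ‹_›, ‹_›, ⟨𝟙 S, Category.id_comp _⟩,
          fun T x y β₁ β₂ h₁ h₂ => hSS T x y β₁ β₂ h₁ h₂, hnt⟩
      · obtain ⟨Q, hQg, iQ, hQm, hQc, hQf, ⟨y, hy⟩, hQi, hQnt⟩ :=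
          ih (rk R) (hn ▸ rk_lt_of_not_isIso jR hjR) R (jR ≫ iS) rfl hRz hRnt
        exact ⟨Q, hQg, iQ, hQm, hQc, hQf, ⟨y ≫ jR, by rw [Category.assoc, hy]⟩, hQi, hQnt⟩
    · obtain ⟨Q, hQg, iQ, hQm, hQc, hQf, ⟨y, hy⟩, hQi, hQnt⟩ :=
        ih (rk P) (hn ▸ rk_lt_of_not_isIso j hj) P (j ≫ iS) rfl hPz hPnt
      exact ⟨Q, hQg, iQ, hQm, hQc, hQf, ⟨y ≫ j, by rw [Category.assoc, hy]⟩, hQi, hQnt⟩

end AVThetaLib
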