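import Groth.Agent.AVThetaLib.RankKL
import Groth.Agent.AVThetaLib.Isotropic

/-!
The orthogonal of a maximal isotropic subgroup is trivial after descent.
-/

set_option autoImplicit false
set_option maxHeartbeats 1000000
set_option maxRecDepth 8000
set_option backward.isDefEq.respectTransparency false
set_option linter.style.haveILetI false
set_option linter.unusedSectionVars false

noncomputable section

universe u

open CategoryTheory CategoryTheory.Limits MonoidalCategory CartesianMonoidalCategory MonObj AlgebraicGeometry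
open Pseudofunctor Bicategory ThetaGrp CubeConsLib
open scoped commutatorElement

namespace AVThetaLib

variable {k : Type u} [Field k] [IsAlgClosed k] {A B : Over (Spec (CommRingCat.of k))} [GrpObj A] [IsCommMonObj A]
  [IsProper A.hom] [GeometricallyIntegral A.hom] [GrpObj B] [IsProper B.hom] [GeometricallyIntegral B.hom]
  {f : A ⟶ B} [IsMonHom f] [Surjective f.left] {L : A.left.Modules} (hL : PicF.IsInvertible L)
  {M : B.left.Modules} (hM : PicF.IsInvertible M)

include hM in
/-- The inverse image of an isotropic subgroup. -/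
theorem isIsotropic_pullback (e : (Scheme.Modules.pullback f.left).obj M ≅ L) {W P : Over (Spec (CommRingCat.of k))}
    {iP : P ⟶ B} (hP : MumfordZero hM iP) (hiso : IsIsotropic M iP) {iW : W ⟶ A} {p : W ⟶ P}
    (hp : p ≫ iP = iW ≫ f) : IsIsotropic L iW := by
  haveI : IsCommMonObj B := CubeConsLib.isCommMonObj_field
  have hM' := AmpleDevLib.isInvertible_pb f.left hM
  have hz : ∀ {T : Over (Spec (CommRingCat.of k))} (x : T ⟶ W), MumfordZero hM ((x ≫ iW) ≫ f) := fun x => by
    rw [Category.assoc, ← hp, ← Category.assoc]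
    exact mumfordZero_comp hM hP _
  intro T x y β₁ β₂ h₁ h₂
  obtain ⟨φ, hφ, hpt⟩ := exists_mapIso e.symm T
  refine hφ ?_
  rw [map_mul, map_mul]
  have h1 : IsPairing M ((x ≫ iW) ≫ f) ((y ≫ iW) ≫ f) 1 := fun U g α β hα hβ => by
    rw [map_one, map_one, commutatorElement_eq_one_iff_mul_comm]
    exact hiso U (g ≫ x ≫ p) (g ≫ y ≫ p) α β (isOverPt_iff.2 (by rw [hα]; simp only [Category.assoc, hp]))
      (isOverPt_iff.2 (by rw [hβ]; simp only [Category.assoc, hp]))
  exact (h1.pullback hM (hz x) (hz y)).commute hM' _ _ (by rw [hpt, pt_eq_of_isOverPt h₁])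
    (by rw [hpt, pt_eq_of_isOverPt h₂])

include hL hM in
/-- For a maximal isotropic kernel, `K(M)` is trivial. -/
theorem eq_one_of_maximal (e : (Scheme.Modules.pullback f.left).obj M ≅ L) {H : Over (Spec (CommRingCat.of k))}
    [GrpObj H] {iH : H ⟶ A} [IsMonHom iH] (hN : AlgGrp.IsKernel iH f)
    {K : Over (Spec (CommRingCat.of k))} {iK : K ⟶ A} (hK : IsKL A L iK)
    (hmax : ∀ (H' : Over (Spec (CommRingCat.of k))) [GrpObj H'] (iH' : H' ⟶ A) [IsMonHom iH']
      [IsClosedImmersion iH'.left], (∃ y' : H' ⟶ K, y' ≫ iK = iH') → IsIsotropic L iH' →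
      (∃ z : H ⟶ H', z ≫ iH' = iH) → ∃ z' : H' ⟶ H, z' ≫ iH = iH')
    {KM : Over (Spec (CommRingCat.of k))} {iM : KM ⟶ B} (hKM : IsKL B M iM) [IsFinite KM.hom]
    (T : Over (Spec (CommRingCat.of k))) (z : T ⟶ B) (hz : MumfordZero hM z) : z = 1 := by
  haveI : IsCommMonObj B := CubeConsLib.isCommMonObj_field
  haveI := hKM.closed
  haveI : Mono iM := Over.mono_of_mono_left _
  obtain ⟨gK, hmK⟩ := exists_grpObj_sub iM (fun T => factors_one hM hKM)
    (fun T a b => factors_mul hM hKM ⟨a, rfl⟩ ⟨b, rfl⟩) (fun T a => factors_inv hM hKM ⟨a, rfl⟩)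
  haveI := hmK
  obtain ⟨y, rfl⟩ := (hKM.univ T z).1 ((mumfordTriv_iff hM _).2 hz)
  by_cases hiso : IsIso KM.hom
  · rw [eq_one_of_isIso_hom y, MonObj.one_comp]
  exfalso
  obtain ⟨P, gP, iP, hPm, hPc, hPf, ⟨yP, hyP⟩, hPi, hPnt⟩ := exists_isotropic_sub hM (rk KM) KM iM rfl
    (mumfordZero_of_factors hM hKM ⟨𝟙 KM, Category.id_comp _⟩) hiso
  have hPz : MumfordZero hM iP := mumfordZero_of_factors hM hKM ⟨yP, hyP⟩
  haveI : Mono iP := Over.mono_of_mono_left _
  let W : Over (Spec (CommRingCat.of k)) := Over.mk (Limits.pullback.snd f.left iP.left ≫ P.hom)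
  let iW : W ⟶ A := Over.homMk (Limits.pullback.fst f.left iP.left) (by
    show _ = Limits.pullback.snd f.left iP.left ≫ P.hom
    rw [← Over.w iP, ← Category.assoc, ← Limits.pullback.condition, Category.assoc, Over.w f])
  let p : W ⟶ P := Over.homMk (Limits.pullback.snd f.left iP.left) rfl
  have hWc : p ≫ iP = iW ≫ f := Over.OverMorphism.ext Limits.pullback.condition.symm
  haveI : IsClosedImmersion iW.left := MorphismProperty.pullback_fst (P := @IsClosedImmersion) _ _ inferInstance
  haveI : Mono iW := Over.mono_of_mono_left _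
  have hW : ∀ {T : Over (Spec (CommRingCat.of k))} (a : T ⟶ A) (b : T ⟶ P), b ≫ iP = a ≫ f →
      ∃ w : T ⟶ W, w ≫ iW = a := fun {T} a b hab => by
    let w₀ : T.left ⟶ W.left := Limits.pullback.lift a.left b.left (congrArg Over.Hom.left hab.symm)
    have hw : w₀ ≫ iW.left = a.left := Limits.pullback.lift_fst _ _ _
    exact ⟨Over.homMk w₀ (by rw [← Over.w iW, ← Category.assoc, hw, Over.w a]), Over.OverMorphism.ext hw⟩
  obtain ⟨gW, hmW⟩ := exists_grpObj_sub iW (fun T => hW 1 1 (by rw [MonObj.one_comp, MonObj.one_comp]))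
    (fun T a b => hW _ ((a ≫ p) * (b ≫ p)) (by
      rw [MonObj.mul_comp, MonObj.mul_comp, Category.assoc, Category.assoc, Category.assoc, Category.assoc, hWc]))
    (fun T a => hW _ (a ≫ p)⁻¹ (by rw [GrpObj.inv_comp, GrpObj.inv_comp, Category.assoc, Category.assoc, hWc]))
  haveI := hmW
  have hWK : ∃ y' : W ⟶ K, y' ≫ iK = iW := (hK.univ W iW).1 ((mumfordTriv_iff hL iW).2
    (mumfordZero_of_iso (AmpleDevLib.isInvertible_pb f.left hM) hL e (mumfordZero_pullback hM
      (by rw [← hWc]; exact mumfordZero_comp hM hPz p))))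
  obtain ⟨z', hz'⟩ := hmax W iW hWK (isIsotropic_pullback hM e hPz hPi hWc) (hW iH 1 (by
    rw [MonObj.one_comp, ← Category.id_comp iH, kernel_comp f hN]))
  have hp1 : p ≫ iP = p ≫ 1 := by
    rw [hWc, MonObj.comp_one, ← hz', Category.assoc]
    have := kernel_comp f hN z'
    rwa [Category.assoc] at this
  haveI : Flat f.left := AbSchLib.flat_of_surjective f
  haveI : IsProper (f.left ≫ B.hom) := by rw [Over.w f]; infer_instance
  haveI : IsProper f.left := IsProper.of_comp f.left B.hom
  haveI : Surjective p.left := MorphismProperty.pullback_snd (P := @Surjective) _ _ inferInstance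
  haveI : Flat p.left := MorphismProperty.pullback_snd (P := @Flat) _ _ inferInstance
  haveI : QuasiCompact p.left := MorphismProperty.pullback_snd (P := @QuasiCompact) _ _ inferInstance
  haveI : Epi p.left := Flat.epi_of_flat_of_surjective p.left
  have hP1 : iP = 1 := Over.OverMorphism.ext ((cancel_epi p.left).1 (congrArg Over.Hom.left hp1))
  have e2 : 𝟙 P = toUnit P ≫ η[P] := by
    rw [← cancel_mono iP, Category.id_comp, Category.assoc, hP1, MonObj.comp_one, MonObj.comp_one]
  refine hPnt ⟨(η[P] : 𝟙_ (Over (Spec (CommRingCat.of k))) ⟶ P).left, ?_, Over.w η[P]⟩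
  have h3 := congrArg Over.Hom.left e2
  rw [Over.comp_left, Over.id_left] at h3
  rw [show P.hom = (toUnit P).left from ((Over.w (toUnit P)).symm.trans (Category.comp_id _))]
  exact h3.symm

end AVThetaLib
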