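import Groth.Agent.AVThetaLib.Desc
import Groth.Agent.CubeConsLib.Defect2

/-!
Normalised points of the theta group of the Mumford bundle over `K × 0`.
-/

set_option autoImplicit false
set_option maxHeartbeats 1000000
set_option maxRecDepth 8000
set_option backward.isDefEq.respectTransparency false
set_option linter.style.haveILetI false
set_option linter.unusedSectionVars false

noncomputable section

universe u

open CategoryTheory CategoryTheory.Limits MonoidalCategory CartesianMonoidalCategory MonObj AlgebraicGeometry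
open Pseudofunctor Bicategory ThetaGrp CubeConsLib

namespace AVThetaLib

theorem Pushes.bc {S : Scheme.{u}} {A B : Over S} [GrpObj A] [GrpObj B] {f : A ⟶ B} [IsMonHom f]
    {L : B.left.Modules} {T U : Over S} {α' : thetaPts A ((Scheme.Modules.pullback f.left).obj L) T}
    {α : thetaPts B L T} (h : Pushes α' α) (hp : pt α = pt α' ≫ f) (g : U ⟶ T) :
    Pushes (AVThetaLib.bc g α') (AVThetaLib.bc g α) := by
  refine cancel (bcLift B L g) ?_ ?_
  · rw [CoGrothendieck.categoryStruct_comp_base, CoGrothendieck.categoryStruct_comp_base, base_eq, base_eq, qf_base,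
      pt_bc, pt_bc, hp, ← Category.assoc, ← Over.comp_left, ← Over.comp_left, transl_whisker]
  · rw [Category.assoc, Category.assoc, ← qf_natural, bc_comm, ← Category.assoc, bc_comm, Category.assoc, h,
      ← Category.assoc, qf_natural, Category.assoc]

variable {k : Type u} [Field k] {A : Over (Spec (CommRingCat.of k))} [GrpObj A] [IsCommMonObj A]
  [IsProper A.hom] [GeometricallyIntegral A.hom] {L : A.left.Modules} (hL : PicF.IsInvertible L)
  {Λ : (A ⊗ A).left.Modules} (hΛi : PicF.IsInvertible Λ)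
  (hΛ : AgPol.IsLambdaSheaf μ[A].left (fst A A).left (snd A A).left L Λ)
  {T U : Over (Spec (CommRingCat.of k))}

variable (A) in
/-- The inclusion of `A × 0`. -/
def jA : A ⟶ A ⊗ A := lift (𝟙 A) 1

instance : IsMonHom (jA A) := isMonHom_of_mul _ fun T x y => by
  unfold jA
  apply CartesianMonoidalCategory.hom_ext
  · simp [MonObj.mul_comp]
  · simp [MonObj.mul_comp]

instance : IsMonHom (toUnit A) := isMonHom_of_mul _ fun _ _ _ => Subsingleton.elim _ _

include hΛ hΛi hL in
theorem P_lambda (g : T ⟶ A ⊗ A) :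
    P hΛi g = P hL ((g ≫ fst A A) * (g ≫ snd A A)) - P hL (g ≫ fst A A) - P hL (g ≫ snd A A) := by
  have h1 : PicF.IsInvertible ((Scheme.Modules.pullback (fst A A).left).obj L) := AmpleDevLib.isInvertible_pb _ hL
  have h2 : PicF.IsInvertible ((Scheme.Modules.pullback (snd A A).left).obj L) := AmpleDevLib.isInvertible_pb _ hL
  have h3 : PicF.IsInvertible ((Scheme.Modules.pullback μ[A].left).obj L) := AmpleDevLib.isInvertible_pb _ hL
  unfold AgPol.IsLambdaSheaf at hΛ
  have e := (clA_eq_iff (HilbPolyLib.isInvertible_tensor (HilbPolyLib.isInvertible_tensor hΛi h1) h2) h3).2 hΛ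
  rw [clA_tensor (HilbPolyLib.isInvertible_tensor hΛi h1) h2, clA_tensor hΛi h1] at e
  have e' := congrArg (pullA g.left) e
  rw [map_add, map_add, ← pullA_clA _ hL, ← pullA_clA _ hL, ← pullA_clA _ hL, pullA_comp, pullA_comp, pullA_comp,
    ← Over.comp_left, ← Over.comp_left, ← Over.comp_left] at e'
  have e'' : P hΛi g + P hL (g ≫ fst A A) + P hL (g ≫ snd A A) = P hL (g ≫ μ[A]) := e'
  have hμ : g ≫ μ[A] = (g ≫ fst A A) * (g ≫ snd A A) := by
    rw [Hom.mul_def, ← comp_lift_assoc, lift_fst_snd, Category.id_comp]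
  rw [← hμ, ← e'']
  abel

include hΛ hΛi hL in
theorem exists_over_jA {x : T ⟶ A} (hx : MumfordZero hL x) : ∃ β : thetaPts (A ⊗ A) Λ T, pt β = x ≫ jA A := by
  rw [exists_pts_iff hΛi, P_lambda hL hΛi hΛ, P_lambda hL hΛi hΛ]
  simp only [jA, comp_lift, Category.comp_id, MonObj.comp_one, MonObj.mul_comp, Category.assoc, lift_fst,
    lift_snd, _root_.mul_one]
  let a : (A ⊗ A) ⊗ T ⟶ A := fst (A ⊗ A) T ≫ fst A A
  let b : (A ⊗ A) ⊗ T ⟶ A := fst (A ⊗ A) T ≫ snd A A
  let X : (A ⊗ A) ⊗ T ⟶ A := snd (A ⊗ A) T ≫ x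
  show P hL (a * X * b) - P hL (a * X) - P hL b = P hL (a * b) - P hL a - P hL b
  have key : ∀ c : (A ⊗ A) ⊗ T ⟶ A, P hL (c * X) = P hL c + P hL X := fun c => by
    have h := congrArg (pullA (lift c (snd (A ⊗ A) T)).left) hx
    simpa only [map_add, pullA_P, MonObj.comp_mul, lift_fst, lift_snd_assoc] using h
  rw [mul_right_comm, key, key]
  abel

include hΛ hΛi hL in
theorem exists_triv :
    Nonempty ((Scheme.Modules.pullback (toUnit A).left).obj
        (Coh.structureModule (𝟙_ (Over (Spec (CommRingCat.of k)))).left) ≅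
      (Scheme.Modules.pullback (jA A).left).obj Λ) := by
  have h := P_lambda hL hΛi hΛ (jA A)
  simp only [jA, lift_fst, lift_snd, _root_.mul_one, P_zero hL, sub_self, sub_zero] at h
  have h' : P hΛi (jA A) = P (isInvertible_one _) (toUnit A) := by
    rw [show P (isInvertible_one _) (toUnit A) = (0 : PicA A.left) by
      show pullA (toUnit A).left _ = _
      rw [clA_one, map_zero]]
    exact h
  rw [P_eq, P_eq] at h'
  exact (clA_eq_iff _ _).1 h'.symm

variable (θ : (Scheme.Modules.pullback (toUnit A).left).obj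
        (Coh.structureModule (𝟙_ (Over (Spec (CommRingCat.of k)))).left) ≅
      (Scheme.Modules.pullback (jA A).left).obj Λ)

/-- The canonical point of the trivial bundle over a translation. -/
def tau (x : T ⟶ A) : thetaPts A ((Scheme.Modules.pullback (jA A).left).obj Λ) T :=
  dlift (toUnit A) θ x (Subsingleton.elim _ _)

/-- A point over `(x, 0)` restricting to the canonical point along `A × 0`. -/
def IsNorm (x : T ⟶ A) (β : thetaPts (A ⊗ A) Λ T) : Prop := pt β = x ≫ jA A ∧ Pushes (tau θ x) β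

include hΛi in
theorem IsNorm.unique [IsProper (A ⊗ A).hom] [GeometricallyIntegral (A ⊗ A).hom] {x : T ⟶ A}
    {β β' : thetaPts (A ⊗ A) Λ T} (h : IsNorm θ x β) (h' : IsNorm θ x β') : β = β' := by
  obtain ⟨c, rfl⟩ := exists_eq_mul_scal hΛi (h.1.trans h'.1.symm)
  have e := h.2.mul (pushes_scal (f := jA A) c)
  have e' : tau θ x * scal A _ T c = tau θ x :=
    pts_ext' (qf (jA A) Λ T) (by rw [pt_mul, pt_scal, _root_.one_mul]) (e.trans h'.2.symm)
  rw [mul_eq_left] at e'
  rw [scal_injective (AmpleDevLib.isInvertible_pb _ hΛi) (e'.trans (map_one (scal A _ T)).symm), map_one,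
    _root_.mul_one]

include hΛ hΛi hL in
theorem exists_isNorm [IsProper (A ⊗ A).hom] [GeometricallyIntegral (A ⊗ A).hom] {x : T ⟶ A}
    (hx : MumfordZero hL x) : ∃ β, IsNorm θ x β := by
  obtain ⟨β₀, hβ₀⟩ := exists_over_jA hL hΛi hΛ hx
  obtain ⟨α₀, hα₀, hp⟩ := exists_pushes β₀ x hβ₀
  obtain ⟨c, hc⟩ := exists_eq_mul_scal (AmpleDevLib.isInvertible_pb _ hΛi) (α := α₀) (α' := tau θ x)
    (by rw [hα₀, tau, pt_dlift])
  refine ⟨β₀ * scal (A ⊗ A) Λ T c, by rw [pt_mul, pt_scal, _root_.one_mul, hβ₀], ?_⟩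
  rw [hc]
  exact hp.mul (pushes_scal c)

theorem IsNorm.mul {x y : T ⟶ A} {β β' : thetaPts (A ⊗ A) Λ T} (h : IsNorm θ x β) (h' : IsNorm θ y β') :
    IsNorm θ (x * y) (β * β') := by
  refine ⟨?_, ?_⟩
  · rw [pt_mul, h.1, h'.1, ← MonObj.mul_comp, mul_comm y x]
  · rw [show tau θ (x * y) = tau θ x * tau θ y from dlift_mul (toUnit A) θ x y _ _ _]
    exact h.2.mul h'.2

theorem IsNorm.bc {x : T ⟶ A} {β : thetaPts (A ⊗ A) Λ T} (h : IsNorm θ x β) (g : U ⟶ T) :
    IsNorm θ (g ≫ x) (AVThetaLib.bc g β) := by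
  refine ⟨by rw [pt_bc, h.1, Category.assoc], ?_⟩
  rw [show tau θ (g ≫ x) = AVThetaLib.bc g (tau θ x) from (bc_dlift (toUnit A) θ g x _ _).symm]
  exact h.2.bc (by rw [h.1, tau, pt_dlift]) g

end AVThetaLib
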