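import Groth.Agent.AVThetaLib.Core
import Groth.Agent.StabLib.Simple
import Groth.Agent.CohCmpLib.PullOnComp
import Groth.Agent.KFlatLib.PullTensor
import Groth.Agent.TwistLib.PullGen
import Groth.Agent.ModGlueLib.Basic

/-!
Multiplication by functions as morphisms of pairs, and endomorphisms of invertible modules.
-/

set_option autoImplicit false
set_option maxHeartbeats 400000
set_option maxRecDepth 8000
set_option backward.isDefEq.respectTransparency false
set_option linter.style.haveILetI false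
set_option linter.unusedSectionVars false

noncomputable section

universe u

open CategoryTheory CategoryTheory.Limits AlgebraicGeometry TopologicalSpace Opposite
open Pseudofunctor Bicategory
open StabLib (smulHom smulHom_app)
open KFlatLib (puSec puSec_smul puSec_natural)
open AmpleLib (GenOn res)

namespace AVThetaLib

variable {X Y : Scheme.{u}}

/-- A function restricted to an open. -/
abbrev resF (U : X.Opens) (r : Γ(X, ⊤)) : Γ(X, U) := X.presheaf.map (homOfLE (le_top : U ≤ ⊤)).op r

theorem map_resF {U V : X.Opens} (h : V ≤ U) (r : Γ(X, ⊤)) :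
    X.presheaf.map (homOfLE h).op (resF U r) = resF V r := by
  rw [resF, ← ConcreteCategory.comp_apply, ← Functor.map_comp]
  rfl

theorem smulHom_natural {M N : X.Modules} (φ : M ⟶ N) (r : Γ(X, ⊤)) :
    smulHom M r ≫ φ = φ ≫ smulHom N r := by
  refine Scheme.Modules.hom_ext _ _ fun U => ConcreteCategory.hom_ext _ _ fun m => ?_
  show φ.app U ((smulHom M r).app U m) = (smulHom N r).app U (φ.app U m)
  rw [smulHom_app, smulHom_app, QCohLib.app_smul]

theorem smulHom_mul (M : X.Modules) (r s : Γ(X, ⊤)) : smulHom M r ≫ smulHom M s = smulHom M (s * r) := by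
  refine Scheme.Modules.hom_ext _ _ fun U => ConcreteCategory.hom_ext _ _ fun m => ?_
  show (smulHom M s).app U ((smulHom M r).app U m) = (smulHom M (s * r)).app U m
  rw [smulHom_app, smulHom_app, smulHom_app, ← mul_smul, map_mul]

theorem smulHom_one (M : X.Modules) : smulHom M (1 : Γ(X, ⊤)) = 𝟙 M := by
  refine Scheme.Modules.hom_ext _ _ fun U => ConcreteCategory.hom_ext _ _ fun m => ?_
  show (smulHom M (1 : Γ(X, ⊤))).app U m = m
  rw [smulHom_app, map_one, one_smul]

theorem pullback_map_smulHom (g : X ⟶ Y) (M : Y.Modules) (r : Γ(Y, ⊤)) :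
    (Scheme.Modules.pullback g).map (smulHom M r) = smulHom ((Scheme.Modules.pullback g).obj M) (g.appTop r) := by
  refine CohCmpLib.hom_ext_puSec _ _ fun U m => ?_
  rw [puSec_natural, smulHom_app, smulHom_app, puSec_smul]
  refine congrArg (· • puSec g m) ?_
  exact (congr($(g.naturality (homOfLE (le_top : U ≤ ⊤)).op) r))

theorem smulHom_injective {M : X.Modules} (hM : PicF.IsInvertible M) {r s : Γ(X, ⊤)}
    (h : smulHom M r = smulHom M s) : r = s := by
  refine X.sheaf.eq_of_locally_eq' (fun x : X => (TwistLib.exists_genOn hM x).choose) ⊤ (fun x => homOfLE le_top)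
    (fun x _ => Opens.mem_iSup.2 ⟨x, (TwistLib.exists_genOn hM x).choose_spec.choose_spec.1⟩) r s fun x => ?_
  obtain ⟨-, he⟩ := (TwistLib.exists_genOn hM x).choose_spec.choose_spec
  refine (he _ le_rfl).1 ?_
  have := congrArg (fun φ => Scheme.Modules.Hom.app φ _ (TwistLib.exists_genOn hM x).choose_spec.choose) h
  simp only [smulHom_app] at this
  simp only [AmpleLib.res_refl]
  exact this

theorem exists_eq_smulHom {M : X.Modules} (hM : PicF.IsInvertible M) (φ : M ⟶ M) :
    ∃ r : Γ(X, ⊤), φ = smulHom M r := by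
  choose U e hx he using fun x => TwistLib.exists_genOn hM x
  choose c hc using fun x => (he x (U x) le_rfl).2 (φ.app (U x) (e x))
  simp only [AmpleLib.res_refl] at hc
  -- the functions agree on overlaps
  have hW : ∀ (x : X) (W : X.Opens) (h : W ≤ U x) (m : Γ(M, W)),
      φ.app W m = X.presheaf.map (homOfLE h).op (c x) • m := by
    intro x W h m
    obtain ⟨a, rfl⟩ := (he x W h).2 m
    show φ.app W (a • res M h (e x)) = _
    rw [QCohLib.app_smul, show φ.app W (res M h (e x)) = res M h (φ.app (U x) (e x)) from QCohLib.app_map φ _ _,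
      ← hc x]
    show a • M.presheaf.map (homOfLE h).op (c x • e x) = _ • (a • res M h (e x))
    rw [Scheme.Modules.map_smul, ← mul_smul, ← mul_smul, mul_comm]
  obtain ⟨r, hr, -⟩ := X.sheaf.existsUnique_gluing' U ⊤ (fun x => homOfLE le_top)
    (fun x _ => Opens.mem_iSup.2 ⟨x, hx x⟩) c fun x y => by
      refine ((he x) _ inf_le_left).1 ?_
      show X.presheaf.map (homOfLE (inf_le_left : U x ⊓ U y ≤ U x)).op (c x) • res M _ (e x) =
        X.presheaf.map (homOfLE (inf_le_right : U x ⊓ U y ≤ U y)).op (c y) • res M _ (e x)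
      rw [← hW x _ inf_le_left, ← hW y _ inf_le_right]
  refine ⟨r, Scheme.Modules.hom_ext _ _ fun V => ConcreteCategory.hom_ext _ _ fun m => ?_⟩
  rw [smulHom_app]
  refine ModGlueLib.eq_of_locally _ _ fun x hxV => ⟨V ⊓ U x, inf_le_left, ⟨hxV, hx x⟩, ?_⟩
  rw [ModGlueLib.rs, ← QCohLib.app_map, hW x _ inf_le_right]
  show _ = M.presheaf.map _ (_ • m)
  rw [Scheme.Modules.map_smul]
  refine congrArg (· • _) ?_
  rw [← hr x]
  show X.presheaf.map (homOfLE (inf_le_right : V ⊓ U x ≤ U x)).op (resF (U x) r) =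
    X.presheaf.map (homOfLE (inf_le_left : V ⊓ U x ≤ V)).op (resF V r)
  rw [map_resF, map_resF]

/-! ### As morphisms of pairs -/

/-- Multiplication by a function, as an endomorphism of a pair. -/
def sc (M : X.Modules) (r : Γ(X, ⊤)) : mobj X M ⟶ mobj X M :=
  vert (F := ThetaGrp.modPF) (B := X) (smulHom M r)

@[simp] theorem sc_base (M : X.Modules) (r : Γ(X, ⊤)) : (sc M r).base = 𝟙 X := rfl

theorem sc_comm {M : X.Modules} {N : Y.Modules} (f : mobj X M ⟶ mobj Y N) (r : Γ(Y, ⊤)) :
    sc M (f.base.appTop r) ≫ f = f ≫ sc N r := by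
  rw [sc, sc, vert_comp_eq, comp_vert_eq]
  congr 1
  show smulHom M (f.base.appTop r) ≫ f.fiber = f.fiber ≫ (Scheme.Modules.pullback f.base).map (smulHom N r)
  rw [pullback_map_smulHom]
  exact smulHom_natural _ _

theorem sc_mul (M : X.Modules) (r s : Γ(X, ⊤)) : sc M r ≫ sc M s = sc M (s * r) :=
  (vert_comp _ _).trans (congrArg (vert (F := ThetaGrp.modPF) (B := X)) (smulHom_mul M r s))

theorem sc_one (M : X.Modules) : sc M 1 = 𝟙 _ :=
  (congrArg (vert (F := ThetaGrp.modPF) (B := X)) (smulHom_one M)).trans (vert_id _)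

theorem sc_injective {M : X.Modules} (hM : PicF.IsInvertible M) {r s : Γ(X, ⊤)} (h : sc M r = sc M s) : r = s :=
  smulHom_injective hM (vert_injective h)

theorem exists_sc {M : X.Modules} (hM : PicF.IsInvertible M) (f : mobj X M ⟶ mobj X M) (h : f.base = 𝟙 X) :
    ∃ r : Γ(X, ⊤), f = sc M r := by
  obtain ⟨b, φ⟩ := f
  obtain rfl : b = 𝟙 X := h
  let ψ : M ⟶ M := φ ≫ (ThetaGrp.modPF.mapId ⟨op X⟩).hom.toNatTrans.app M
  obtain ⟨r, hr⟩ := exists_eq_smulHom hM ψ
  refine ⟨r, ?_⟩
  rw [sc, ← hr]
  fapply CoGrothendieck.Hom.ext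
  · rfl
  · simp [vert, ψ]
    exact ((congrArg (φ ≫ ·) (((Scheme.Modules.pullbackId X).app M).hom_inv_id)).trans (Category.comp_id _)).symm

end AVThetaLib
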