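import Groth.Agent.AVThetaLib.Pts
import Groth.Agent.AVThetaLib.Scalar
import Groth.Agent.CubeLib.Clopen
import Groth.Agent.AmpleDevLib.Pull

/-!
Scalars in the theta group of an abelian variety: they are exactly the points over the identity, and are central.
-/

set_option autoImplicit false
set_option maxHeartbeats 1000000
set_option maxRecDepth 8000
set_option backward.isDefEq.respectTransparency false
set_option linter.style.haveILetI false
set_option linter.unusedSectionVars false

noncomputable section

universe u

open CategoryTheory CategoryTheory.Limits MonoidalCategory CartesianMonoidalCategory MonObj AlgebraicGeometry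
open Pseudofunctor Bicategory ThetaGrp

namespace AVThetaLib

variable {k : Type u} [Field k] {A : Over (Spec (CommRingCat.of k))} [GrpObj A]
  {L : A.left.Modules} {T U : Over (Spec (CommRingCat.of k))}

/-- A function of `T` as a function on `A × T`. -/
abbrev pf (A T : Over (Spec (CommRingCat.of k))) (c : Γ(T.left, ⊤)) : Γ((A ⊗ T).left, ⊤) := (snd A T).left.appTop c

theorem appTop_pf (x : T ⟶ A) (c : Γ(T.left, ⊤)) : (transl A x).left.appTop (pf A T c) = pf A T c := by
  rw [pf, ← ConcreteCategory.comp_apply, ← Scheme.Hom.comp_appTop, ← Over.comp_left, transl_snd]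

theorem appTop_pf' (g : U ⟶ T) (c : Γ(T.left, ⊤)) :
    (A ◁ g).left.appTop (pf A T c) = pf A U (g.left.appTop c) := by
  rw [pf, pf, ← ConcreteCategory.comp_apply, ← Scheme.Hom.comp_appTop, ← ConcreteCategory.comp_apply,
    ← Scheme.Hom.comp_appTop, ← Over.comp_left, ← Over.comp_left, whiskerLeft_snd]

variable (A L) in
/-- Multiplication by a function of `T` on `(A × T, L_T)`. -/
abbrev scT (T : Over (Spec (CommRingCat.of k))) (c : Γ(T.left, ⊤)) : thetaObj A L T ⟶ thetaObj A L T :=
  sc ((Scheme.Modules.pullback (fst A T).left).obj L) (pf A T c)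

variable (A L) in
/-- The scalar points. -/
def scal (T : Over (Spec (CommRingCat.of k))) : Γ(T.left, ⊤)ˣ →* thetaPts A L T :=
  MonoidHom.mk' (fun c => ⟨{ hom := scT A L T c
                             inv := scT A L T ↑c⁻¹
                             hom_inv_id := by
                               rw [sc_mul, ← map_mul, Units.inv_mul, map_one]; exact sc_one _
                             inv_hom_id := by
                               rw [sc_mul, ← map_mul, Units.mul_inv, map_one]; exact sc_one _ },
      1, by rw [transl_one]; rfl⟩)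
    (fun a b => pts_ext (by
      rw [mul_hom]
      show scT A L T ↑(a * b) = scT A L T ↑b ≫ scT A L T ↑a
      rw [sc_mul, ← map_mul, Units.val_mul]))

theorem scal_hom (c : Γ(T.left, ⊤)ˣ) : (scal A L T c).1.hom = scT A L T c := rfl

theorem pt_scal (c : Γ(T.left, ⊤)ˣ) : pt (scal A L T c) = 1 :=
  pt_eq_of_isOverPt (by rw [IsOverPt, transl_one]; rfl)

theorem scT_comm {V : Over (Spec (CommRingCat.of k))} (f : thetaObj A L T ⟶ thetaObj A L V) (g : T ⟶ V)
    (hf : f.base ≫ (snd A V).left = (snd A T).left ≫ g.left) (c : Γ(V.left, ⊤)) :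
    scT A L T (g.left.appTop c) ≫ f = f ≫ scT A L V c := by
  refine Eq.trans (congrArg (fun r => sc _ r ≫ f) ?_) (sc_comm f (pf A V c))
  rw [pf, pf, ← ConcreteCategory.comp_apply, ← Scheme.Hom.comp_appTop, ← ConcreteCategory.comp_apply,
    ← Scheme.Hom.comp_appTop, hf]

theorem scal_central (c : Γ(T.left, ⊤)ˣ) (α : thetaPts A L T) : α * scal A L T c = scal A L T c * α := by
  refine pts_ext ?_
  rw [mul_hom, mul_hom, scal_hom]
  have := scT_comm α.1.hom (𝟙 T) (by
    rw [base_eq, ← Over.comp_left, transl_snd, Over.id_left, Category.comp_id]) c.1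
  simpa using this

theorem bc_scal (g : U ⟶ T) (c : Γ(T.left, ⊤)ˣ) :
    bc g (scal A L T c) = scal A L U (Units.map g.left.appTop.hom.toMonoidHom c) :=
  (isBaseChange_iff.1 (show ThetaGrp.IsBaseChange (scal A L U (Units.map g.left.appTop.hom.toMonoidHom c)) g
      (scal A L T c) by
    unfold ThetaGrp.IsBaseChange
    exact scT_comm (bcLift A L g) g (by
      show (A ◁ g).left ≫ _ = _
      rw [← Over.comp_left, whiskerLeft_snd, Over.comp_left]) c.1)).symm

variable (hL : PicF.IsInvertible L) [IsProper A.hom] [GeometricallyIntegral A.hom]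

variable (A) in
theorem univO_snd (T : Over (Spec (CommRingCat.of k))) : CubeLib.UnivO (snd A T).left := by
  haveI : LocallyOfFinitePresentation A.hom := LocallyOfFinitePresentation.iff_locallyOfFiniteType.2 inferInstance
  exact (CubeLib.univO_of_geometricallyIntegral A.hom).of_isPullback (IsPullback.of_hasPullback A.hom T.hom)

theorem bijective_pf (T : Over (Spec (CommRingCat.of k))) : Function.Bijective (pf A T) := by
  haveI := (univO_snd A T).appTop ⊤
  exact ConcreteCategory.bijective_of_isIso ((snd A T).left.app ⊤)

include hL in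
theorem exists_scal {α : thetaPts A L T} (h : pt α = 1) : ∃ c, α = scal A L T c := by
  have hLT : PicF.IsInvertible ((Scheme.Modules.pullback (fst A T).left).obj L) :=
    AmpleDevLib.isInvertible_pb _ hL
  have hb : α.1.hom.base = 𝟙 (A ⊗ T).left := by rw [base_eq, h, transl_one]; rfl
  have hb' : α.1.inv.base = 𝟙 (A ⊗ T).left := by
    have := base_eq α⁻¹
    rw [pt_inv, h, inv_one, transl_one] at this
    exact this
  obtain ⟨r, hr⟩ := exists_sc hLT α.1.hom hb
  obtain ⟨s, hs⟩ := exists_sc hLT α.1.inv hb'
  obtain ⟨c, rfl⟩ := (bijective_pf (A := A) T).2 r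
  obtain ⟨d, rfl⟩ := (bijective_pf (A := A) T).2 s
  have e1 := α.1.hom_inv_id
  rw [hr, hs, sc_mul] at e1
  have e2 := sc_injective hLT (e1.trans (sc_one _).symm)
  rw [← map_mul, ← map_one (snd A T).left.appTop.hom] at e2
  have e3 : d * c = 1 := (bijective_pf (A := A) T).1 e2
  exact ⟨⟨c, d, (mul_comm c d).trans e3, e3⟩, pts_ext hr⟩

include hL in
theorem scal_injective : Function.Injective (scal A L T) := fun a b h => by
  have := congrArg (fun g : thetaPts A L T => g.1.hom) h
  exact Units.ext ((bijective_pf (A := A) T).1
    (sc_injective (AmpleDevLib.isInvertible_pb _ hL) this))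

include hL in
theorem central_of_pt {g : thetaPts A L T} (h : pt g = 1) (α : thetaPts A L T) : α * g = g * α := by
  obtain ⟨c, rfl⟩ := exists_scal hL h
  exact scal_central c α

include hL in
theorem exists_eq_mul_scal {α α' : thetaPts A L T} (h : pt α = pt α') : ∃ c, α' = α * scal A L T c := by
  obtain ⟨c, hc⟩ := exists_scal hL (α := α⁻¹ * α') (by rw [pt_mul, pt_inv, h, mul_inv_cancel])
  exact ⟨c, by rw [← hc, mul_inv_cancel_left]⟩

include hL in
/-- Whether two points commute depends only on the translations they lie over. -/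
theorem commute_congr {α α' β β' : thetaPts A L T} (hα : pt α = pt α') (hβ : pt β = pt β') :
    α * β = β * α ↔ α' * β' = β' * α' := by
  obtain ⟨a, rfl⟩ := exists_eq_mul_scal hL hα
  obtain ⟨b, rfl⟩ := exists_eq_mul_scal hL hβ
  constructor
  · intro h
    exact ((Commute.mul_right h (scal_central b α)).mul_left
      ((show Commute (scal A L T a) β from (scal_central a β).symm).mul_right (scal_central b (scal A L T a))))
  · intro h
    have h1 : Commute α (β * scal A L T b) := by
      have h2 : Commute (α * scal A L T a * (scal A L T a)⁻¹) (β * scal A L T b) :=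
        Commute.mul_left h (show Commute (scal A L T a)⁻¹ (β * scal A L T b) from
          ((show Commute (scal A L T a) (β * scal A L T b) from (scal_central a _).symm)).inv_left)
      rwa [mul_inv_cancel_right] at h2
    have h3 : Commute α (β * scal A L T b * (scal A L T b)⁻¹) :=
      h1.mul_right (show Commute α (scal A L T b) from scal_central b α).inv_right
    rwa [mul_inv_cancel_right] at h3

include hL in
/-- Equality of points is local on the parameter scheme. -/
theorem pts_eq_of_local {α β : thetaPts A L T}
    (h : ∀ t : T.left, ∃ (V : T.left.Opens), t ∈ V ∧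
      bc (Over.homMk V.ι rfl : Over.mk (V.ι ≫ T.hom) ⟶ T) α = bc (Over.homMk V.ι rfl : Over.mk (V.ι ≫ T.hom) ⟶ T) β) :
    α = β := by
  choose V htV hV using h
  have hp : pt α = pt β := by
    refine Over.OverMorphism.ext ((T.left.openCoverOfIsOpenCover V
      (top_le_iff.1 fun t _ => TopologicalSpace.Opens.mem_iSup.2 ⟨t, htV t⟩)).hom_ext _ _ fun t => ?_)
    have := congrArg pt (hV t)
    rw [pt_bc, pt_bc] at this
    exact congrArg Over.Hom.left this
  obtain ⟨c, rfl⟩ := exists_eq_mul_scal hL hp
  have hc : c = 1 := by
    refine Units.ext (T.left.sheaf.eq_of_locally_eq' V ⊤ (fun t => homOfLE le_top)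
      (fun t _ => TopologicalSpace.Opens.mem_iSup.2 ⟨t, htV t⟩) _ _ fun t => ?_)
    have := hV t
    rw [bc_mul, bc_scal, left_eq_mul] at this
    have h2 := scal_injective hL (this.trans (map_one (scal A L _)).symm)
    have h3 : (V t).ι.appTop c.1 = (V t).ι.appTop 1 := by
      rw [map_one]; exact congrArg Units.val h2
    have h4 := congrArg (V t).topIso.hom h3
    simp only [← ConcreteCategory.comp_apply, Scheme.Opens.ι_appTop] at h4
    show T.left.presheaf.map _ c.1 = T.left.presheaf.map _ (1 : Γ(T.left, ⊤))
    simpa [← Functor.map_comp] using h4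
  rw [hc, map_one, _root_.mul_one]

end AVThetaLib
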