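import Groth.Prelude.Def_ThetaGrp

/-!
Morphisms of pairs (scheme, module): cartesian morphisms and their use.
-/

set_option autoImplicit false
set_option maxHeartbeats 400000
set_option maxRecDepth 8000
set_option backward.isDefEq.respectTransparency false
set_option backward.defeqAttrib.useBackward true
set_option linter.style.haveILetI false
set_option linter.unusedSectionVars false

noncomputable section

namespace AVThetaLib

open CategoryTheory Pseudofunctor Bicategory Opposite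

section Gen

universe v₁ v₂ u₁ u₂

variable {𝒮 : Type u₁} [Category.{v₁} 𝒮] {F : LocallyDiscrete 𝒮ᵒᵖ ⥤ᵖ Cat.{v₂, u₂}}
  {Z X Y W : CoGrothendieck F}

/-- The fibre part of a morphism is an isomorphism. -/
class Cart (f : X ⟶ Y) : Prop where
  iso : IsIso f.fiber

attribute [instance] Cart.iso

instance cart_id : Cart (𝟙 X) := ⟨by rw [CoGrothendieck.categoryStruct_id_fiber]; infer_instance⟩

instance cart_comp (f : X ⟶ Y) (g : Y ⟶ W) [Cart f] [Cart g] : Cart (f ≫ g) :=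
  ⟨by rw [CoGrothendieck.categoryStruct_comp_fiber]; infer_instance⟩

theorem exists_lift (f : X ⟶ Y) [Cart f] (g : Z ⟶ Y) (c : Z.base ⟶ X.base) (h : c ≫ f.base = g.base) :
    ∃ l : Z ⟶ X, l.base = c ∧ l ≫ f = g := by
  refine ⟨⟨c, g.fiber ≫ eqToHom (by rw [← h]; simp) ≫
    (F.mapComp f.base.op.toLoc c.op.toLoc).hom.toNatTrans.app Y.fiber ≫
    (F.map c.op.toLoc).toFunctor.map (inv f.fiber)⟩, rfl, ?_⟩
  fapply CoGrothendieck.Hom.ext
  · simp [h]
  · simp only [CoGrothendieck.categoryStruct_comp_fiber, Category.assoc]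
    rw [← Functor.map_comp_assoc, IsIso.inv_hom_id, CategoryTheory.Functor.map_id]
    simp [← Cat.Hom₂.comp_app]

theorem cart_of_comp (l : Z ⟶ X) (f : X ⟶ Y) [Cart f] [h : Cart (l ≫ f)] : Cart l := by
  have h' := h.iso
  simp only [CoGrothendieck.categoryStruct_comp_fiber] at h'
  exact ⟨IsIso.of_isIso_comp_right l.fiber ((F.map l.base.op.toLoc).toFunctor.map f.fiber ≫
      (F.mapComp f.base.op.toLoc l.base.op.toLoc).inv.toNatTrans.app Y.fiber)⟩

theorem cancel (f : X ⟶ Y) [Cart f] {l₁ l₂ : Z ⟶ X} (hb : l₁.base = l₂.base) (h : l₁ ≫ f = l₂ ≫ f) :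
    l₁ = l₂ := by
  obtain ⟨c, φ⟩ := l₁
  obtain ⟨c', φ'⟩ := l₂
  obtain rfl : c = c' := hb
  have e := CoGrothendieck.Hom.congr h
  simp only [CoGrothendieck.categoryStruct_comp_fiber, eqToHom_refl, Category.comp_id] at e
  rw [cancel_mono] at e
  subst e
  rfl

theorem isIso_of_cart (f : X ⟶ Y) [Cart f] [IsIso f.base] : IsIso f := by
  obtain ⟨l, hl, hlf⟩ := exists_lift f (𝟙 Y) (inv f.base) (by simp)
  refine ⟨l, cancel f (by simp [hl]) ?_, hlf⟩
  rw [Category.assoc, hlf, Category.comp_id, Category.id_comp]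

/-- The endomorphism over the identity attached to a morphism of fibres. -/
def vert {B : 𝒮} {M N : F.obj ⟨op B⟩} (φ : M ⟶ N) : (⟨B, M⟩ : CoGrothendieck F) ⟶ ⟨B, N⟩ :=
  ⟨𝟙 B, φ ≫ (F.mapId ⟨op B⟩).inv.toNatTrans.app N⟩

@[simp] theorem vert_base {B : 𝒮} {M N : F.obj ⟨op B⟩} (φ : M ⟶ N) : (vert (F := F) φ).base = 𝟙 B := rfl

attribute [local simp] PrelaxFunctor.map₂_eqToHom in
theorem vert_comp_eq {B : 𝒮} {M N : F.obj ⟨op B⟩} (φ : M ⟶ N) (g : (⟨B, N⟩ : CoGrothendieck F) ⟶ W) :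
    vert φ ≫ g = ⟨g.base, φ ≫ g.fiber⟩ := by
  fapply CoGrothendieck.Hom.ext
  · simp
  · simp [vert, F.mapComp_id_right_inv_app, Strict.rightUnitor_eqToIso, ← NatTrans.naturality_assoc,
      ← Cat.Hom₂.comp_app]

attribute [local simp] PrelaxFunctor.map₂_eqToHom in
theorem comp_vert_eq {B : 𝒮} {M N : F.obj ⟨op B⟩} (ψ : M ⟶ N) (g : Z ⟶ (⟨B, M⟩ : CoGrothendieck F)) :
    g ≫ vert ψ = ⟨g.base, g.fiber ≫ (F.map g.base.op.toLoc).toFunctor.map ψ⟩ := by
  fapply CoGrothendieck.Hom.ext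
  · simp
  · simp [vert, F.mapComp_id_left_inv_app, Strict.leftUnitor_eqToIso, ← Functor.map_comp_assoc,
      ← Cat.Hom₂.comp_app]

theorem vert_injective {B : 𝒮} {M N : F.obj ⟨op B⟩} : Function.Injective (vert (F := F) (B := B) (M := M) (N := N)) := by
  intro φ ψ h
  have e := CoGrothendieck.Hom.congr h
  simp [vert] at e
  exact (cancel_mono _).1 e

theorem vert_comp {B : 𝒮} {M N P : F.obj ⟨op B⟩} (φ : M ⟶ N) (ψ : N ⟶ P) :
    vert (F := F) φ ≫ vert ψ = vert (φ ≫ ψ) := by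
  rw [vert_comp_eq]
  simp [vert]

theorem vert_id {B : 𝒮} (M : F.obj ⟨op B⟩) : vert (F := F) (𝟙 M) = 𝟙 _ := by
  simp [vert]
  rfl

theorem cart_of_isIso (f : X ⟶ Y) [IsIso f] : Cart f := by
  let p : (⟨X.base, (F.map f.base.op.toLoc).toFunctor.obj Y.fiber⟩ : CoGrothendieck F) ⟶ Y := ⟨f.base, 𝟙 _⟩
  haveI : Cart p := ⟨inferInstanceAs (IsIso (𝟙 _))⟩
  haveI : IsIso p.base := ⟨(inv f).base, congrArg CoGrothendieck.Hom.base (IsIso.hom_inv_id f),
    congrArg CoGrothendieck.Hom.base (IsIso.inv_hom_id f)⟩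
  haveI := isIso_of_cart p
  have e : vert f.fiber ≫ p = f := by rw [vert_comp_eq]; simp [p]; rfl
  haveI : IsIso (vert (F := F) f.fiber) := by
    haveI : IsIso (vert (F := F) f.fiber ≫ p) := by rw [e]; infer_instance
    exact IsIso.of_isIso_comp_right _ p
  have hw : (inv (vert (F := F) f.fiber)).base = 𝟙 X.base := by
    have := congrArg CoGrothendieck.Hom.base (IsIso.inv_hom_id (vert (F := F) f.fiber))
    exact (Category.comp_id _).symm.trans this
  obtain ⟨w, hwv⟩ : ∃ w, inv (vert (F := F) f.fiber) = vert w := by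
    refine ⟨(inv (vert (F := F) f.fiber)).fiber ≫ eqToHom (by rw [hw]; rfl) ≫
      (F.mapId ⟨op X.base⟩).hom.toNatTrans.app X.fiber, ?_⟩
    fapply CoGrothendieck.Hom.ext
    · simp [hw]
    · simp [vert, ← Cat.Hom₂.comp_app]
  have h1 := IsIso.hom_inv_id (vert (F := F) f.fiber)
  have h2 := IsIso.inv_hom_id (vert (F := F) f.fiber)
  rw [hwv, vert_comp, ← vert_id] at h1 h2
  exact ⟨⟨w, vert_injective h1, vert_injective h2⟩⟩

end Gen

/-! ### The pseudofunctor of modules -/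

universe u

open AlgebraicGeometry

variable {X Y Z : Scheme.{u}}

/-- The pair of a scheme and a module. -/
abbrev mobj (X : Scheme.{u}) (M : X.Modules) : CoGrothendieck (ThetaGrp.modPF.{u}) := ⟨X, M⟩

/-- The canonical morphism from an inverse image. -/
def proj (g : X ⟶ Y) (M : Y.Modules) : mobj X ((Scheme.Modules.pullback g).obj M) ⟶ mobj Y M := ⟨g, 𝟙 _⟩

instance (g : X ⟶ Y) (M : Y.Modules) : Cart (proj g M) := ⟨inferInstanceAs (IsIso (𝟙 _))⟩

/-- The identification of an inverse image along a composite, as a morphism of pairs. -/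
def bcProj (b : X ⟶ Y) (g : Y ⟶ Z) (h : X ⟶ Z) (e : h = b ≫ g) (M : Z.Modules) :
    mobj X ((Scheme.Modules.pullback h).obj M) ⟶ mobj Y ((Scheme.Modules.pullback g).obj M) :=
  ⟨b, (Scheme.Modules.pullbackCongr e).hom.app M ≫ (Scheme.Modules.pullbackComp b g).inv.app M⟩

theorem bcProj_proj (b : X ⟶ Y) (g : Y ⟶ Z) (h : X ⟶ Z) (e : h = b ≫ g) (M : Z.Modules) :
    bcProj b g h e M ≫ proj g M = proj h M := by
  subst e
  fapply CoGrothendieck.Hom.ext
  · rfl
  · simp only [bcProj, proj, CoGrothendieck.categoryStruct_comp_fiber]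
    erw [CategoryTheory.Functor.map_id]
    simp [Scheme.Modules.pullbackCongr]

end AVThetaLib
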