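import Groth.Agent.AVThetaLib.DescLineGlobal
import Groth.Agent.AVThetaLib.Perp

/-!
A lift of the kernel of a homomorphism to the theta group gives a descent.
-/

set_option autoImplicit false
set_option maxHeartbeats 1000000
set_option maxRecDepth 8000
set_option backward.isDefEq.respectTransparency false
set_option linter.style.haveILetI false
set_option linter.unusedSectionVars false

noncomputable section

universe u

open CategoryTheory CategoryTheory.Limits MonoidalCategory CartesianMonoidalCategory MonObj AlgebraicGeometry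
open Pseudofunctor Bicategory ThetaGrp

namespace AVThetaLib

variable {S : Scheme.{u}} {A B : Over S} [GrpObj A] [GrpObj B] {f : A ⟶ B} [IsMonHom f] {L : A.left.Modules}

section Coord

variable {T : Over S} {P : T.left.Modules}

/-- A morphism lying over the graph of a point, as a morphism over `S`. -/
def coordPt (l₁ : mobj T.left P ⟶ thetaObj A L T) (h : l₁.base ≫ (snd A T).left = 𝟙 T.left) : T ⟶ A ⊗ T :=
  Over.homMk l₁.base (by
    rw [← Over.w (snd A T), ← Category.assoc, h, Category.id_comp])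

theorem coordPt_snd (l₁ : mobj T.left P ⟶ thetaObj A L T) (h : l₁.base ≫ (snd A T).left = 𝟙 T.left) :
    coordPt l₁ h ≫ snd A T = 𝟙 T := Over.OverMorphism.ext h

theorem comp_pts_base (l₁ : mobj T.left P ⟶ thetaObj A L T) (h : l₁.base ≫ (snd A T).left = 𝟙 T.left)
    (γ₀ : thetaPts A L T) :
    (l₁ ≫ γ₀.1.hom ≫ π A L T).base = ((coordPt l₁ h ≫ fst A T) * pt γ₀).left := by
  have e : coordPt l₁ h ≫ transl A (pt γ₀) ≫ fst A T = (coordPt l₁ h ≫ fst A T) * pt γ₀ := by
    rw [transl_fst, MonObj.comp_mul, ← Category.assoc _ (snd A T), coordPt_snd, Category.id_comp]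
  rw [← e, CoGrothendieck.categoryStruct_comp_base, CoGrothendieck.categoryStruct_comp_base, base_eq]
  rfl

theorem coord_base (l₁ : mobj T.left P ⟶ thetaObj A L T) (h : l₁.base ≫ (snd A T).left = 𝟙 T.left) :
    (l₁ ≫ π A L T).base = (coordPt l₁ h ≫ fst A T).left := rfl

theorem coord_ext {l₁ l₂ : mobj T.left P ⟶ thetaObj A L T} (ha : l₁.base ≫ (snd A T).left = 𝟙 T.left)
    (hb : l₂.base ≫ (snd A T).left = 𝟙 T.left) (h : l₁ ≫ π A L T = l₂ ≫ π A L T) : l₁ = l₂ :=
  cancel (π A L T) (Limits.pullback.hom_ext (f := A.hom) (g := T.hom) (congrArg CoGrothendieck.Hom.base h)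
    (ha.trans hb.symm)) h

theorem coord_t {W : Scheme.{u}} {P : W.Modules} {t : W ⟶ S} {l₁ : mobj W P ⟶ thetaObj A L (Over.mk t)}
    (h : l₁.base ≫ (snd A (Over.mk t)).left = 𝟙 W) : (l₁ ≫ π A L (Over.mk t)).base ≫ A.hom = t := by
  show (l₁.base ≫ (fst A (Over.mk t)).left) ≫ A.hom = t
  rw [Category.assoc, Over.w, ← Over.w (snd A (Over.mk t)), ← Category.assoc, h]
  exact Category.id_comp t

theorem exists_coord {W : Scheme.{u}} {P : W.Modules} (a : mobj W P ⟶ mobj A.left L) :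
    ∃ l₁ : mobj W P ⟶ thetaObj A L (Over.mk (a.base ≫ A.hom)),
      l₁.base ≫ (snd A (Over.mk (a.base ≫ A.hom))).left = 𝟙 W ∧ l₁ ≫ π A L _ = a := by
  let T : Over S := Over.mk (a.base ≫ A.hom)
  let x : T ⟶ A := Over.homMk a.base rfl
  obtain ⟨l₁, hl, h⟩ := exists_lift (π A L T) a (lift x (𝟙 T)).left (by
    show _ ≫ (fst A T).left = _
    rw [← Over.comp_left, lift_fst]
    rfl)
  refine ⟨l₁, ?_, h⟩
  rw [hl, ← Over.comp_left, lift_snd]
  rfl

end Coord

variable {N : Over S} [GrpObj N] {i : N ⟶ A} [IsMonHom i] {G : Over S} [GrpObj G] {u : thetaPts A L G}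
  {j : N ⟶ G} [IsMonHom j]

/-- The descent datum of a lift of the kernel. -/
def kerDatum [IsCommMonObj A] (hN : AlgGrp.IsKernel i f)
    (hG : IsThetaGrpSch A L G u) (hover : ∀ (T : Over S) (n : T ⟶ N), pt (bc (n ≫ j) u) = n ≫ i) :
    LBDatum f.left L where
  Rel {W P} a a' := ∃ (t : W ⟶ S) (n : Over.mk t ⟶ N) (l₁ : mobj W P ⟶ thetaObj A L (Over.mk t)),
    l₁.base ≫ (snd A (Over.mk t)).left = 𝟙 W ∧ l₁ ≫ π A L _ = a ∧ a' = l₁ ≫ (bc (n ≫ j) u).1.hom ≫ π A L _
  base {W P a a'} := by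
    rintro ⟨t, n, l₁, hl, rfl, rfl⟩
    rw [coord_base (T := Over.mk t) l₁ hl, comp_pts_base (T := Over.mk t) l₁ hl, ← Over.comp_left, ← Over.comp_left,
      MonObj.mul_comp, hover, kernel_comp f hN, _root_.mul_one]
  refl {W P} a := by
    obtain ⟨l₁, hl, h⟩ := exists_coord a
    refine ⟨_, 1, l₁, hl, h, ?_⟩
    have h1 : bc ((1 : Over.mk (a.base ≫ A.hom) ⟶ N) ≫ j) u = 1 := by
      have := (isBaseChange_iff.1 (hG.mul (Over.mk (a.base ≫ A.hom)) 1 1 _ _
        (isBaseChange_iff.2 (rfl : bc 1 u = _)) (isBaseChange_iff.2 (rfl : bc 1 u = _))))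
      rw [_root_.mul_one, mul_eq_left] at this
      rw [MonObj.one_comp, this]
    rw [h1, one_hom, Category.id_comp, h]
  trans {W P a b c} := by
    rintro ⟨t, n, l₁, hl, rfl, rfl⟩ ⟨t', n', l₂, hb, hbπ, rfl⟩
    obtain rfl : t' = t := by
      refine (coord_t hb).symm.trans ((congrArg (fun q => CoGrothendieck.Hom.base q ≫ A.hom) hbπ).trans ?_)
      show (l₁ ≫ (bc (n ≫ j) u).1.hom ≫ π A L (Over.mk t)).base ≫ A.hom = t
      rw [comp_pts_base (T := Over.mk t) l₁ hl]
      exact Over.w _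
    refine ⟨t', n' * n, l₁, hl, rfl, ?_⟩
    have hγ : l₂ = l₁ ≫ (bc (n ≫ j) u).1.hom := by
      refine coord_ext (T := Over.mk t') hb ?_ (hbπ.trans (Category.assoc _ _ _).symm)
      rw [CoGrothendieck.categoryStruct_comp_base, base_eq, Category.assoc, ← Over.comp_left]
      simp only [transl, lift_snd]
      exact hl
    have hm : bc ((n' * n) ≫ j) u = bc (n' ≫ j) u * bc (n ≫ j) u := by
      rw [MonObj.mul_comp]
      exact (isBaseChange_iff.1 (hG.mul (Over.mk t') _ _ _ _ (isBaseChange_iff.2 rfl) (isBaseChange_iff.2 rfl))).symm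
    rw [hm, mul_hom, hγ, Category.assoc, Category.assoc]
  comp {W W' P P'} w {a a'} := by
    rintro ⟨t, n, l₁, hl, rfl, rfl⟩
    let g : Over.mk (w.base ≫ t) ⟶ Over.mk t := Over.homMk w.base rfl
    let x : Over.mk (w.base ≫ t) ⟶ A :=
      g ≫ coordPt (T := Over.mk t) l₁ hl ≫ fst A (Over.mk t)
    obtain ⟨l₁', hl', h'⟩ := exists_lift (bcLift A L g) (w ≫ l₁) (lift x (𝟙 _)).left (by
      show (lift x (𝟙 _)).left ≫ (A ◁ g).left = w.base ≫ l₁.base
      rw [← Over.comp_left, lift_whiskerLeft, Category.id_comp,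
        show lift x g = g ≫ coordPt (T := Over.mk t) l₁ hl from CartesianMonoidalCategory.hom_ext _ _ (by simp [x])
          (by rw [lift_snd, Category.assoc, coordPt_snd, Category.comp_id])]
      rfl)
    refine ⟨w.base ≫ t, g ≫ n, l₁', ?_, ?_, ?_⟩
    · rw [hl', ← Over.comp_left, lift_snd]
      rfl
    · rw [← bcLift_π A L g, ← Category.assoc, h', Category.assoc]
    · rw [show bc ((g ≫ n) ≫ j) u = bc g (bc (n ≫ j) u) from by rw [bc_bc, Category.assoc], ← bcLift_π A L g, reassoc_of% bc_comm g (bc (n ≫ j) u),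
        reassoc_of% h']
  exists_lift {W P} a _ x hx := by
    obtain ⟨l₁, hl, h⟩ := exists_coord a
    let X₁ : Over.mk (a.base ≫ A.hom) ⟶ A := Over.homMk a.base rfl
    let X₂ : Over.mk (a.base ≫ A.hom) ⟶ A := Over.homMk x (by
      show x ≫ A.hom = a.base ≫ A.hom
      rw [← Over.w f, ← Category.assoc, ← hx, Category.assoc])
    have hn : (X₁⁻¹ * X₂) ≫ f = 1 := by
      rw [MonObj.mul_comp, GrpObj.inv_comp, show X₂ ≫ f = X₁ ≫ f from Over.OverMorphism.ext hx.symm, inv_mul_cancel]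
    have hn' : (X₁⁻¹ * X₂) ≫ f = toUnit _ ≫ η[B] := hn
    let n := hN.lift (X₁⁻¹ * X₂) (toUnit _) hn'
    have hni : n ≫ i = X₁⁻¹ * X₂ := hN.lift_fst _ _ _
    haveI : Cart l₁ := @cart_of_comp _ _ _ _ _ _ l₁ (π A L _) _ (by rw [h]; infer_instance)
    haveI := cart_hom (bc (n ≫ j) u)
    refine ⟨_, ?_, (inferInstance : Cart (l₁ ≫ (bc (n ≫ j) u).1.hom ≫ π A L _)), _, n, l₁, hl, h, rfl⟩
    rw [comp_pts_base (T := Over.mk (a.base ≫ A.hom)) l₁ hl, hover, hni,
      show coordPt (T := Over.mk (a.base ≫ A.hom)) l₁ hl ≫ fst A _ = X₁ from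
        Over.OverMorphism.ext ((coord_base (T := Over.mk (a.base ≫ A.hom)) l₁ hl).symm.trans
          (congrArg CoGrothendieck.Hom.base h)), mul_inv_cancel_left]
    rfl
  unique {W P a b c} := by
    rintro ⟨t, n, l₁, hl, rfl, rfl⟩ ⟨t', n', l₁', hl', h', rfl⟩ hbase
    obtain rfl : t' = t := by rw [← coord_t hl', h', coord_t hl]
    obtain rfl : l₁' = l₁ := coord_ext (T := Over.mk t') hl' hl h'
    rw [comp_pts_base (T := Over.mk t') l₁' hl, comp_pts_base (T := Over.mk t') l₁' hl] at hbase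
    have e := mul_left_cancel (Over.OverMorphism.ext hbase)
    rw [hover, hover] at e
    haveI := mono_of_isKernel f hN
    rw [(cancel_mono i).1 e]

variable {k : Type u} [Field k]

theorem exists_descent_of_lift {A B N G : Over (Spec (CommRingCat.of k))} [GrpObj A] [GrpObj B] [GrpObj N] [GrpObj G]
    [IsCommMonObj A] [IsProper A.hom] [GeometricallyIntegral A.hom] [IsProper B.hom] [GeometricallyIntegral B.hom]
    {f : A ⟶ B} [IsMonHom f] [Surjective f.left] {i : N ⟶ A} [IsMonHom i] {L : A.left.Modules}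
    {u : thetaPts A L G} {j : N ⟶ G} [IsMonHom j]
    (hN : AlgGrp.IsKernel i f) (hL : PicF.IsInvertible L) (hG : IsThetaGrpSch A L G u)
    (hover : ∀ (T : Over (Spec (CommRingCat.of k))) (n : T ⟶ N), pt (bc (n ≫ j) u) = n ≫ i) :
    ∃ M : B.left.Modules, PicF.IsInvertible M ∧ Nonempty ((Scheme.Modules.pullback f.left).obj M ≅ L) := by
  haveI := AbSchLib.flat_of_surjective f
  haveI : IsProper (f.left ≫ B.hom) := by rw [Over.w f]; infer_instance
  haveI : IsProper f.left := IsProper.of_comp f.left B.hom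
  haveI : A.left.IsSeparated := ⟨by
    rw [terminalIsTerminal.hom_ext (terminal.from A.left) (A.hom ≫ terminal.from _)]; infer_instance⟩
  exact (kerDatum hN hG hover).exists_descent hL

theorem isClosedImmersion_of_isKernel {A B N : Over (Spec (CommRingCat.of k))} [GrpObj B] [IsProper B.hom]
    {i : N ⟶ A} {f : A ⟶ B} (hN : AlgGrp.IsKernel i f) : IsClosedImmersion i.left := by
  haveI : IsClosedImmersion (η[B].left ≫ B.hom) := by
    rw [Over.w η[B]]
    exact inferInstanceAs (IsClosedImmersion (𝟙 _))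
  haveI : IsClosedImmersion η[B].left := IsClosedImmersion.of_comp η[B].left B.hom
  exact MorphismProperty.of_isPullback (hN.map (Over.forget _)).flip ‹IsClosedImmersion η[B].left›

end AVThetaLib
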