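import Mathlib.AlgebraicGeometry.Pullbacks
import Mathlib.AlgebraicGeometry.Morphisms.Flat
import Mathlib.RingTheory.Flat.Basic

/-!
Unit cocycles on flat affine coverings split locally.
-/

set_option autoImplicit false
set_option maxHeartbeats 1000000
set_option backward.isDefEq.respectTransparency false
set_option linter.style.haveILetI false

noncomputable section

universe u

open CategoryTheory CategoryTheory.Limits AlgebraicGeometry TensorProduct
open Algebra.TensorProduct (includeLeft includeRight)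

namespace AVThetaLib

section Alg

variable (B C : Type u) [CommRing B] [CommRing C] [Algebra B C]

/-- `d ⊗ x ↦ d ⊗ x ⊗ 1` -/
def p12 : C ⊗[B] C →ₐ[B] C ⊗[B] (C ⊗[B] C) := Algebra.TensorProduct.map (AlgHom.id B C) includeLeft

/-- `d ⊗ x ↦ d ⊗ 1 ⊗ x` -/
def p13 : C ⊗[B] C →ₐ[B] C ⊗[B] (C ⊗[B] C) := Algebra.TensorProduct.map (AlgHom.id B C) includeRight

/-- `d ⊗ x ↦ 1 ⊗ d ⊗ x` -/
def p23 : C ⊗[B] C →ₐ[B] C ⊗[B] (C ⊗[B] C) := includeRight

variable {B C}

/-- The solutions of the twisted equation generate the unit ideal. -/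
theorem one_mem_span_twisted [Module.Flat B C] {c : C ⊗[B] C} (hu : IsUnit c)
    (hc : p12 B C c * p23 B C c = p13 B C c) :
    (1 : C) ∈ Ideal.span {x : C | c * x ⊗ₜ[B] 1 = 1 ⊗ₜ[B] x} := by
  let δ : C →ₗ[B] C ⊗[B] C := (LinearMap.mulLeft B c).comp (includeLeft (R := B) (S := B) (A := C) (B := C)).toLinearMap -
    (includeRight (R := B) (A := C) (B := C)).toLinearMap
  have hδ : ∀ x, δ x = c * x ⊗ₜ[B] 1 - 1 ⊗ₜ[B] x := fun x => rfl
  have h0 : ∀ z : C ⊗[B] C, LinearMap.lTensor C δ z = p23 B C c * p12 B C z - p13 B C z := by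
    intro z
    induction z using TensorProduct.induction_on with
    | zero => simp
    | tmul d x => simp [hδ, p12, p13, p23, Algebra.TensorProduct.tmul_mul_tmul, tmul_sub]
    | add a b ha hb => rw [map_add, map_add, map_add, ha, hb]; ring
  have hz : LinearMap.lTensor C δ c = 0 := by rw [h0, mul_comm, hc, sub_self]
  obtain ⟨z, hz⟩ := (Module.Flat.lTensor_exact C (LinearMap.exact_subtype_ker_map δ) c).1 hz
  let μ := Algebra.TensorProduct.lmul' B (S := C)
  have key : ∀ z : C ⊗[B] (LinearMap.ker δ),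
      μ (LinearMap.lTensor C (LinearMap.ker δ).subtype z) ∈ Ideal.span {x : C | c * x ⊗ₜ[B] 1 = 1 ⊗ₜ[B] x} := by
    intro z
    induction z using TensorProduct.induction_on with
    | zero => simp
    | tmul d x =>
      rw [LinearMap.lTensor_tmul, Algebra.TensorProduct.lmul'_apply_tmul]
      refine Ideal.mul_mem_left _ _ (Ideal.subset_span ?_)
      have h := LinearMap.mem_ker.1 x.2
      rw [hδ, sub_eq_zero] at h
      exact h
    | add a b ha hb => rw [map_add, map_add]; exact Ideal.add_mem _ ha hb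
  have h1 : μ c = 1 := by
    let Φ : C ⊗[B] (C ⊗[B] C) →ₐ[B] C := μ.comp (Algebra.TensorProduct.map (AlgHom.id B C) μ)
    have e : ∀ z, Φ (p12 B C z) = μ z ∧ Φ (p13 B C z) = μ z ∧ Φ (p23 B C z) = μ z := by
      intro z
      induction z using TensorProduct.induction_on with
      | zero => simp
      | tmul d x => simp [Φ, μ, p12, p13, p23]
      | add a b ha hb => simp only [map_add, ha.1, hb.1, ha.2.1, hb.2.1, ha.2.2, hb.2.2, and_self]
    have := congrArg Φ hc
    rw [map_mul, (e c).1, (e c).2.1, (e c).2.2] at this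
    exact (hu.map μ).mul_eq_left.1 this
  have h2 := key z
  rw [hz, h1] at h2
  exact h2

end Alg

/-- A unit cocycle of a flat affine covering has solutions not vanishing at any given point. -/
theorem exists_twisted_section {U V : Scheme.{u}} (π : U ⟶ V) [IsAffine U] [IsAffine V] [Flat π]
    (c : Γ(pullback π π, ⊤)) (hu : IsUnit c)
    (hc : ∀ (T : Scheme.{u}) (t₁ t₂ t₃ : T ⟶ U) (h : t₁ ≫ π = t₂ ≫ π) (h' : t₂ ≫ π = t₃ ≫ π),
      (pullback.lift t₁ t₂ h).appTop c * (pullback.lift t₂ t₃ h').appTop c =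
        (pullback.lift t₁ t₃ (h.trans h')).appTop c)
    (u : U) : ∃ x : Γ(U, ⊤), c * (pullback.fst π π).appTop x = (pullback.snd π π).appTop x ∧ u ∈ U.basicOpen x := by
  let B := Γ(V, ⊤)
  let C := Γ(U, ⊤)
  algebraize [π.appTop.hom]
  haveI : Module.Flat B C := RingHom.flat_algebraMap_iff.mp (HasRingHomProperty.appTop (P := @Flat) π ‹_›)
  let iL : Spec (.of (C ⊗[B] C)) ⟶ U := Spec.map (CommRingCat.ofHom Algebra.TensorProduct.includeLeftRingHom) ≫ U.isoSpec.inv
  let iR : Spec (.of (C ⊗[B] C)) ⟶ U :=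
    Spec.map (CommRingCat.ofHom (includeRight (R := B) (A := C) (B := C)).toRingHom) ≫ U.isoSpec.inv
  have hα : Spec.map (CommRingCat.ofHom (algebraMap B C)) = U.isoSpec.inv ≫ π ≫ V.isoSpec.hom := by
    rw [Iso.eq_inv_comp]
    exact Scheme.isoSpec_hom_naturality π
  have hpb : IsPullback iL iR π π := by
    refine IsPullback.of_iso (isPullback_SpecMap_of_isPushout _ _ _ _
      (CommRingCat.isPushout_tensorProduct B C C)) (Iso.refl _) U.isoSpec.symm U.isoSpec.symm V.isoSpec.symm
      ?_ ?_ ?_ ?_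
    · simp [iL]
    · simp [iR]
    · simp [hα]
    · simp [hα]
  let e := hpb.isoPullback
  let ψ : Γ(pullback π π, ⊤) ⟶ CommRingCat.of (C ⊗[B] C) := e.hom.appTop ≫ (Scheme.ΓSpecIso _).hom
  have hψ : ∀ {R : CommRingCat.{u}} (q : CommRingCat.of (C ⊗[B] C) ⟶ R) (z : Γ(pullback π π, ⊤)),
      (Scheme.ΓSpecIso R).hom ((Spec.map q ≫ e.hom).appTop z) = q (ψ z) := by
    intro R q z
    show ((Spec.map q ≫ e.hom).appTop ≫ (Scheme.ΓSpecIso R).hom) z = (ψ ≫ q) z
    congr! 2
    rw [Scheme.Hom.comp_appTop, Category.assoc, Scheme.ΓSpecIso_naturality]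
    simp [ψ]
  have hcoord : ∀ {R : CommRingCat.{u}} (q : C ⟶ R) (x : C),
      (Scheme.ΓSpecIso R).hom ((Spec.map q ≫ U.isoSpec.inv).appTop x) = q x := by
    intro R q x
    show ((Spec.map q ≫ U.isoSpec.inv).appTop ≫ (Scheme.ΓSpecIso R).hom) x = q x
    congr! 2
    rw [Scheme.Hom.comp_appTop, Category.assoc, Scheme.ΓSpecIso_naturality, ← Category.assoc]
    simp [Scheme.isoSpec]
    rw [← Scheme.toSpecΓ_appTop]
  have hL : ∀ x : C, ψ ((pullback.fst π π).appTop x) = x ⊗ₜ[B] 1 := fun x => by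
    show (Scheme.ΓSpecIso _).hom ((e.hom ≫ pullback.fst π π).appTop x) = _
    rw [IsPullback.isoPullback_hom_fst]
    exact hcoord _ x
  have hR : ∀ x : C, ψ ((pullback.snd π π).appTop x) = 1 ⊗ₜ[B] x := fun x => by
    show (Scheme.ΓSpecIso _).hom ((e.hom ≫ pullback.snd π π).appTop x) = _
    rw [IsPullback.isoPullback_hom_snd]
    exact hcoord _ x
  haveI : IsIso ψ := inferInstanceAs (IsIso (e.hom.appTop ≫ (Scheme.ΓSpecIso _).hom))
  have hψu : IsUnit (ψ c) := hu.map ψ.hom
  let C3 := CommRingCat.of (C ⊗[B] (C ⊗[B] C))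
  let r : (C →ₐ[B] C ⊗[B] (C ⊗[B] C)) → (Spec C3 ⟶ U) := fun a =>
    Spec.map (CommRingCat.ofHom a.toRingHom) ≫ U.isoSpec.inv
  let P : (C ⊗[B] C →ₐ[B] C ⊗[B] (C ⊗[B] C)) → (Spec C3 ⟶ pullback π π) := fun a =>
    Spec.map (CommRingCat.ofHom a.toRingHom) ≫ e.hom
  have hP1 : ∀ a, P a ≫ pullback.fst π π = r (a.comp includeLeft) := fun a => by
    simp only [P, r, Category.assoc, e, IsPullback.isoPullback_hom_fst, iL, ← Spec.map_comp_assoc]
    rfl
  have hP2 : ∀ a, P a ≫ pullback.snd π π = r (a.comp includeRight) := fun a => by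
    simp only [P, r, Category.assoc, e, IsPullback.isoPullback_hom_snd, iR, ← Spec.map_comp_assoc]
    rfl
  have e1 : (p12 B C).comp includeLeft = (p13 B C).comp includeLeft := by
    ext x; simp [p12, p13]
  have e2 : (p12 B C).comp includeRight = (p23 B C).comp includeLeft := by
    ext x; simp [p12, p23]
  have e3 : (p13 B C).comp includeRight = (p23 B C).comp includeRight := by
    ext x; simp [p13, p23]
  have hPπ : ∀ a : C ⊗[B] C →ₐ[B] C ⊗[B] (C ⊗[B] C), r (a.comp includeLeft) ≫ π = r (a.comp includeRight) ≫ π :=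
    fun a => by
      rw [← hP1, ← hP2]
      exact (Category.assoc _ _ _).trans ((congrArg (P a ≫ ·) pullback.condition).trans (Category.assoc _ _ _).symm)
  have hcoc : p12 B C (ψ c) * p23 B C (ψ c) = p13 B C (ψ c) := by
    have hP : ∀ a, (Scheme.ΓSpecIso C3).hom ((P a).appTop c) = a (ψ c) := fun a => hψ _ c
    have h := hc (Spec C3) (r ((p12 B C).comp includeLeft)) (r ((p12 B C).comp includeRight))
      (r ((p13 B C).comp includeRight))
      (hPπ (p12 B C)) (by rw [e2, e3]; exact hPπ (p23 B C))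
    rw [show pullback.lift _ _ _ = P (p12 B C) from pullback.hom_ext (by rw [pullback.lift_fst, hP1])
        (by rw [pullback.lift_snd, hP2]),
      show pullback.lift (r ((p12 B C).comp includeRight)) _ _ = P (p23 B C) from
        pullback.hom_ext (by rw [pullback.lift_fst, hP1, e2]) (by rw [pullback.lift_snd, hP2, e3]),
      show pullback.lift _ _ _ = P (p13 B C) from pullback.hom_ext (by rw [pullback.lift_fst, hP1, e1])
        (by rw [pullback.lift_snd, hP2])] at h
    have h' := congrArg (Scheme.ΓSpecIso C3).hom h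
    rw [map_mul, hP, hP, hP] at h'
    exact h'
  have h1 := one_mem_span_twisted hψu hcoc
  by_contra hno
  push Not at hno
  let Q := (U.isoSpec.hom.base u).asIdeal
  have hQ : ∀ x : C, u ∈ U.basicOpen x ↔ x ∉ Q := fun x => by
    rw [← U.toSpecΓ_preimage_basicOpen x]
    rfl
  refine (U.isoSpec.hom.base u).2.ne_top ((Ideal.eq_top_iff_one _).2 ((Ideal.span_le.2 ?_) h1))
  intro x hx
  by_contra hxQ
  refine hno x ((ConcreteCategory.bijective_of_isIso ψ).1 ?_) ((hQ x).2 hxQ)
  rw [map_mul, hL, hR]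
  exact hx

end AVThetaLib
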