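import Groth.Agent.AVThetaLib.Descend
import Groth.Agent.AVThetaLib.DescUnit
import Groth.Agent.RpushLib.AdjIso

/-!
Descent data on invertible modules: invariant trivialisations exist locally on the base.
-/

set_option autoImplicit false
set_option maxHeartbeats 1000000
set_option maxRecDepth 8000
set_option backward.isDefEq.respectTransparency false
set_option linter.style.haveILetI false
set_option linter.unusedSectionVars false

noncomputable section

universe u v

open CategoryTheory CategoryTheory.Limits AlgebraicGeometry TopologicalSpace Opposite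
open Pseudofunctor Bicategory CubeConsLib
open KFlatLib (pb)

namespace AVThetaLib

variable {X Y : Scheme.{u}}

/-- A descent datum on a module relative to a morphism, as a relation between morphisms into it. -/
structure LBDatum (f : X ⟶ Y) (M : X.Modules) where
  /-- Being identified by the datum. -/
  Rel {W : Scheme.{u}} {P : W.Modules} (a a' : mobj W P ⟶ mobj X M) : Prop
  base : ∀ {W : Scheme.{u}} {P : W.Modules} {a a' : mobj W P ⟶ mobj X M}, Rel a a' → a.base ≫ f = a'.base ≫ f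
  refl : ∀ {W : Scheme.{u}} {P : W.Modules} (a : mobj W P ⟶ mobj X M), Rel a a
  trans : ∀ {W : Scheme.{u}} {P : W.Modules} {a b c : mobj W P ⟶ mobj X M}, Rel a b → Rel b c → Rel a c
  comp : ∀ {W W' : Scheme.{u}} {P : W.Modules} {P' : W'.Modules} (w : mobj W' P' ⟶ mobj W P)
    {a a' : mobj W P ⟶ mobj X M}, Rel a a' → Rel (w ≫ a) (w ≫ a')
  exists_lift : ∀ {W : Scheme.{u}} {P : W.Modules} (a : mobj W P ⟶ mobj X M) [Cart a] (x : W ⟶ X),
    a.base ≫ f = x ≫ f → ∃ a', a'.base = x ∧ Cart a' ∧ Rel a a'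
  unique : ∀ {W : Scheme.{u}} {P : W.Modules} {a b c : mobj W P ⟶ mobj X M},
    Rel a b → Rel a c → b.base = c.base → b = c

/-- Being cartesian is local on the source. -/
theorem cart_of_local {Z : Scheme.{u}} {M : X.Modules} {O : Z.Modules} (g : mobj X M ⟶ mobj Z O) {ι : Type v}
    (W : ι → X.Opens) (hW : ∀ x : X, ∃ i, x ∈ W i) (h : ∀ i, Cart (proj (W i).ι M ≫ g)) : Cart g := by
  obtain ⟨b, φ⟩ := g
  let N : X.Modules := (Scheme.Modules.pullback b).obj O
  have e : vert (F := ThetaGrp.modPF) (B := X) (φ : M ⟶ N) ≫ proj b O = (⟨b, φ⟩ : mobj X M ⟶ mobj Z O) :=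
    (vert_comp_eq _ _).trans (congrArg _ (Category.comp_id φ))
  have hi : ∀ i, IsIso ((Scheme.Modules.pullback (W i).ι).map (φ : M ⟶ N)) := fun i => by
    have hc : Cart (proj (W i).ι M ≫ vert (F := ThetaGrp.modPF) (B := X) (φ : M ⟶ N)) :=
      @cart_of_comp _ _ _ _ _ _ (proj (W i).ι M ≫ vert (F := ThetaGrp.modPF) (B := X) (φ : M ⟶ N)) (proj b O) _
        (by rw [Category.assoc, e]; exact h i)
    have h2 := hc.iso
    rw [proj, comp_vert_eq] at h2
    exact (Category.id_comp ((Scheme.Modules.pullback (W i).ι).map (φ : M ⟶ N))) ▸ h2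
  suffices IsIso (φ : M ⟶ N) from ⟨this⟩
  refine RpushLib.isIso_of_bijective_basis _ (B := {U : X.Opens | ∃ i, U ≤ W i})
    (Opens.isBasis_iff_nbhd.2 fun {U x} hx => ?_) fun U ⟨i, hU⟩ => ?_
  · obtain ⟨i, hi⟩ := hW x
    exact ⟨U ⊓ W i, ⟨i, inf_le_right⟩, ⟨hx, hi⟩, inf_le_left⟩
  · have hb := Function.Bijective.comp (@ConcreteCategory.bijective_of_isIso _ _ _ _ _ _ _ _
      (((Scheme.Modules.pullback (W i).ι).map (φ : M ⟶ N)).app ((W i).ι ⁻¹ᵁ U))
      (by haveI := hi i; infer_instance)) (puSecLE_ι_bijective (W i) M hU)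
    refine ((puSecLE_ι_bijective (W i) N hU).of_comp_iff' _).1 ?_
    refine Eq.mpr (congrArg Function.Bijective ?_) hb
    funext m
    exact (CohCmpLib.puSecLE_natural (W i).ι (φ : M ⟶ N) (le_refl _) m).symm

theorem cart_sc {M : X.Modules} {r s : Γ(X, ⊤)} (h : s * r = 1) : Cart (sc M r) := by
  have h' : r * s = 1 := by rw [mul_comm]; exact h
  haveI : IsIso (sc M r) := ⟨sc M s, by rw [sc_mul, h, sc_one], by rw [sc_mul, h', sc_one]⟩
  exact cart_of_isIso _

theorem isInvertible_structureModule (Z : Scheme.{u}) : PicF.IsInvertible (Coh.structureModule Z) := by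
  refine TwistLib.isInvertible_of_genOn (fun _ : PUnit.{u + 1} => (⊤ : Z.Opens)) (fun _ => ⟨PUnit.unit, trivial⟩)
    (fun _ => show Γ(Coh.structureModule Z, ⊤) from (1 : Γ(Z, ⊤))) fun _ V hV => ?_
  have e : ∀ r : Γ(Z, V), r • AmpleLib.res (Coh.structureModule Z) hV
      (show Γ(Coh.structureModule Z, ⊤) from (1 : Γ(Z, ⊤))) = r := fun r =>
    (congrArg (r * ·) (map_one (Z.presheaf.map (homOfLE hV).op).hom)).trans (_root_.mul_one r)
  simp only [e]
  exact Function.bijective_id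

variable {f : X ⟶ Y} {M : X.Modules}

/-- A morphism into the structure module which is invariant for the datum. -/
def LBDatum.Inv (D : LBDatum f M) (V : Y.Opens)
    (F : mobj ((f ⁻¹ᵁ V : X.Opens) : Scheme.{u}) (pb (f ⁻¹ᵁ V).ι M) ⟶ mobj Y (Coh.structureModule Y)) : Prop :=
  ∀ (W : Scheme.{u}) (P : W.Modules), PicF.IsInvertible P →
    ∀ a a' : mobj W P ⟶ mobj ((f ⁻¹ᵁ V : X.Opens) : Scheme.{u}) (pb (f ⁻¹ᵁ V).ι M),
      D.Rel (a ≫ proj _ M) (a' ≫ proj _ M) → a ≫ F = a' ≫ F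

theorem exists_local_cart_affine (hM : PicF.IsInvertible M) (x : X) (O : X.Opens) (hx : x ∈ O) :
    ∃ W : X.Opens, IsAffineOpen W ∧ x ∈ W ∧ W ≤ O ∧ ∃ g : mobj (W : Scheme.{u}) (pb W.ι M) ⟶
      mobj Y (Coh.structureModule Y), g.base = W.ι ≫ f ∧ Cart g := by
  obtain ⟨V, hV, g, hg, hgc⟩ := exists_local_cart hM (isInvertible_structureModule Y) f x
  obtain ⟨(W : X.Opens), hW, hxW, hle⟩ := Opens.isBasis_iff_nbhd.1 X.isBasis_affineOpens (show x ∈ V ⊓ O from ⟨hV, hx⟩)
  have h : W ≤ V := hle.trans inf_le_left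
  refine ⟨W, hW, hxW, hle.trans inf_le_right, bcProj (X.homOfLE h) V.ι (W : X.Opens).ι (Scheme.homOfLE_ι _ h).symm M ≫ g, ?_, ?_⟩
  · show X.homOfLE h ≫ g.base = _
    rw [hg, Scheme.homOfLE_ι_assoc]
  · haveI := hgc
    haveI : Cart (bcProj (X.homOfLE h) V.ι W.ι (Scheme.homOfLE_ι _ h).symm M) :=
      @cart_of_comp _ _ _ _ _ _ (bcProj (X.homOfLE h) V.ι W.ι _ M) (proj V.ι M) _ (by rw [bcProj_proj]; infer_instance)
    infer_instance

/-- Finitely many affine pieces give one affine scheme with a trivialisation. -/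
theorem exists_affine_chart [Flat f] (hM : PicF.IsInvertible M) (S : X.Opens) (hS : IsCompact (S : Set X)) :
    ∃ (U : Scheme.{u}) (_ : IsAffine U) (h : U ⟶ X) (g : mobj U (pb h M) ⟶ mobj Y (Coh.structureModule Y)),
      Flat h ∧ g.base = h ≫ f ∧ Cart g ∧ Set.range h = (S : Set X) := by
  choose W hWa hxW hWS g hg hgc using fun x : S => exists_local_cart_affine (f := f) hM x.1 S x.2
  obtain ⟨s, hs⟩ := hS.elim_finite_subcover (fun x : S => (W x : Set X)) (fun x => (W x).2)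
    fun x hx => Set.mem_iUnion.2 ⟨⟨x, hx⟩, hxW ⟨x, hx⟩⟩
  let G : ↥s → Scheme.{u} := fun x => (W x.1 : Scheme.{u})
  haveI : ∀ x, IsAffine (G x) := fun x => hWa x.1
  let h : (∐ G) ⟶ X := Sigma.desc fun x => (W x.1).ι
  let E : ↥s → (∐ G).Opens := fun x => (Sigma.ι G x).opensRange
  have hE : ∀ z : ↥(∐ G), ∃ x, z ∈ E x := fun z => ⟨_, (sigmaOpenCover G).covers z⟩
  let q : ∀ x, (E x : Scheme.{u}) ⟶ G x := fun x => IsOpenImmersion.lift (Sigma.ι G x) (E x).ι (by
    rw [Scheme.Opens.range_ι]; rfl)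
  have hq : ∀ x, q x ≫ (W x.1).ι = (E x).ι ≫ h := fun x => by
    rw [← IsOpenImmersion.lift_fac (Sigma.ι G x) (E x).ι (by rw [Scheme.Opens.range_ι]; rfl), Category.assoc,
      Sigma.ι_desc]
  choose l hl hlp using fun x => exists_lift (proj (W x.1).ι M) (proj (E x).ι (pb h M) ≫ proj h M) (q x) (hq x)
  have hlc : ∀ x, Cart (l x ≫ g x.1) := fun x => by
    haveI := hgc x.1
    haveI : Cart (l x) := @cart_of_comp _ _ _ _ _ _ (l x) (proj (W x.1).ι M) _ (by rw [hlp]; infer_instance)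
    infer_instance
  obtain ⟨g', hg'b, hg'⟩ := exists_glue_mhom E hE (h ≫ f) (fun x => l x ≫ g x.1) (fun x => by
    show (l x).base ≫ (g x.1).base = _
    rw [hl, hg, ← Category.assoc, hq, Category.assoc]) fun i j => by
    by_cases hij : i = j
    · subst hij; rfl
    · have hno : ∀ z : ↥((E i ⊓ E j : (∐ G).Opens) : Scheme.{u}), False := fun z =>
        (disjoint_opensRange_sigmaι G i j hij).le_bot z.2
      refine mhom_ext (fun p : PEmpty.{1} => p.elim) (fun z => (hno z).elim) ?_ fun p => p.elim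
      show (∐ G).homOfLE (inf_le_left : E i ⊓ E j ≤ E i) ≫ (l i).base ≫ (g i.1).base =
        (∐ G).homOfLE (inf_le_right : E i ⊓ E j ≤ E j) ≫ (l j).base ≫ (g j.1).base
      rw [hl, hl, hg, hg, ← Category.assoc (q i), hq, ← Category.assoc (q j), hq, Category.assoc, Category.assoc,
        Scheme.homOfLE_ι_assoc, Scheme.homOfLE_ι_assoc]
  refine ⟨∐ G, inferInstance, h, g', IsZariskiLocalAtSource.sigmaDesc (fun x => inferInstance), hg'b,
    cart_of_local g' E hE fun x => by rw [hg']; exact hlc x, ?_⟩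
  refine Set.eq_of_subset_of_subset ?_ fun x hx => ?_
  · rintro _ ⟨z, rfl⟩
    obtain ⟨x, hx⟩ := hE z
    obtain ⟨w, rfl⟩ := hx
    rw [← Scheme.Hom.comp_apply, Sigma.ι_desc]
    exact hWS x.1 w.2
  · obtain ⟨i, hi, hxi⟩ := Set.mem_iUnion₂.1 (hs hx)
    refine ⟨Sigma.ι G ⟨i, hi⟩ ⟨x, hxi⟩, ?_⟩
    rw [← Scheme.Hom.comp_apply, Sigma.ι_desc]
    rfl

/-- The datum is given on an affine covering by a unit on the double covering. -/
theorem LBDatum.exists_cocycle (D : LBDatum f M) (hM : PicF.IsInvertible M) {U V : Scheme.{u}} (π : U ⟶ V)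
    (h : U ⟶ X) (j : V ⟶ Y) [Mono j] (hπ : π ≫ j = h ≫ f) (g : mobj U (pb h M) ⟶ mobj Y (Coh.structureModule Y))
    [Cart g] (hg : g.base = h ≫ f) :
    ∃ c : Γ(pullback π π, ⊤), IsUnit c ∧
      (∀ (W : Scheme.{u}) (P : W.Modules) (b b' : mobj W P ⟶ mobj U (pb h M)) (e : b.base ≫ π = b'.base ≫ π),
        D.Rel (b ≫ proj h M) (b' ≫ proj h M) →
          b' ≫ g = sc P ((pullback.lift b.base b'.base e).appTop c) ≫ b ≫ g) ∧
      ∀ (T : Scheme.{u}) (t₁ t₂ t₃ : T ⟶ U) (e : t₁ ≫ π = t₂ ≫ π) (e' : t₂ ≫ π = t₃ ≫ π),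
        (pullback.lift t₁ t₂ e).appTop c * (pullback.lift t₂ t₃ e').appTop c =
          (pullback.lift t₁ t₃ (e.trans e')).appTop c := by
  have hf : ∀ {T : Scheme.{u}} {t t' : T ⟶ U}, t ≫ π = t' ≫ π → (t ≫ h) ≫ f = (t' ≫ h) ≫ f := fun {T t t'} e => by
    rw [Category.assoc, Category.assoc, ← hπ, ← Category.assoc, e, Category.assoc]
  have lifts : ∀ {W : Scheme.{u}} {P : W.Modules} (b : mobj W P ⟶ mobj U (pb h M)) [Cart b] (t : W ⟶ U),
      b.base ≫ π = t ≫ π → ∃ b', b'.base = t ∧ Cart b' ∧ D.Rel (b ≫ proj h M) (b' ≫ proj h M) := by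
    intro W P b _ t e
    obtain ⟨A', hA', hc', hR⟩ := D.exists_lift (b ≫ proj h M) (t ≫ h) (hf e)
    obtain ⟨b', hb', hbp⟩ := AVThetaLib.exists_lift (proj h M) A' t hA'.symm
    haveI := hc'
    exact ⟨b', hb', @cart_of_comp _ _ _ _ _ _ b' (proj h M) _ (by rw [hbp]; exact hc'), by rw [hbp]; exact hR⟩
  let a := proj (pullback.fst π π) (pb h M)
  have hP : PicF.IsInvertible (pb (pullback.fst π π) (pb h M)) :=
    AmpleDevLib.isInvertible_pb _ (AmpleDevLib.isInvertible_pb _ hM)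
  obtain ⟨a', ha', hac', hR⟩ := lifts a (pullback.snd π π) pullback.condition
  haveI := hac'
  haveI : Cart (a ≫ g) := cart_comp a g
  haveI : Cart (a' ≫ g) := cart_comp a' g
  have hb : (a' ≫ g).base = (a ≫ g).base := by
    rw [CoGrothendieck.categoryStruct_comp_base, CoGrothendieck.categoryStruct_comp_base, ha', hg, ← hπ,
      ← Category.assoc, ← Category.assoc, show a.base ≫ π = pullback.snd π π ≫ π from pullback.condition]
  obtain ⟨c, hc⟩ := exists_eq_sc_comp hP (a ≫ g) (a' ≫ g) hb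
  obtain ⟨c', hc'⟩ := exists_eq_sc_comp hP (a' ≫ g) (a ≫ g) hb.symm
  have hu : c' * c = 1 := by
    refine (sc_injective hP (cancel (a' ≫ g) (by simp) ?_)).symm
    calc sc _ 1 ≫ a' ≫ g = a' ≫ g := by rw [sc_one, Category.id_comp]
      _ = sc _ c ≫ sc _ c' ≫ a' ≫ g := by rw [← hc', ← hc]
      _ = sc _ (c' * c) ≫ a' ≫ g := by rw [← Category.assoc, sc_mul]
  have huniv : ∀ (W : Scheme.{u}) (P : W.Modules) (b b' : mobj W P ⟶ mobj U (pb h M)) (e : b.base ≫ π = b'.base ≫ π),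
      D.Rel (b ≫ proj h M) (b' ≫ proj h M) →
        b' ≫ g = sc P ((pullback.lift b.base b'.base e).appTop c) ≫ b ≫ g := by
    intro W P b b' e hbb
    obtain ⟨l, hl, hla⟩ := AVThetaLib.exists_lift a b (pullback.lift b.base b'.base e) (pullback.lift_fst _ _ _)
    have h1 : D.Rel (b ≫ proj h M) (l ≫ a' ≫ proj h M) := by
      rw [← hla, Category.assoc]
      exact D.comp l hR
    have hlb : l.base ≫ a'.base = b'.base := by rw [hl, ha', pullback.lift_snd]
    have h2 : b' = l ≫ a' := cancel (proj h M) hlb.symm (by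
      rw [Category.assoc]
      refine D.unique hbb h1 ?_
      show b'.base ≫ h = l.base ≫ a'.base ≫ h
      rw [← Category.assoc, hlb])
    refine (congrArg (· ≫ g) h2).trans ?_
    rw [Category.assoc, hc, ← Category.assoc l, ← sc_comm l, Category.assoc, ← Category.assoc l a, hla, hl]
  refine ⟨c, IsUnit.of_mul_eq_one_right c' hu, huniv, fun T t₁ t₂ t₃ e e' => ?_⟩
  let b₁ := proj t₁ (pb h M)
  obtain ⟨b₂, hb₂, hbc₂, h12⟩ := lifts b₁ t₂ e
  haveI := hbc₂
  obtain ⟨b₃, hb₃, hbc₃, h23⟩ := lifts b₂ t₃ (by rw [hb₂]; exact e')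
  subst hb₂ hb₃
  have k1 := huniv _ _ b₁ b₂ e h12
  have k2 := huniv _ _ b₂ b₃ e' h23
  have k3 := huniv _ _ b₁ b₃ (e.trans e') (D.trans h12 h23)
  rw [k1, ← Category.assoc, sc_mul, k3] at k2
  haveI : Cart (b₁ ≫ g) := cart_comp b₁ g
  exact (sc_injective (AmpleDevLib.isInvertible_pb _ (AmpleDevLib.isInvertible_pb _ hM))
    (cancel (b₁ ≫ g) (by simp) k2)).symm

theorem isUnit_of_surjective_appTop (q : X ⟶ Y) [Surjective q] {d : Γ(Y, ⊤)} (h : IsUnit (q.appTop d)) : IsUnit d := by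
  refine RingedSpace.isUnit_of_isUnit_germ Y.toLocallyRingedSpace.toRingedSpace ⊤ d fun y hy => ?_
  obtain ⟨x, rfl⟩ := q.surjective y
  have hx : x ∈ X.basicOpen (q.appTop d) := by rw [X.basicOpen_of_isUnit h]; trivial
  rw [← Scheme.preimage_basicOpen_top] at hx
  exact (Y.mem_basicOpen d (q x) hy).1 hx

/-- An invariant trivialisation exists near every point of the base. -/
theorem LBDatum.exists_local_inv [Flat f] [Surjective f] [QuasiCompact f] [QuasiSeparatedSpace X]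
    (D : LBDatum f M) (hM : PicF.IsInvertible M) (y : Y) :
    ∃ V : Y.Opens, y ∈ V ∧
      ∃ F : mobj ((f ⁻¹ᵁ V : X.Opens) : Scheme.{u}) (pb (f ⁻¹ᵁ V).ι M) ⟶ mobj Y (Coh.structureModule Y),
        F.base = (f ⁻¹ᵁ V).ι ≫ f ∧ Cart F ∧ D.Inv V F := by
  obtain ⟨(V : Y.Opens), hV, hyV, -⟩ := Opens.isBasis_iff_nbhd.1 Y.isBasis_affineOpens (show y ∈ (⊤ : Y.Opens) from trivial)
  obtain ⟨U₀, hU₀, h₀, g₀, hh₀, hg₀, hgc₀, hr₀⟩ :=
    exists_affine_chart (f := f) hM (f ⁻¹ᵁ V) (QuasiCompact.isCompact_preimage _ V.2 hV.isCompact)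
  have htop : (h₀ ≫ f) ⁻¹ᵁ V = ⊤ := top_le_iff.1 fun z _ => by
    show f (h₀ z) ∈ V
    exact hr₀.le (Set.mem_range_self z)
  -- the affine covering and its structure map
  let E := (h₀ ≫ f) ⁻¹ᵁ V
  have hEaff : IsAffine E := show IsAffineOpen E by rw [show E = ⊤ from htop]; exact isAffineOpen_top U₀
  haveI : IsAffine (V : Scheme.{u}) := hV
  let π : (E : Scheme.{u}) ⟶ V := (h₀ ≫ f) ∣_ V
  let h : (E : Scheme.{u}) ⟶ X := E.ι ≫ h₀
  haveI := hgc₀
  obtain ⟨l, hl, hlp⟩ := AVThetaLib.exists_lift (proj h₀ M) (proj h M) E.ι rfl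
  haveI : Cart l := @cart_of_comp _ _ _ _ _ _ l (proj h₀ M) _ (by rw [hlp]; infer_instance)
  let g := l ≫ g₀
  haveI hgc : Cart g := cart_comp l g₀
  have hg : g.base = h ≫ f := by
    show l.base ≫ g₀.base = _
    rw [hl, hg₀, Category.assoc]
  have hπ : π ≫ V.ι = h ≫ f := by rw [morphismRestrict_ι, Category.assoc]
  have hrange : ∀ x : X, f x ∈ V → ∃ z : E, h z = x := fun x hx => by
    obtain ⟨z, rfl⟩ : x ∈ Set.range h₀ := hr₀.ge hx
    exact ⟨⟨z, show z ∈ E by rw [show E = ⊤ from htop]; trivial⟩, rfl⟩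
  haveI : Flat h := inferInstanceAs (Flat (E.ι ≫ h₀))
  haveI : Flat π := IsZariskiLocalAtTarget.restrict (P := @Flat) inferInstance V
  haveI : Surjective π := ⟨fun v => by
    obtain ⟨x, hx⟩ := f.surjective v.1
    obtain ⟨z, rfl⟩ := hrange x (hx ▸ v.2)
    refine ⟨z, Subtype.ext ?_⟩
    rw [← hx]
    exact congr($hπ z)⟩
  obtain ⟨c, hcu, huniv, hcoc⟩ := D.exists_cocycle hM π h V.ι hπ g hg
  obtain ⟨x₀, hx₀⟩ := f.surjective y
  obtain ⟨u₀, rfl⟩ := hrange x₀ (hx₀ ▸ hyV)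
  obtain ⟨ξ, hξ, hu₀⟩ := exists_twisted_section π c hcu hcoc u₀
  -- saturation of the locus where `ξ` is invertible
  have hsat : ∀ z z' : E, π z = π z' → z ∈ (E : Scheme.{u}).basicOpen ξ → z' ∈ (E : Scheme.{u}).basicOpen ξ := by
    intro z z' e hz
    obtain ⟨w, hw1, hw2⟩ := Scheme.Pullback.exists_preimage_pullback (f := π) (g := π) z z' e
    have h1 : w ∈ (pullback π π).basicOpen (c * (pullback.fst π π).appTop ξ) := by
      rw [Scheme.basicOpen_mul]
      refine ⟨by rw [(pullback π π).basicOpen_of_isUnit hcu]; trivial, ?_⟩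
      rw [← Scheme.preimage_basicOpen_top]
      exact (hw1 ▸ hz : pullback.fst π π w ∈ _)
    rw [hξ, ← Scheme.preimage_basicOpen_top] at h1
    exact hw2 ▸ h1
  let Z : Set (V : Scheme.{u}) := π '' ((E : Scheme.{u}).basicOpen ξ : Set E)
  have hZ : IsOpen Z := by
    rw [← (Flat.isQuotientMap_of_surjective π).isOpen_preimage]
    convert ((E : Scheme.{u}).basicOpen ξ).2 using 1
    refine Set.eq_of_subset_of_subset ?_ (Set.subset_preimage_image _ _)
    rintro z ⟨z', hz', e⟩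
    exact hsat z' z e hz'
  let V' : Y.Opens := V.ι ''ᵁ ⟨Z, hZ⟩
  have hπh : ∀ z : E, V.ι (π z) = f (h z) := fun z => congr($hπ z)
  have hyV' : y ∈ V' := ⟨π u₀, ⟨u₀, hu₀, rfl⟩, (hπh u₀).trans hx₀⟩
  have hle : h ⁻¹ᵁ (f ⁻¹ᵁ V') ≤ (E : Scheme.{u}).basicOpen ξ := by
    rintro z ⟨v, ⟨z', hz', rfl⟩, hv⟩
    exact hsat z' z (V.ι.isOpenEmbedding.injective (hv.trans (hπh z).symm)) hz'
  have hV'V : V' ≤ V := by
    rintro _ ⟨v, -, rfl⟩
    exact v.2
  -- the inverse of `ξ` on the chart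
  let O := h ⁻¹ᵁ (f ⁻¹ᵁ V')
  have hunit : IsUnit (O.ι.appTop ξ) := by
    refine RingedSpace.isUnit_of_isUnit_germ _ ⊤ _ fun z hz => ?_
    refine ((O : Scheme.{u}).mem_basicOpen (O.ι.appTop ξ) z hz).1 ?_
    rw [← Scheme.preimage_basicOpen_top]
    exact hle z.2
  obtain ⟨r, hr⟩ := hunit.exists_left_inv
  let q := proj h M
  let H : mobj (O : Scheme.{u}) (pb O.ι (pb h M)) ⟶ mobj Y (Coh.structureModule Y) :=
    sc _ r ≫ proj O.ι (pb h M) ≫ g
  haveI : Cart (sc (pb O.ι (pb h M)) r) := cart_sc (by rw [mul_comm]; exact hr)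
  haveI hHc : Cart H := inferInstance
  have hH : ∀ (W : Scheme.{u}) (P : W.Modules) (b b' : mobj W P ⟶ mobj (O : Scheme.{u}) (pb O.ι (pb h M))),
      D.Rel (b ≫ proj O.ι _ ≫ proj h M) (b' ≫ proj O.ι _ ≫ proj h M) → b ≫ H = b' ≫ H := by
    intro W P b b' hR
    have hb : (b.base ≫ O.ι) ≫ π = (b'.base ≫ O.ι) ≫ π := by
      rw [← cancel_mono V.ι, Category.assoc, Category.assoc, Category.assoc, Category.assoc, hπ]
      have := D.base hR
      simp only [CoGrothendieck.categoryStruct_comp_base, Category.assoc] at this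
      exact this
    have hu := huniv W P (b ≫ proj O.ι _) (b' ≫ proj O.ι _) hb (by rw [Category.assoc, Category.assoc]; exact hR)
    let t := pullback.lift (b.base ≫ O.ι) (b'.base ≫ O.ι) hb
    have e1 : t.appTop c * b.base.appTop (O.ι.appTop ξ) = b'.base.appTop (O.ι.appTop ξ) := by
      have := congrArg t.appTop hξ
      rw [map_mul, ← ConcreteCategory.comp_apply, ← ConcreteCategory.comp_apply, ← Scheme.Hom.comp_appTop,
        ← Scheme.Hom.comp_appTop, pullback.lift_fst, pullback.lift_snd, Scheme.Hom.comp_appTop,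
        Scheme.Hom.comp_appTop] at this
      exact this
    have e2 : b.base.appTop r = t.appTop c * b'.base.appTop r := by
      have h3 : b.base.appTop (O.ι.appTop ξ) * b.base.appTop r = 1 := by rw [← map_mul, mul_comm, hr, map_one]
      have h4 : b'.base.appTop r * b'.base.appTop (O.ι.appTop ξ) = 1 := by rw [← map_mul, hr, map_one]
      rw [← e1] at h4
      calc b.base.appTop r = b'.base.appTop r * (t.appTop c * b.base.appTop (O.ι.appTop ξ)) * b.base.appTop r := by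
            rw [h4, _root_.one_mul]
        _ = t.appTop c * b'.base.appTop r * (b.base.appTop (O.ι.appTop ξ) * b.base.appTop r) := by ring
        _ = t.appTop c * b'.base.appTop r := by rw [h3, _root_.mul_one]
    show b ≫ sc _ r ≫ proj O.ι _ ≫ g = b' ≫ sc _ r ≫ proj O.ι _ ≫ g
    rw [← Category.assoc b, ← sc_comm b, ← Category.assoc b', ← sc_comm b', Category.assoc, Category.assoc,
      ← Category.assoc b' (proj O.ι _) g, hu, ← Category.assoc (sc P _) (sc P _), sc_mul, e2, Category.assoc]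
    rfl
  have e0 : proj O.ι (pb h M) ≫ proj h M = qres q (f ⁻¹ᵁ V') ≫ proj (f ⁻¹ᵁ V').ι M := (qres_proj q (f ⁻¹ᵁ V')).symm
  haveI : Cart q := inferInstanceAs (Cart (proj h M))
  haveI : Flat q.base := inferInstanceAs (Flat h)
  haveI : QuasiCompact q.base := inferInstanceAs (QuasiCompact h)
  haveI : Surjective (qres q (f ⁻¹ᵁ V')).base := by
    rw [qres_base]
    exact ⟨fun x => by
      obtain ⟨z, hz⟩ := hrange x.1 (hV'V x.2)
      refine ⟨⟨z, show h z ∈ f ⁻¹ᵁ V' from hz ▸ x.2⟩, Subtype.ext ?_⟩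
      exact (congr($(morphismRestrict_ι h (f ⁻¹ᵁ V')) ⟨z, show h z ∈ f ⁻¹ᵁ V' from hz ▸ x.2⟩)).trans hz⟩
  have hMres : PicF.IsInvertible (pb (f ⁻¹ᵁ V').ι M) := AmpleDevLib.isInvertible_pb _ hM
  have hOres : PicF.IsInvertible (pb O.ι (pb h M)) := AmpleDevLib.isInvertible_pb _ (AmpleDevLib.isInvertible_pb _ hM)
  obtain ⟨F, hFb, hF⟩ := exists_desc hOres hMres (isInvertible_structureModule Y) (qres q (f ⁻¹ᵁ V')) H
    ((f ⁻¹ᵁ V').ι ≫ f) (by
      show 𝟙 _ ≫ O.ι ≫ g.base = _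
      rw [Category.id_comp, hg, qres_base, morphismRestrict_ι_assoc]
      rfl)
    (fun W P a a' e => hH W P a a' (by
      rw [e0, ← Category.assoc a, ← Category.assoc a', e]
      exact D.refl _))
  refine ⟨V', hyV', F, hFb, ?_, fun W P hP a a' hR => ?_⟩
  · choose W hW k hk hkc using exists_local_cart hMres (isInvertible_structureModule Y) ((f ⁻¹ᵁ V').ι ≫ f)
    refine cart_of_local F W (fun x => ⟨x, hW x⟩) fun x => ?_
    haveI := hkc x
    obtain ⟨d, hd⟩ := exists_eq_sc_comp (AmpleDevLib.isInvertible_pb _ hMres) (k x) (proj (W x).ι _ ≫ F) (by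
      rw [hk]; exact congrArg ((W x).ι ≫ ·) hFb)
    let q' := qres (qres q (f ⁻¹ᵁ V')) (W x)
    haveI hc2 : Cart (q' ≫ proj (W x).ι _ ≫ F) := by
      rw [← Category.assoc, qres_proj, Category.assoc, hF]
      infer_instance
    obtain ⟨s, hs, hsc⟩ := AVThetaLib.exists_lift (q' ≫ k x) (q' ≫ proj (W x).ι _ ≫ F) (𝟙 _) (by
      rw [hd]; simp)
    haveI : Cart s := @cart_of_comp _ _ _ _ _ _ s (q' ≫ k x) _ (hsc ▸ hc2)
    haveI : IsIso s.base := by rw [hs]; infer_instance
    haveI := isIso_of_cart s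
    have hinv : IsUnit (q'.base.appTop d) := by
      have hq' : PicF.IsInvertible (pb ((qres q (f ⁻¹ᵁ V')).base ⁻¹ᵁ W x).ι (pb O.ι (pb h M))) :=
        AmpleDevLib.isInvertible_pb _ hOres
      have e : s = sc _ (q'.base.appTop d) := cancel (q' ≫ k x) hs (by
        rw [hsc, hd, ← Category.assoc, ← sc_comm q', Category.assoc])
      have hs' : (inv s).base = 𝟙 _ := by
        have := congrArg CoGrothendieck.Hom.base (IsIso.inv_hom_id s)
        rw [CoGrothendieck.categoryStruct_comp_base, hs] at this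
        exact (Category.comp_id _).symm.trans this
      obtain ⟨r', hr'⟩ := exists_sc hq' (inv s) hs'
      have := IsIso.hom_inv_id s
      rw [hr', e] at this
      exact IsUnit.of_mul_eq_one_right r' (sc_injective hq' (((sc_mul _ _ _).symm.trans this).trans (sc_one _).symm))
    obtain ⟨d', hd'⟩ := (isUnit_of_surjective_appTop q'.base hinv).exists_left_inv
    haveI : Cart (sc (pb (W x).ι (pb (f ⁻¹ᵁ V').ι M)) d) := cart_sc hd'
    rw [hd]
    infer_instance
  · -- refine along the chart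
    let hD := (qres q (f ⁻¹ᵁ V')).base
    let w₁ := pullback.fst a.base hD
    let w := pullback.fst (w₁ ≫ a'.base) hD ≫ w₁
    obtain ⟨b, hb, hbq⟩ := AVThetaLib.exists_lift (qres q (f ⁻¹ᵁ V')) (proj w P ≫ a)
      (pullback.fst (w₁ ≫ a'.base) hD ≫ pullback.snd a.base hD) (by
        show (pullback.fst (w₁ ≫ a'.base) hD ≫ pullback.snd a.base hD) ≫ hD = w ≫ a.base
        rw [Category.assoc, ← pullback.condition, Category.assoc])
    obtain ⟨b', hb', hbq'⟩ := AVThetaLib.exists_lift (qres q (f ⁻¹ᵁ V')) (proj w P ≫ a')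
      (pullback.snd (w₁ ≫ a'.base) hD) (by
        show pullback.snd (w₁ ≫ a'.base) hD ≫ hD = w ≫ a'.base
        rw [← pullback.condition, Category.assoc])
    haveI : Flat (proj w P).base := inferInstanceAs (Flat (pullback.fst (w₁ ≫ a'.base) hD ≫ w₁))
    haveI : Surjective (proj w P).base := inferInstanceAs (Surjective (pullback.fst (w₁ ≫ a'.base) hD ≫ w₁))
    refine hom_ext_ff (AmpleDevLib.isInvertible_pb w hP) hP (isInvertible_structureModule Y) (proj w P) ?_ ?_
    · have := D.base hR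
      simp only [CoGrothendieck.categoryStruct_comp_base] at this
      rw [CoGrothendieck.categoryStruct_comp_base, CoGrothendieck.categoryStruct_comp_base, hFb]
      exact (Category.assoc _ _ _).symm.trans (this.trans (Category.assoc _ _ _))
    · rw [← Category.assoc, ← hbq, ← Category.assoc (proj w P) a', ← hbq', Category.assoc, Category.assoc, hF]
      refine hH _ _ b b' ?_
      rw [e0, ← Category.assoc b, ← Category.assoc b', hbq, hbq', Category.assoc, Category.assoc]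
      exact D.comp _ hR

end AVThetaLib
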