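import Groth.Agent.AVThetaLib.DescLine

/-!
Effective descent of invertible modules along faithfully flat quasi-compact morphisms.
-/

set_option autoImplicit false
set_option maxHeartbeats 1600000
set_option maxRecDepth 8000
set_option backward.isDefEq.respectTransparency false
set_option linter.style.haveILetI false
set_option linter.unusedSectionVars false

noncomputable section

universe u v

open CategoryTheory CategoryTheory.Limits AlgebraicGeometry TopologicalSpace Opposite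
open Pseudofunctor Bicategory CubeConsLib
open KFlatLib (pb puSec puSecLE)
open AmpleLib (res GenOn)

namespace AVThetaLib

theorem opens_appLE_bijective {Y : Scheme.{u}} (V : Y.Opens) :
    Function.Bijective (V.ι.appLE V ⊤ (by simp)) := by
  have h : V.ι.appLE V ⊤ (by simp) = V.topIso.inv := by
    simp [Scheme.Hom.appLE, Scheme.Opens.topIso_inv]
    exact (Y.presheaf.map_comp _ _).symm
  rw [h]
  exact ConcreteCategory.bijective_of_isIso _

theorem app_injective_of_flat_surjective {X Y : Scheme.{u}} (f : X ⟶ Y) [Flat f] [Surjective f] (W : Y.Opens) :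
    Function.Injective (f.app W) := fun r r' h => by
  haveI : Flat (f ∣_ W) := IsZariskiLocalAtTarget.restrict ‹_› W
  haveI : Surjective (f ∣_ W) := IsZariskiLocalAtTarget.restrict ‹_› W
  refine (opens_appLE_bijective W).1 (AlgSpLib.appTop_injective_of_flat_surjective (f ∣_ W) ?_)
  have e : ∀ s : Γ(Y, W), (f ∣_ W).appTop (W.ι.appLE W ⊤ (by simp) s) =
      (f ⁻¹ᵁ W).ι.appLE (f ⁻¹ᵁ W) ⊤ (by simp) (f.app W s) := fun s => by
    rw [← ConcreteCategory.comp_apply, ← ConcreteCategory.comp_apply, Scheme.Hom.appTop, Scheme.Hom.app_eq_appLE,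
      Scheme.Hom.app_eq_appLE, Scheme.Hom.appLE_comp_appLE, Scheme.Hom.appLE_comp_appLE]
    congr! 3
    exact morphismRestrict_ι f W
  rw [e, e, h]

variable {X : Scheme.{u}}

/-- The sections belonging to a family of generators on pieces. -/
def spanAll {F : X.Modules} {J : Type u} (V : J → X.Opens) (e : ∀ i, Γ(F, V i)) : QCohLib.LocSub F where
  mem W a := ∀ i, (QCohLib.LocSub.span F (V i) fun _ : PUnit.{u + 1} => e i).mem W a
  zero W i := (QCohLib.LocSub.span F (V i) fun _ : PUnit.{u + 1} => e i).zero W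
  add {W a b} ha hb i := (QCohLib.LocSub.span F (V i) fun _ : PUnit.{u + 1} => e i).add (ha i) (hb i)
  smul {W} r {a} ha i := (QCohLib.LocSub.span F (V i) fun _ : PUnit.{u + 1} => e i).smul r (ha i)
  res {W W'} h {a} ha i := (QCohLib.LocSub.span F (V i) fun _ : PUnit.{u + 1} => e i).res h (ha i)
  local' {W} a h i := (QCohLib.LocSub.span F (V i) fun _ : PUnit.{u + 1} => e i).local' a fun p hp => by
    obtain ⟨W, hW, hpW, hm⟩ := h p hp
    exact ⟨W, hW, hpW, hm i⟩

theorem puSec_adjunct {Y : Scheme.{u}} (f : X ⟶ Y) {N : Y.Modules} {M : X.Modules}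
    (ψ : N ⟶ (Scheme.Modules.pushforward f).obj M) {U : Y.Opens} (m : Γ(N, U)) :
    (((Scheme.Modules.pullbackPushforwardAdjunction f).homEquiv _ _).symm ψ).app (f ⁻¹ᵁ U) (puSec f m) =
      ψ.app U m := by
  have e := ((Scheme.Modules.pullbackPushforwardAdjunction f).homEquiv_unit _ _
    (((Scheme.Modules.pullbackPushforwardAdjunction f).homEquiv _ _).symm ψ)).symm.trans
    (Equiv.apply_symm_apply _ ψ)
  exact congr($(e).app U m)

variable {Y : Scheme.{u}} {f : X ⟶ Y} {M : X.Modules}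

/-- Effective descent for invertible modules. -/
theorem LBDatum.exists_descent [Flat f] [Surjective f] [QuasiCompact f] [QuasiSeparatedSpace X]
    (D : LBDatum f M) (hM : PicF.IsInvertible M) :
    ∃ N : Y.Modules, PicF.IsInvertible N ∧ Nonempty (pb f N ≅ M) := by
  choose V hV F hFb hFc hFi using D.exists_local_inv hM
  let O' : X.Modules := pb f (Coh.structureModule Y)
  let one : Γ(Coh.structureModule Y, ⊤) := show Γ(Coh.structureModule Y, ⊤) from (1 : Γ(Y, ⊤))
  have hone : GenOn (Coh.structureModule Y) one := fun W hW => by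
    have e : ∀ r : Γ(Y, W), r • res (Coh.structureModule Y) hW one = r := fun r =>
      (congrArg (r * ·) (map_one (Y.presheaf.map (homOfLE hW).op).hom)).trans (_root_.mul_one r)
    simp only [e]
    exact Function.bijective_id
  let n : ∀ U : X.Opens, Γ(O', U) := fun U => puSecLE f (Coh.structureModule Y) (fun _ _ => trivial : U ≤ f ⁻¹ᵁ ⊤) one
  have hn : ∀ U, GenOn O' (n U) := fun U => CubeLib.genOn_puSecLE f hone _
  have hn_res : ∀ {U U' : X.Opens} (h : U' ≤ U), res O' h (n U) = n U' := fun h =>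
    CubeLib.res_puSecLE f _ _ h one
  -- the restrictions of the trivialisations
  choose k hk hkp using fun y => AVThetaLib.exists_lift (proj f (Coh.structureModule Y)) (F y) (f ⁻¹ᵁ V y).ι (hFb y).symm
  have hkc : ∀ y, Cart (k y) := fun y =>
    @cart_of_comp _ _ _ _ _ _ (k y) (proj f (Coh.structureModule Y)) _ (by rw [hkp]; exact hFc y)
  have hex : ∀ y, ∃ φ : pb (f ⁻¹ᵁ V y).ι M ⟶ pb (f ⁻¹ᵁ V y).ι O', IsIso φ ∧
      k y = (⟨(f ⁻¹ᵁ V y).ι, φ⟩ : mobj _ (pb (f ⁻¹ᵁ V y).ι M) ⟶ mobj X O') := fun y => by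
    obtain ⟨⟨b, φ⟩, hq⟩ : ∃ q, q = k y := ⟨_, rfl⟩
    obtain rfl : b = (f ⁻¹ᵁ V y).ι := (congrArg CoGrothendieck.Hom.base hq).trans (hk y)
    have hc : Cart (⟨(f ⁻¹ᵁ V y).ι, φ⟩ : mobj _ (pb (f ⁻¹ᵁ V y).ι M) ⟶ mobj X O') := by rw [hq]; exact hkc y
    exact ⟨φ, hc.iso, hq.symm⟩
  choose φ hφi hφ using hex
  have hbij : ∀ y (W : ((f ⁻¹ᵁ V y : X.Opens) : Scheme.{u}).Opens), Function.Bijective ((φ y).app W) := fun y W => by
    haveI := hφi y
    exact ConcreteCategory.bijective_of_isIso ((φ y).app W)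
  have hexe : ∀ y, ∃ e : Γ(M, f ⁻¹ᵁ V y), (φ y).app _ (puSecLE (f ⁻¹ᵁ V y).ι M (le_refl _) e) =
      puSecLE (f ⁻¹ᵁ V y).ι O' (le_refl _) (n (f ⁻¹ᵁ V y)) := fun y => by
    obtain ⟨a, ha⟩ := (hbij y _).2 (puSecLE (f ⁻¹ᵁ V y).ι O' (le_refl _) (n (f ⁻¹ᵁ V y)))
    obtain ⟨e, he⟩ := (puSecLE_ι_bijective (f ⁻¹ᵁ V y) M le_rfl).2 a
    exact ⟨e, (congrArg ((φ y).app _) he).trans ha⟩
  choose e he using hexe
  have he_res : ∀ y (U : X.Opens) (h : U ≤ f ⁻¹ᵁ V y), (φ y).app _ (puSecLE (f ⁻¹ᵁ V y).ι M (le_refl _) (res M h (e y))) =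
      puSecLE (f ⁻¹ᵁ V y).ι O' (le_refl _) (n U) := fun y U h => by
    rw [← hn_res h, CubeLib.puSecLE_res, CubeLib.puSecLE_res]
    have h' : (f ⁻¹ᵁ V y).ι ⁻¹ᵁ U ≤ (f ⁻¹ᵁ V y).ι ⁻¹ᵁ (f ⁻¹ᵁ V y) := (f ⁻¹ᵁ V y).ι.preimage_mono h
    rw [← CubeLib.res_puSecLE (f ⁻¹ᵁ V y).ι M (le_refl _) h' (e y),
      ← CubeLib.res_puSecLE (f ⁻¹ᵁ V y).ι O' (le_refl _) h', ← he y]
    exact QCohLib.app_map (φ y) (homOfLE h') _
  have hegen : ∀ y, GenOn M (e y) := fun y W hW => by
    let ι := (f ⁻¹ᵁ V y).ι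
    have hle : ι ⁻¹ᵁ W ≤ ι ⁻¹ᵁ W := le_rfl
    refine (Function.Bijective.of_comp_iff' ((hbij y _).comp (puSecLE_ι_bijective (f ⁻¹ᵁ V y) M hW)) _).1 ?_
    refine Eq.mpr (congrArg Function.Bijective ?_) ((puSecLE_ι_bijective (f ⁻¹ᵁ V y) O' hW).comp (hn W W le_rfl))
    funext r
    show (φ y).app _ (puSecLE ι M hle (r • res M hW (e y))) = puSecLE ι O' hle (r • res O' le_rfl (n W))
    rw [KFlatLib.puSecLE_smul, KFlatLib.puSecLE_smul, QCohLib.app_smul, he_res, AmpleLib.res_refl]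
  -- the transition functions
  have overlap : ∀ i j, ∃ d : Γ(Y, V i ⊓ V j),
      res M (f.preimage_mono inf_le_left : f ⁻¹ᵁ (V i ⊓ V j) ≤ f ⁻¹ᵁ V i) (e i) =
        f.app (V i ⊓ V j) d • res M (f.preimage_mono inf_le_right : f ⁻¹ᵁ (V i ⊓ V j) ≤ f ⁻¹ᵁ V j) (e j) := by
    intro i j
    let Vij := V i ⊓ V j
    let U := f ⁻¹ᵁ Vij
    let bcl : ∀ l, U ≤ f ⁻¹ᵁ V l → (mobj (U : Scheme.{u}) (pb U.ι M) ⟶ mobj _ (pb (f ⁻¹ᵁ V l).ι M)) := fun l h =>
      bcProj (X.homOfLE h) (f ⁻¹ᵁ V l).ι U.ι (Scheme.homOfLE_ι _ h).symm M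
    have hi : U ≤ f ⁻¹ᵁ V i := f.preimage_mono inf_le_left
    have hj : U ≤ f ⁻¹ᵁ V j := f.preimage_mono inf_le_right
    have hbc : ∀ l h, Cart (bcl l h) := fun l h =>
      @cart_of_comp _ _ _ _ _ _ (bcl l h) (proj (f ⁻¹ᵁ V l).ι M) _ (by rw [bcProj_proj]; infer_instance)
    have hbase : ∀ l h, (bcl l h ≫ F l).base = U.ι ≫ f := fun l h => by
      show X.homOfLE h ≫ (F l).base = _
      rw [hFb, Scheme.homOfLE_ι_assoc]
    haveI := hbc i hi
    haveI := hFc i
    haveI : Cart (bcl i hi ≫ F i) := cart_comp _ _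
    have hU : PicF.IsInvertible (pb U.ι M) := AmpleDevLib.isInvertible_pb _ hM
    obtain ⟨r, hr⟩ := exists_eq_sc_comp hU (bcl i hi ≫ F i) (bcl j hj ≫ F j) ((hbase j hj).trans (hbase i hi).symm)
    -- the transition function is invariant
    let p := f ∣_ Vij
    haveI : Flat p := IsZariskiLocalAtTarget.restrict ‹Flat f› Vij
    haveI : Surjective p := IsZariskiLocalAtTarget.restrict ‹Surjective f› Vij
    haveI : QuasiCompact p := IsZariskiLocalAtTarget.restrict ‹QuasiCompact f› Vij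
    let a := proj (pullback.fst p p) (pb U.ι M)
    obtain ⟨A', hA', hAc, hR⟩ := D.exists_lift (a ≫ proj U.ι M) (pullback.snd p p ≫ U.ι) (by
      show (pullback.fst p p ≫ U.ι) ≫ f = (pullback.snd p p ≫ U.ι) ≫ f
      rw [Category.assoc, Category.assoc, ← morphismRestrict_ι f Vij, ← Category.assoc, pullback.condition,
        Category.assoc])
    obtain ⟨a', ha', hap⟩ := AVThetaLib.exists_lift (proj U.ι M) A' (pullback.snd p p) hA'.symm
    have hP : PicF.IsInvertible (pb (pullback.fst p p) (pb U.ι M)) := AmpleDevLib.isInvertible_pb _ hU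
    have hinv : ∀ l h, a ≫ bcl l h ≫ F l = a' ≫ bcl l h ≫ F l := fun l h => by
      rw [← Category.assoc, ← Category.assoc]
      refine hFi l _ _ hP _ _ ?_
      rw [Category.assoc, Category.assoc, bcProj_proj, hap]
      exact hR
    obtain ⟨d₀, hd₀⟩ := exists_appTop_desc p r (by
      have h := hinv j hj
      rw [hr, ← Category.assoc a, ← sc_comm a, ← Category.assoc a', ← sc_comm a', ha', Category.assoc,
        Category.assoc, ← hinv i hi] at h
      haveI : Cart (a ≫ bcl i hi ≫ F i) := cart_comp _ _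
      exact sc_injective hP (cancel (a ≫ bcl i hi ≫ F i) rfl h))
    obtain ⟨d, rfl⟩ := (opens_appLE_bijective Vij).2 d₀
    refine ⟨d, ?_⟩
    have hrd : U.ι.appLE U ⊤ (by simp) (f.app Vij d) = r := by
      rw [← hd₀, ← ConcreteCategory.comp_apply, ← ConcreteCategory.comp_apply, Scheme.Hom.appTop,
        Scheme.Hom.app_eq_appLE, Scheme.Hom.app_eq_appLE, Scheme.Hom.appLE_comp_appLE, Scheme.Hom.appLE_comp_appLE]
      congr! 3
      exact (morphismRestrict_ι f Vij).symm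
    -- pass to the charts
    have hk2 : bcl j hj ≫ k j = sc _ r ≫ bcl i hi ≫ k i := by
      refine cancel (proj f (Coh.structureModule Y)) ?_ ?_
      · show X.homOfLE hj ≫ (k j).base = 𝟙 _ ≫ X.homOfLE hi ≫ (k i).base
        rw [hk, hk, Category.id_comp, Scheme.homOfLE_ι, Scheme.homOfLE_ι]
      · rw [Category.assoc, hkp, Category.assoc, Category.assoc, hkp, hr]
    have hψ : ∀ l h, ∃ ψ : pb U.ι M ⟶ pb U.ι O',
        bcl l h ≫ k l = (⟨U.ι, ψ⟩ : mobj (U : Scheme.{u}) (pb U.ι M) ⟶ mobj X O') := fun l h => by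
      obtain ⟨⟨b, ψ⟩, hb⟩ : ∃ q, q = bcl l h ≫ k l := ⟨_, rfl⟩
      obtain rfl : b = U.ι := by
        have := congrArg CoGrothendieck.Hom.base hb
        rw [CoGrothendieck.categoryStruct_comp_base, hk] at this
        exact this.trans (Scheme.homOfLE_ι _ h)
      exact ⟨ψ, hb.symm⟩
    obtain ⟨ψi, hψi⟩ := hψ i hi
    obtain ⟨ψj, hψj⟩ := hψ j hj
    have hv : ∀ l (h : U ≤ f ⁻¹ᵁ V l) (ψ : pb U.ι M ⟶ pb U.ι O'),
        bcl l h ≫ k l = (⟨U.ι, ψ⟩ : mobj (U : Scheme.{u}) (pb U.ι M) ⟶ mobj X O') →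
          ψ.app _ (puSecLE U.ι M (le_refl (U.ι ⁻¹ᵁ U)) (res M h (e l))) = puSecLE U.ι O' (le_refl _) (n U) := by
      intro l h ψ hl
      rw [hφ l] at hl
      exact fiber_bcProj_comp _ _ _ _ M O' (φ l) ψ hl _ _ (he_res l U h)
    have hψc : Cart (⟨U.ι, ψi⟩ : mobj (U : Scheme.{u}) (pb U.ι M) ⟶ mobj X O') := by
      haveI := hkc i
      rw [← hψi]
      infer_instance
    haveI : IsIso ψi := hψc.iso
    have e1 : ψj = StabLib.smulHom (pb U.ι M) r ≫ ψi := by
      rw [hψj, hψi, sc, vert_comp_eq] at hk2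
      have h := CoGrothendieck.Hom.congr hk2
      simp only [eqToHom_refl, Category.comp_id] at h
      exact h
    have e2 := (hv i hi ψi hψi).trans (hv j hj ψj hψj).symm
    rw [e1] at e2
    have e3 := (ConcreteCategory.bijective_of_isIso (ψi.app (U.ι ⁻¹ᵁ U))).1
      (e2.trans (show (StabLib.smulHom (pb U.ι M) r ≫ ψi).app _ _ =
        ψi.app _ ((StabLib.smulHom (pb U.ι M) r).app _ (puSecLE U.ι M (le_refl _) (res M hj (e j)))) from rfl))
    refine (puSecLE_ι_bijective U M le_rfl).1 (e3.trans ?_)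
    rw [StabLib.smulHom_app, KFlatLib.puSecLE_smul, ← hrd]
    congr 1
    rw [← ConcreteCategory.comp_apply, Scheme.Hom.appLE_map]
  -- the descended module
  let F₀ : Y.Modules := (Scheme.Modules.pushforward f).obj M
  let e₀ : ∀ y, Γ(F₀, V y) := fun y => show Γ(M, f ⁻¹ᵁ V y) from e y
  let S := spanAll (F := F₀) V e₀
  have hmem : ∀ j, S.mem (V j) (e₀ j) := fun j i p hp hpi => by
    obtain ⟨d, hd⟩ := overlap j i
    refine ⟨V j ⊓ V i, inf_le_left, inf_le_right, ⟨hp, hpi⟩, fun _ => d, ?_⟩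
    rw [Finset.univ_unique, Finset.sum_singleton]
    exact hd
  let ê : ∀ j, Γ(S.toModules, V j) := fun j => S.lift (e₀ j) (hmem j)
  have hsm : ∀ (j) (W : Y.Opens) (hW : W ≤ V j) (r : Γ(Y, W)), S.ι.app W (r • res S.toModules hW (ê j)) =
      (show Γ(F₀, W) from (f.app W r • res M (f.preimage_mono hW) (e j) : Γ(M, f ⁻¹ᵁ W))) := fun j W hW r => by
    rw [QCohLib.app_smul, show S.ι.app W (res S.toModules hW (ê j)) = res F₀ hW (e₀ j) from
      QCohLib.app_map S.ι (homOfLE hW) (ê j)]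
    rfl
  have hinj : ∀ (j) (W : Y.Opens) (hW : W ≤ V j),
      Function.Injective fun r : Γ(Y, W) => r • res S.toModules hW (ê j) := fun j W hW r r' h => by
    have h2 := congrArg (S.ι.app W) h
    simp only [hsm] at h2
    exact app_injective_of_flat_surjective f W ((hegen j _ (f.preimage_mono hW)).1 h2)
  have hgen : ∀ j, GenOn S.toModules (ê j) := fun j W hW => by
    refine ⟨hinj j W hW, fun t => ?_⟩
    choose W' hW' hWV hpW c hc using fun p : W => S.ι_app_mem t j p.1 p.2 (hW p.2)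
    have hloc : ∀ p : W, c p PUnit.unit • res S.toModules (hWV p) (ê j) = res S.toModules (hW' p) t := fun p => by
      refine S.ι_app_injective _ ?_
      rw [hsm, show S.ι.app (W' p) (res S.toModules (hW' p) t) = res F₀ (hW' p) (S.ι.app W t) from
        QCohLib.app_map S.ι (homOfLE (hW' p)) t]
      have := hc p
      rw [Finset.univ_unique, Finset.sum_singleton] at this
      exact this.symm
    obtain ⟨g, hg⟩ := ModGlueLib.exists_glue (M := Coh.structureModule Y) W' hW' (fun p hp => ⟨⟨p, hp⟩, hpW _⟩)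
      (fun p => c p PUnit.unit) fun p q => by
        refine hinj j (W' p ⊓ W' q) (inf_le_left.trans (hWV p)) ?_
        have e1 := congrArg (res S.toModules (inf_le_left : W' p ⊓ W' q ≤ W' p)) (hloc p)
        have e2 := congrArg (res S.toModules (inf_le_right : W' p ⊓ W' q ≤ W' q)) (hloc q)
        simp only [AmpleLib.res_smul, AmpleLib.res_res] at e1 e2
        exact e1.trans e2.symm
    refine ⟨(show Γ(Y, W) from g), ModGlueLib.eq_of_locally _ _ fun p hp => ⟨W' ⟨p, hp⟩, hW' _, hpW _, ?_⟩⟩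
    refine Eq.trans ?_ (hloc ⟨p, hp⟩)
    show res S.toModules _ ((show Γ(Y, W) from g) • res S.toModules hW (ê j)) = _
    rw [AmpleLib.res_smul, AmpleLib.res_res]
    exact congrArg (· • res S.toModules _ (ê j)) (hg ⟨p, hp⟩)
  let Φ : pb f S.toModules ⟶ M := ((Scheme.Modules.pullbackPushforwardAdjunction f).homEquiv _ _).symm S.ι
  have hΦ : IsIso Φ := by
    refine RpushLib.isIso_of_bijective_basis _ (B := {U : X.Opens | ∃ j, U ≤ f ⁻¹ᵁ V j})
      (Opens.isBasis_iff_nbhd.2 fun {U x} hx => ⟨U ⊓ f ⁻¹ᵁ V (f x), ⟨f x, inf_le_right⟩, ⟨hx, hV _⟩, inf_le_left⟩)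
      fun U ⟨j, hU⟩ => ?_
    refine (Function.Bijective.of_comp_iff _ (CubeLib.genOn_puSecLE f (hgen j) hU U le_rfl)).1 ?_
    refine Eq.mpr (congrArg Function.Bijective ?_) (hegen j U hU)
    funext r
    show Φ.app U (r • res (pb f S.toModules) le_rfl (puSecLE f S.toModules hU (ê j))) = r • res M hU (e j)
    rw [QCohLib.app_smul, AmpleLib.res_refl, KFlatLib.puSecLE_apply]
    refine congrArg (r • ·) ?_
    refine (QCohLib.app_map Φ (homOfLE hU) _).trans ?_
    rw [puSec_adjunct f S.ι (ê j)]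
    rfl
  exact ⟨S.toModules, TwistLib.isInvertible_of_genOn V (fun y => ⟨y, hV y⟩) ê hgen, ⟨asIso Φ⟩⟩

end AVThetaLib
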