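import Groth.Agent.AVThetaLib.GlueHom
import Groth.Agent.AVThetaLib.Desc
import Groth.Agent.AlgSpLib.PureMono
import Mathlib.AlgebraicGeometry.Sites.Fpqc
import Mathlib.AlgebraicGeometry.AffineSpace

/-!
Morphisms of pairs of invertible modules descend along faithfully flat quasi-compact morphisms.
-/

set_option autoImplicit false
set_option maxHeartbeats 1000000
set_option maxRecDepth 8000
set_option backward.isDefEq.respectTransparency false
set_option linter.style.haveILetI false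
set_option linter.unusedSectionVars false

noncomputable section

universe u

open CategoryTheory CategoryTheory.Limits AlgebraicGeometry TopologicalSpace Opposite
open Pseudofunctor Bicategory CubeConsLib
open KFlatLib (pb)

namespace AVThetaLib

/-- Functions descend along faithfully flat quasi-compact morphisms. -/
theorem exists_appTop_desc {X Y : Scheme.{u}} (q : X ⟶ Y) [Flat q] [Surjective q] [QuasiCompact q] (r : Γ(X, ⊤))
    (h : (pullback.fst q q).appTop r = (pullback.snd q q).appTop r) : ∃ d : Γ(Y, ⊤), q.appTop d = r := by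
  let e := (AffineSpace.toSpecMvPolyIntEquiv PUnit.{u + 1} (X := X)).symm fun _ => r
  have he : ∀ i, AffineSpace.toSpecMvPolyIntEquiv PUnit.{u + 1} e i = r := fun i =>
    congrFun ((AffineSpace.toSpecMvPolyIntEquiv PUnit.{u + 1} (X := X)).apply_symm_apply fun _ => r) i
  have h' : pullback.fst q q ≫ e = pullback.snd q q ≫ e := by
    refine (AffineSpace.toSpecMvPolyIntEquiv _).injective (funext fun i => ?_)
    rw [AffineSpace.toSpecMvPolyIntEquiv_comp, AffineSpace.toSpecMvPolyIntEquiv_comp, he, h]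
  let d := EffectiveEpi.desc q e fun {Z} g₁ g₂ hg => by
    rw [← pullback.lift_fst g₁ g₂ hg, Category.assoc, h', pullback.lift_snd_assoc]
  refine ⟨AffineSpace.toSpecMvPolyIntEquiv _ d PUnit.unit, ?_⟩
  rw [← AffineSpace.toSpecMvPolyIntEquiv_comp, EffectiveEpi.fac, he]

variable {X Y Z : Scheme.{u}} {M : X.Modules} {N : Y.Modules} {O : Z.Modules}

theorem exists_open_clA_zero (hN : PicF.IsInvertible N) (y : Y) :
    ∃ V : Y.Opens, y ∈ V ∧ pullA V.ι (clA hN) = 0 := by
  obtain ⟨V, hyV, ⟨e⟩⟩ := hN y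
  refine ⟨V, hyV, ?_⟩
  show _ = (0 : PicA (V : Scheme.{u}))
  rw [pullA_clA, ← clA_one, clA_eq_iff]
  exact ⟨((Scheme.Modules.restrictFunctorIsoPullback V.ι).app _).symm ≪≫ e⟩

/-- Morphisms which are isomorphisms on fibres exist locally over any morphism of schemes. -/
theorem exists_local_cart (hN : PicF.IsInvertible N) (hO : PicF.IsInvertible O) (b : Y ⟶ Z) (y : Y) :
    ∃ V : Y.Opens, y ∈ V ∧
      ∃ g : mobj (V : Scheme.{u}) (pb V.ι N) ⟶ mobj Z O, g.base = V.ι ≫ b ∧ Cart g := by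
  obtain ⟨V₁, h₁, e₁⟩ := exists_open_clA_zero hN y
  obtain ⟨V₂, h₂, e₂⟩ := exists_open_clA_zero (AmpleDevLib.isInvertible_pb b hO) y
  refine ⟨V₁ ⊓ V₂, ⟨h₁, h₂⟩, ?_⟩
  have h : pullA (V₁ ⊓ V₂).ι (clA hN) = pullA (V₁ ⊓ V₂).ι (clA (AmpleDevLib.isInvertible_pb b hO)) := by
    have a1 := congrArg (pullA (Y.homOfLE (inf_le_left : V₁ ⊓ V₂ ≤ V₁))) e₁
    have a2 := congrArg (pullA (Y.homOfLE (inf_le_right : V₁ ⊓ V₂ ≤ V₂))) e₂
    rw [pullA_comp, map_zero, Scheme.homOfLE_ι] at a1 a2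
    rw [a1, a2]
  rw [pullA_clA, pullA_clA, clA_eq_iff] at h
  obtain ⟨e⟩ := h
  exact ⟨vert (F := ThetaGrp.modPF) (B := (V₁ ⊓ V₂ : Y.Opens).toScheme) e.hom ≫ proj (V₁ ⊓ V₂).ι _ ≫ proj b O,
    Category.id_comp _, @cart_comp _ _ _ _ _ _ _ _ (cart_vert e.hom) (cart_comp _ _)⟩

/-- Every morphism over the base of a cartesian one is a multiple of it. -/
theorem exists_eq_sc_comp (hN : PicF.IsInvertible N) (g : mobj Y N ⟶ mobj Z O) [Cart g] (G : mobj Y N ⟶ mobj Z O)
    (h : G.base = g.base) : ∃ d : Γ(Y, ⊤), G = sc N d ≫ g := by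
  obtain ⟨l, hl, hlg⟩ := exists_lift g G (𝟙 Y) ((Category.id_comp _).trans h.symm)
  obtain ⟨d, rfl⟩ := exists_sc hN l hl
  exact ⟨d, hlg.symm⟩

/-- The restriction of a cartesian morphism over an open. -/
def qres (q : mobj X M ⟶ mobj Y N) (V : Y.Opens) :
    mobj ((q.base ⁻¹ᵁ V) : Scheme.{u}) (pb (q.base ⁻¹ᵁ V).ι M) ⟶ mobj (V : Scheme.{u}) (pb V.ι N) :=
  (exists_lift (proj V.ι N) (proj (q.base ⁻¹ᵁ V).ι M ≫ q) (q.base ∣_ V) (morphismRestrict_ι _ _)).choose

theorem qres_base (q : mobj X M ⟶ mobj Y N) (V : Y.Opens) : (qres q V).base = q.base ∣_ V := by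
  unfold qres
  generalize_proofs h
  exact h.choose_spec.1

theorem qres_proj (q : mobj X M ⟶ mobj Y N) (V : Y.Opens) :
    qres q V ≫ proj V.ι N = proj (q.base ⁻¹ᵁ V).ι M ≫ q := by
  unfold qres
  generalize_proofs h
  exact h.choose_spec.2

instance cart_qres (q : mobj X M ⟶ mobj Y N) [Cart q] (V : Y.Opens) : Cart (qres q V) :=
  @cart_of_comp _ _ _ _ _ _ (qres q V) (proj V.ι N) _ (by rw [qres_proj]; infer_instance)

instance flat_qres (q : mobj X M ⟶ mobj Y N) [Flat q.base] (V : Y.Opens) : Flat (qres q V).base := by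
  rw [qres_base]; exact IsZariskiLocalAtTarget.restrict ‹_› V

instance surjective_qres (q : mobj X M ⟶ mobj Y N) [Surjective q.base] (V : Y.Opens) :
    Surjective (qres q V).base := by
  rw [qres_base]; exact IsZariskiLocalAtTarget.restrict ‹_› V

instance quasiCompact_qres (q : mobj X M ⟶ mobj Y N) [QuasiCompact q.base] (V : Y.Opens) :
    QuasiCompact (qres q V).base := by
  rw [qres_base]; exact IsZariskiLocalAtTarget.restrict ‹_› V

theorem hom_ext_ff_of_cart (hM : PicF.IsInvertible M) (hN : PicF.IsInvertible N) (q : mobj X M ⟶ mobj Y N) [Cart q]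
    [Flat q.base] [Surjective q.base] (g : mobj Y N ⟶ mobj Z O) [Cart g] {G₁ G₂ : mobj Y N ⟶ mobj Z O}
    (h₁ : G₁.base = g.base) (h₂ : G₂.base = g.base) (h : q ≫ G₁ = q ≫ G₂) : G₁ = G₂ := by
  obtain ⟨d₁, rfl⟩ := exists_eq_sc_comp hN g G₁ h₁
  obtain ⟨d₂, rfl⟩ := exists_eq_sc_comp hN g G₂ h₂
  rw [← Category.assoc, ← Category.assoc, ← sc_comm q, ← sc_comm q, Category.assoc, Category.assoc] at h
  haveI : Cart (q ≫ g) := cart_comp q g
  have e : q.base.appTop d₁ = q.base.appTop d₂ := sc_injective hM (cancel (q ≫ g) rfl h)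
  rw [AlgSpLib.appTop_injective_of_flat_surjective q.base e]

/-- Morphisms agreeing after composition with a faithfully flat cartesian morphism are equal. -/
theorem hom_ext_ff (hM : PicF.IsInvertible M) (hN : PicF.IsInvertible N) (hO : PicF.IsInvertible O)
    (q : mobj X M ⟶ mobj Y N) [Cart q] [Flat q.base] [Surjective q.base]
    {G₁ G₂ : mobj Y N ⟶ mobj Z O} (hb : G₁.base = G₂.base) (h : q ≫ G₁ = q ≫ G₂) : G₁ = G₂ := by
  choose V hV g hg hgc using exists_local_cart hN hO G₁.base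
  refine mhom_ext V (fun y => ⟨y, hV y⟩) hb fun y => ?_
  haveI := hgc y
  refine hom_ext_ff_of_cart (AmpleDevLib.isInvertible_pb _ hM) (AmpleDevLib.isInvertible_pb _ hN) (qres q (V y))
    (g y) (hg y).symm ((congrArg ((V y).ι ≫ ·) hb.symm).trans (hg y).symm) ?_
  rw [← Category.assoc, ← Category.assoc, qres_proj, Category.assoc, Category.assoc, h]

/-- A morphism is invariant for the equivalence relation defined by `q`. -/
def Invariant {R : CoGrothendieck (ThetaGrp.modPF.{u})} (q : mobj X M ⟶ mobj Y N) (F : mobj X M ⟶ R) : Prop :=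
  ∀ (W : Scheme.{u}) (P : W.Modules) (a a' : mobj W P ⟶ mobj X M), a ≫ q = a' ≫ q → a ≫ F = a' ≫ F

theorem exists_desc_of_cart (hM : PicF.IsInvertible M) (q : mobj X M ⟶ mobj Y N) [Cart q]
    [Flat q.base] [Surjective q.base] [QuasiCompact q.base] (g : mobj Y N ⟶ mobj Z O) [Cart g]
    (F : mobj X M ⟶ mobj Z O) (hb : F.base = q.base ≫ g.base) (hF : Invariant q F) :
    ∃ G : mobj Y N ⟶ mobj Z O, G.base = g.base ∧ q ≫ G = F := by
  haveI : Cart (q ≫ g) := cart_comp q g
  obtain ⟨l, hl, hlg⟩ := exists_lift (q ≫ g) F (𝟙 X) ((Category.id_comp _).trans hb.symm)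
  obtain ⟨r, rfl⟩ := exists_sc hM l hl
  let p₁ := pullback.fst q.base q.base
  let P := pb p₁ M
  let a : mobj _ P ⟶ mobj X M := proj p₁ M
  obtain ⟨a', ha', haq⟩ := exists_lift q (a ≫ q) (pullback.snd q.base q.base) pullback.condition.symm
  have h := hF _ P a a' haq.symm
  rw [← hlg, ← Category.assoc a, ← Category.assoc a', ← sc_comm a, ← sc_comm a', ha', Category.assoc, Category.assoc,
    ← Category.assoc a', haq, Category.assoc] at h
  haveI : Cart (a ≫ q ≫ g) := cart_comp a (q ≫ g)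
  obtain ⟨d, hd⟩ := exists_appTop_desc q.base r
    (sc_injective (AmpleDevLib.isInvertible_pb p₁ hM) (cancel (a ≫ q ≫ g) rfl h))
  refine ⟨sc N d ≫ g, Category.id_comp _, ?_⟩
  rw [← hlg, ← hd, ← Category.assoc, ← sc_comm q, Category.assoc]

/-- Invariant morphisms descend. -/
theorem exists_desc (hM : PicF.IsInvertible M) (hN : PicF.IsInvertible N) (hO : PicF.IsInvertible O)
    (q : mobj X M ⟶ mobj Y N) [Cart q] [Flat q.base] [Surjective q.base] [QuasiCompact q.base]
    (F : mobj X M ⟶ mobj Z O) (b : Y ⟶ Z) (hb : F.base = q.base ≫ b) (hF : Invariant q F) :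
    ∃ G : mobj Y N ⟶ mobj Z O, G.base = b ∧ q ≫ G = F := by
  choose V hV g hg hgc using exists_local_cart hN hO b
  have hex : ∀ y, ∃ G : mobj (V y : Scheme.{u}) (pb (V y).ι N) ⟶ mobj Z O,
      G.base = (V y).ι ≫ b ∧ qres q (V y) ≫ G = proj (q.base ⁻¹ᵁ V y).ι M ≫ F := fun y => by
    haveI := hgc y
    rw [← hg y]
    refine exists_desc_of_cart (AmpleDevLib.isInvertible_pb _ hM) (qres q (V y)) (g y) _ ?_ ?_
    · show (q.base ⁻¹ᵁ V y).ι ≫ F.base = _
      rw [hb, hg y, qres_base, morphismRestrict_ι_assoc]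
    · intro W P a a' h
      rw [← Category.assoc, ← Category.assoc]
      refine hF W P _ _ ?_
      rw [Category.assoc, Category.assoc, ← qres_proj, ← Category.assoc, h, Category.assoc]
  choose G hGb hG using hex
  obtain ⟨G', hG'b, hG'⟩ := exists_glue_mhom V (fun y => ⟨y, hV y⟩) b G hGb fun i j => by
    let U := V i ⊓ V j
    have key : ∀ (l : Y) (h : U ≤ V l),
        qres q U ≫ bcProj (Y.homOfLE h) (V l).ι U.ι (Scheme.homOfLE_ι _ h).symm N ≫ G l =
          proj (q.base ⁻¹ᵁ U).ι M ≫ F := by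
      intro l h
      have h' : q.base ⁻¹ᵁ U ≤ q.base ⁻¹ᵁ V l := q.base.preimage_mono h
      have e : qres q U ≫ bcProj (Y.homOfLE h) (V l).ι U.ι (Scheme.homOfLE_ι _ h).symm N =
          bcProj (X.homOfLE h') (q.base ⁻¹ᵁ V l).ι (q.base ⁻¹ᵁ U).ι (Scheme.homOfLE_ι _ h').symm M ≫ qres q (V l) := by
        refine cancel (proj (V l).ι N) ?_ ?_
        · show (qres q U).base ≫ Y.homOfLE h = X.homOfLE h' ≫ (qres q (V l)).base
          rw [qres_base, qres_base, ← cancel_mono (V l).ι, Category.assoc, Category.assoc, Scheme.homOfLE_ι,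
            morphismRestrict_ι, morphismRestrict_ι, Scheme.homOfLE_ι_assoc]
        · rw [Category.assoc, Category.assoc, bcProj_proj, qres_proj, qres_proj, ← Category.assoc, bcProj_proj]
      rw [← Category.assoc, e, Category.assoc, hG, ← Category.assoc, bcProj_proj]
    refine hom_ext_ff (AmpleDevLib.isInvertible_pb _ hM) (AmpleDevLib.isInvertible_pb _ hN) hO (qres q U) ?_
      ((key i inf_le_left).trans (key j inf_le_right).symm)
    show Y.homOfLE (inf_le_left : U ≤ V i) ≫ (G i).base = Y.homOfLE (inf_le_right : U ≤ V j) ≫ (G j).base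
    rw [hGb, hGb, Scheme.homOfLE_ι_assoc, Scheme.homOfLE_ι_assoc]
  refine ⟨G', hG'b, mhom_ext (fun y => q.base ⁻¹ᵁ V y) (fun x => ⟨q.base x, hV _⟩) ?_ fun y => ?_⟩
  · rw [CoGrothendieck.categoryStruct_comp_base, hG'b, hb]
  · rw [← Category.assoc, ← qres_proj, Category.assoc, hG', hG]

end AVThetaLib
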