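import Groth.Agent.AVThetaLib.GluePts
import Mathlib.AlgebraicGeometry.Sites.Representability

/-!
The points of the theta group as a Zariski sheaf on schemes.
-/

set_option autoImplicit false
set_option maxHeartbeats 1000000
set_option maxRecDepth 8000
set_option backward.isDefEq.respectTransparency false
set_option linter.style.haveILetI false
set_option linter.unusedSectionVars false

noncomputable section

universe u

open CategoryTheory CategoryTheory.Limits MonoidalCategory CartesianMonoidalCategory MonObj AlgebraicGeometry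
open Pseudofunctor Bicategory ThetaGrp Opposite

namespace AVThetaLib

variable {k : Type u} [Field k] {A : Over (Spec (CommRingCat.of k))} [GrpObj A] {L : A.left.Modules}

theorem sigma_ext {T : Scheme.{u}} {t t' : T ⟶ Spec (CommRingCat.of k)} (e : t = t')
    {β : thetaPts A L (Over.mk t)} {β' : thetaPts A L (Over.mk t')}
    (h : bc (Over.homMk (𝟙 T) (by simp [e]) : Over.mk t ⟶ Over.mk t') β' = β) :
    (⟨t, β⟩ : Σ t : T ⟶ Spec (CommRingCat.of k), thetaPts A L (Over.mk t)) = ⟨t', β'⟩ := by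
  subst e
  rw [show (Over.homMk (𝟙 T) _ : Over.mk t ⟶ Over.mk t) = 𝟙 _ from Over.OverMorphism.ext rfl, bc_id] at h
  subst h
  rfl

variable (A L) in
/-- The functor of pairs of a structure map and a point of the theta group. -/
def thetaF : Scheme.{u}ᵒᵖ ⥤ Type u where
  obj T := Σ t : T.unop ⟶ Spec (CommRingCat.of k), thetaPts A L (Over.mk t)
  map g := ↾fun a => ⟨g.unop ≫ a.1, bc (Over.homMk g.unop rfl : Over.mk (g.unop ≫ a.1) ⟶ Over.mk a.1) a.2⟩
  map_id T := by
    refine ConcreteCategory.hom_ext _ _ fun a => ?_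
    exact sigma_ext (Category.id_comp a.1) rfl
  map_comp {T₁ T₂ T₃} g h := by
    refine ConcreteCategory.hom_ext _ _ fun a => ?_
    refine sigma_ext (Category.assoc h.unop g.unop a.1) ?_
    show bc _ (bc _ (bc _ a.2)) = bc _ a.2
    rw [bc_bc, bc_bc]
    congr 1

/-- A point as an element of the functor. -/
def el (U : Over (Spec (CommRingCat.of k))) (β : thetaPts A L U) : (thetaF A L).obj (op U.left) :=
  ⟨U.hom, β⟩

/-- An element as a point. -/
def resU (U : Over (Spec (CommRingCat.of k))) (a : (thetaF A L).obj (op U.left)) (h : a.1 = U.hom) : thetaPts A L U :=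
  bc (Over.homMk (𝟙 U.left) (by simp [h]) : U ⟶ Over.mk a.1) a.2

theorem resU_congr (U : Over (Spec (CommRingCat.of k))) {a a' : (thetaF A L).obj (op U.left)} (e : a = a')
    (h : a.1 = U.hom) : resU U a h = resU U a' (e ▸ h) := by
  subst e; rfl

theorem resU_el (U : Over (Spec (CommRingCat.of k))) (β : thetaPts A L U) : resU U (el U β) rfl = β := by
  show bc _ β = β
  rw [show (Over.homMk (𝟙 U.left) _ : U ⟶ Over.mk U.hom) = 𝟙 U from Over.OverMorphism.ext rfl]
  exact bc_id β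

theorem el_resU (U : Over (Spec (CommRingCat.of k))) (a : (thetaF A L).obj (op U.left)) (h : a.1 = U.hom) :
    el U (resU U a h) = a := by
  obtain ⟨t, β⟩ := a
  exact sigma_ext h.symm rfl

theorem map_el {U V : Over (Spec (CommRingCat.of k))} (h : U ⟶ V) (β : thetaPts A L V) :
    (thetaF A L).map h.left.op (el V β) = el U (bc h β) := by
  refine sigma_ext (Over.w h) ?_
  rw [bc_bc]
  congr 1

theorem el_injective (U : Over (Spec (CommRingCat.of k))) : Function.Injective (el (A := A) (L := L) U) :=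
  fun a b h => by
    have := resU_congr U h rfl
    rwa [resU_el, resU_el] at this

theorem resU_map {T : Scheme.{u}} (U : Over (Spec (CommRingCat.of k))) (g : U.left ⟶ T)
    (a : (thetaF A L).obj (op T)) (h : g ≫ a.1 = U.hom) :
    resU U ((thetaF A L).map g.op a) h = bc (Over.homMk g h : U ⟶ Over.mk a.1) a.2 := by
  show bc _ (bc _ a.2) = bc _ a.2
  rw [bc_bc]
  congr 1

variable [IsProper A.hom] [GeometricallyIntegral A.hom] [IsCommMonObj A] (hL : PicF.IsInvertible L)

include hL in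
theorem pts_eq_of_cover {U : Over (Spec (CommRingCat.of k))} (𝒰 : U.left.OpenCover) {β β' : thetaPts A L U}
    (h : ∀ i, bc (Over.homMk (𝒰.f i) rfl : Over.mk (𝒰.f i ≫ U.hom) ⟶ U) β =
      bc (Over.homMk (𝒰.f i) rfl : Over.mk (𝒰.f i ≫ U.hom) ⟶ U) β') : β = β' := by
  refine pts_eq_of_local hL fun x => ?_
  obtain ⟨i, y, hy⟩ := 𝒰.exists_eq x
  refine ⟨(𝒰.f i).opensRange, ⟨y, hy⟩, ?_⟩
  let l : oo (T := U) (𝒰.f i).opensRange ⟶ Over.mk (𝒰.f i ≫ U.hom) :=
    Over.homMk (IsOpenImmersion.lift (𝒰.f i) (𝒰.f i).opensRange.ι (by simp)) (by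
      show _ ≫ 𝒰.f i ≫ U.hom = _
      rw [IsOpenImmersion.lift_fac_assoc]
      rfl)
  have e : l ≫ (Over.homMk (𝒰.f i) rfl : Over.mk (𝒰.f i ≫ U.hom) ⟶ U) = oi (𝒰.f i).opensRange :=
    Over.OverMorphism.ext (IsOpenImmersion.lift_fac _ _ _)
  show bc (oi _) β = bc (oi _) β'
  rw [← e, ← bc_bc, ← bc_bc, h]

include hL in
theorem isSheaf_thetaF : Presheaf.IsSheaf Scheme.zariskiTopology (thetaF A L) := by
  rw [isSheaf_iff_isSheaf_of_type, Precoverage.isSheaf_toGrothendieck_iff_of_isStableUnderBaseChange]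
  intro T S hS
  obtain ⟨(𝒰 : T.OpenCover), rfl⟩ := Scheme.exists_cover_of_mem_pretopology hS
  refine (Presieve.isSheafFor_arrows_iff _ _).2 fun a ha => ?_
  let t : T ⟶ Spec (CommRingCat.of k) := 𝒰.glueMorphisms (fun i => (a i).1) fun i j =>
    congrArg Sigma.fst (ha i j _ (pullback.fst _ _) (pullback.snd _ _) pullback.condition)
  have ht : ∀ i, 𝒰.f i ≫ t = (a i).1 := fun i => Scheme.Cover.ι_glueMorphisms 𝒰 _ _ i
  let U : Over (Spec (CommRingCat.of k)) := Over.mk t
  let V : 𝒰.I₀ → U.left.Opens := fun i => (𝒰.f i).opensRange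
  let l : ∀ i, oo (V i) ⟶ Over.mk (a i).1 := fun i =>
    Over.homMk (IsOpenImmersion.lift (𝒰.f i) (𝒰.f i).opensRange.ι (Eq.subset (Scheme.Opens.range_ι _))) (by
      show _ ≫ (a i).1 = _
      rw [← ht, IsOpenImmersion.lift_fac_assoc]
      rfl)
  have compat : ∀ i j, bc (ol (inf_le_left : V i ⊓ V j ≤ V i)) (bc (l i) (a i).2) =
      bc (ol (inf_le_right : V i ⊓ V j ≤ V j)) (bc (l j) (a j).2) := fun i j => by
    let W := oo (V i ⊓ V j)
    let gi : W ⟶ Over.mk (a i).1 := ol inf_le_left ≫ l i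
    let gj : W ⟶ Over.mk (a j).1 := ol inf_le_right ≫ l j
    have hg : gi.left ≫ 𝒰.f i = gj.left ≫ 𝒰.f j := by
      show (_ ≫ IsOpenImmersion.lift (𝒰.f i) _ _) ≫ 𝒰.f i = (_ ≫ IsOpenImmersion.lift (𝒰.f j) _ _) ≫ 𝒰.f j
      rw [Category.assoc, Category.assoc, IsOpenImmersion.lift_fac, IsOpenImmersion.lift_fac]
      exact (Scheme.homOfLE_ι T (inf_le_left : (𝒰.f i).opensRange ⊓ (𝒰.f j).opensRange ≤ _)).trans
        (Scheme.homOfLE_ι T (inf_le_right : (𝒰.f i).opensRange ⊓ (𝒰.f j).opensRange ≤ _)).symm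
    have h := ha i j W.left gi.left gj.left hg
    have h' := resU_congr W h (Over.w gi)
    rw [bc_bc, bc_bc]
    exact (resU_map W gi.left (a i) (Over.w gi)).symm.trans (h'.trans (resU_map W gj.left (a j) (Over.w gj)))
  have hV : ∀ x : U.left, ∃ i, x ∈ V i := fun x => by obtain ⟨i, y, hy⟩ := 𝒰.exists_eq x; exact ⟨i, y, hy⟩
  obtain ⟨β, hβ⟩ := exists_glue_pts (T := U) (J := 𝒰.I₀) hL V hV (fun i : 𝒰.I₀ => bc (l i) (a i).2) compat
  have hres : ∀ i, (thetaF A L).map (𝒰.f i).op (el U β) = a i := fun i => by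
    let fi : Over.mk (a i).1 ⟶ U := Over.homMk (𝒰.f i) (ht i)
    refine (map_el fi β).trans ?_
    let l' : Over.mk (a i).1 ⟶ oo (V i) :=
      Over.homMk (IsOpenImmersion.lift (𝒰.f i).opensRange.ι (𝒰.f i) (Eq.superset (Scheme.Opens.range_ι _))) (by
        show _ ≫ (𝒰.f i).opensRange.ι ≫ t = _
        rw [IsOpenImmersion.lift_fac_assoc, ht]
        rfl)
    have e1 : fi = l' ≫ oi (V i) :=
      Over.OverMorphism.ext (IsOpenImmersion.lift_fac _ _ _).symm
    have e2 : l' ≫ l i = 𝟙 _ := Over.OverMorphism.ext (by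
      show _ ≫ _ = 𝟙 _
      rw [← cancel_mono (𝒰.f i), Category.assoc, Category.id_comp]
      exact (congrArg (_ ≫ ·) (IsOpenImmersion.lift_fac _ _ _)).trans (IsOpenImmersion.lift_fac _ _ _))
    rw [e1, ← bc_bc, hβ, bc_bc, e2, bc_id]
    rfl
  refine ⟨el U β, hres, fun b hb => ?_⟩
  obtain ⟨t', β'⟩ := b
  obtain rfl : t' = t := 𝒰.hom_ext _ _ fun i => by
    rw [ht]
    exact congrArg Sigma.fst (hb i)
  refine congrArg (el (Over.mk t)) (pts_eq_of_cover hL (U := Over.mk t) 𝒰 fun i => ?_)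
  have h := ((map_el (Over.homMk (𝒰.f i) rfl : Over.mk (𝒰.f i ≫ t) ⟶ Over.mk t) β').symm.trans
    ((hb i).trans (hres i).symm)).trans (map_el (Over.homMk (𝒰.f i) rfl : Over.mk (𝒰.f i ≫ t) ⟶ Over.mk t) β)
  exact el_injective _ h

end AVThetaLib
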