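import Mathlib.RingTheory.TensorProduct.Free
import Mathlib.LinearAlgebra.Eigenspace.Triangularizable
import Mathlib.LinearAlgebra.Dual.Lemmas
import Mathlib.RingTheory.Artinian.Module
import Mathlib.FieldTheory.IsAlgClosed.Basic

/-!
Group-like elements of finite-dimensional cocommutative coalgebras over algebraically closed fields.
-/

set_option autoImplicit false
set_option maxHeartbeats 1000000

noncomputable section

universe u v

open TensorProduct LinearMap

namespace AVThetaLib

variable {k : Type u} [Field k] {R : Type v} [AddCommGroup R] [Module k R]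

theorem exists_common_eigenvector [IsAlgClosed k] [FiniteDimensional k R] [Nontrivial R] {ι : Type*}
    (T : ι → R →ₗ[k] R) (hT : ∀ i j r, T i (T j r) = T j (T i r)) :
    ∃ φ : R, φ ≠ 0 ∧ ∀ i, ∃ a : k, T i φ = a • φ := by
  obtain ⟨W, ⟨hW0, hWs⟩, hmin⟩ := IsArtinian.set_has_minimal
    {W : Submodule k R | W ≠ ⊥ ∧ ∀ i, ∀ r ∈ W, T i r ∈ W} ⟨⊤, top_ne_bot, fun _ _ _ => trivial⟩
  obtain ⟨φ, hφ, hφ0⟩ := (Submodule.ne_bot_iff W).1 hW0
  refine ⟨φ, hφ0, fun i => ?_⟩
  let Ti : W →ₗ[k] W := (T i).restrict (hWs i)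
  haveI : Nontrivial W := Submodule.nontrivial_iff_ne_bot.2 hW0
  obtain ⟨a, ha⟩ := Module.End.exists_eigenvalue Ti
  let W' : Submodule k R := W ⊓ Module.End.eigenspace (T i) a
  have hmem : W' ≠ ⊥ ∧ ∀ j, ∀ r ∈ W', T j r ∈ W' := by
    refine ⟨?_, fun j r hr => ⟨hWs j r hr.1, ?_⟩⟩
    · obtain ⟨v, hv⟩ := ha.exists_hasEigenvector
      refine (Submodule.ne_bot_iff _).2 ⟨v.1, ⟨v.2, ?_⟩, fun h => hv.2 (Subtype.ext h)⟩
      exact Module.End.mem_eigenspace_iff.2 (congrArg Subtype.val hv.apply_eq_smul)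
    · have h2 := Module.End.mem_eigenspace_iff.1 hr.2
      exact Module.End.mem_eigenspace_iff.2 (by rw [hT, h2, map_smul])
  have : W' = W := by
    by_contra hne
    exact hmin W' hmem (lt_of_le_of_ne inf_le_left hne)
  exact ⟨a, Module.End.mem_eigenspace_iff.1 (this.symm ▸ hφ : φ ∈ W').2⟩

theorem eq_zero_of_dual [FiniteDimensional k R] (z : R ⊗[k] R)
    (h : ∀ l : R →ₗ[k] k, TensorProduct.lid k R (rTensor R l z) = 0) : z = 0 := by
  classical
  let b := Module.finBasis k R
  obtain ⟨c, rfl⟩ := TensorProduct.eq_repr_basis_left b z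
  refine Finset.sum_eq_zero fun i hi => ?_
  have h2 := h (b.coord i)
  simp only [Finsupp.sum, map_sum, rTensor_tmul, lid_tmul, Module.Basis.coord_apply, Module.Basis.repr_self] at h2
  rw [Finset.sum_eq_single i (fun j _ hj => by rw [Finsupp.single_eq_of_ne hj.symm, zero_smul]) (fun hi => by
    rw [Finsupp.notMem_support_iff.1 hi, smul_zero]), Finsupp.single_eq_same, one_smul] at h2
  dsimp only
  rw [h2, tmul_zero]

/-- A group-like element. -/
theorem exists_groupLike [IsAlgClosed k] [FiniteDimensional k R] [Nontrivial R] (E : R →ₗ[k] R ⊗[k] R)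
    (hinj : Function.Injective E) (hcomm : ∀ r, TensorProduct.comm k R R (E r) = E r)
    (hassoc : ∀ r, TensorProduct.assoc k R R R (rTensor R E (E r)) = lTensor R E (E r)) :
    ∃ φ : R, φ ≠ 0 ∧ E φ = φ ⊗ₜ φ := by
  let c : (R →ₗ[k] k) → R ⊗[k] R →ₗ[k] R := fun l => (TensorProduct.lid k R).toLinearMap ∘ₗ rTensor R l
  let T : (R →ₗ[k] k) → R →ₗ[k] R := fun l => c l ∘ₗ E
  let m : (R →ₗ[k] k) → (R →ₗ[k] k) → R ⊗[k] R →ₗ[k] k := fun l l' => (TensorProduct.lid k k).toLinearMap ∘ₗ map l l'
  have hm : ∀ l l' s, m l l' (E s) = m l' l (E s) := fun l l' s => by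
    conv_lhs => rw [← hcomm s]
    generalize E s = z
    induction z using TensorProduct.induction_on with
    | zero => simp
    | tmul a b => simp [m, mul_comm]
    | add a b ha hb => simp only [map_add, ha, hb]
  have hTT : ∀ l l' r, T l' (T l r) = TensorProduct.lid k R (rTensor R (m l l' ∘ₗ E) (E r)) := by
    intro l l' r
    have e1 : ∀ z : R ⊗[k] R, c l' (E (c l z)) =
        TensorProduct.lid k R (map l (c l') (lTensor R E z)) := fun z => by
      induction z using TensorProduct.induction_on with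
      | zero => simp
      | tmul a b => simp [c]
      | add a b ha hb => simp only [map_add, ha, hb]
    have e2 : ∀ (w : R ⊗[k] R) (b : R),
        TensorProduct.lid k R (map l (c l') (TensorProduct.assoc k R R R (w ⊗ₜ b))) = m l l' w • b := fun w b => by
      induction w using TensorProduct.induction_on with
      | zero => simp
      | tmul a a' => simp [c, m, mul_smul, smul_comm (l' a') (l a)]
      | add a a' ha hb => simp only [add_tmul, map_add, add_smul, ha, hb]
    have e3 : ∀ z : R ⊗[k] R, TensorProduct.lid k R (map l (c l') (TensorProduct.assoc k R R R (rTensor R E z))) =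
        TensorProduct.lid k R (rTensor R (m l l' ∘ₗ E) z) := fun z => by
      induction z using TensorProduct.induction_on with
      | zero => simp
      | tmul a b => simp only [rTensor_tmul, lid_tmul, comp_apply, e2]
      | add a b ha hb => simp only [map_add, ha, hb]
    show c l' (E (c l (E r))) = _
    rw [e1, ← hassoc, e3]
  have hcom : ∀ l l' r, T l (T l' r) = T l' (T l r) := fun l l' r => by
    rw [hTT, hTT, show m l' l ∘ₗ E = m l l' ∘ₗ E from LinearMap.ext fun s => hm l' l s]
  obtain ⟨φ, hφ, heig⟩ := exists_common_eigenvector T hcom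
  obtain ⟨μ, hμ⟩ := Module.Projective.exists_dual_ne_zero k hφ
  let μ₀ : R →ₗ[k] k := (μ φ)⁻¹ • μ
  have hμ₀ : μ₀ φ = 1 := by simp [μ₀, hμ]
  let ψ : R := (TensorProduct.rid k R) (lTensor R μ₀ (E φ))
  have hψ : ∀ l, l ψ = μ₀ (T l φ) := fun l => by
    show l ((TensorProduct.rid k R) (lTensor R μ₀ (E φ))) = μ₀ (TensorProduct.lid k R (rTensor R l (E φ)))
    generalize E φ = z
    induction z using TensorProduct.induction_on with
    | zero => simp
    | tmul a b => simp [mul_comm]
    | add a b ha hb => simp only [map_add, ha, hb]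
  have hE : E φ = ψ ⊗ₜ φ := by
    refine sub_eq_zero.1 (eq_zero_of_dual _ fun l => ?_)
    obtain ⟨a, ha⟩ := heig l
    rw [map_sub, map_sub, rTensor_tmul, lid_tmul, hψ, show TensorProduct.lid k R (rTensor R l (E φ)) = T l φ from rfl,
      ha, map_smul, hμ₀, smul_eq_mul, mul_one, sub_self]
  have hE' : E φ = (μ₀ ψ) • (φ ⊗ₜ φ) := by
    have h := hcomm φ
    rw [hE, TensorProduct.comm_tmul] at h
    have h2 := congrArg (fun z => TensorProduct.lid k R (rTensor R μ₀ z)) h
    simp only [rTensor_tmul, lid_tmul, hμ₀, one_smul] at h2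
    rw [hE]
    conv_lhs => rw [h2]
    rw [smul_tmul']
  have ha : μ₀ ψ ≠ 0 := fun h => hφ (hinj (by rw [hE', h, zero_smul, map_zero]))
  refine ⟨μ₀ ψ • φ, smul_ne_zero ha hφ, ?_⟩
  rw [map_smul, hE', smul_tmul_smul, smul_smul]

end AVThetaLib
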