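import Groth.Agent.AVThetaLib.NSplit
import Groth.Agent.AVThetaLib.Pairing

/-!
The closed locus in a finite scheme where a function on the product vanishes identically.
-/

set_option autoImplicit false
set_option maxHeartbeats 1000000
set_option backward.isDefEq.respectTransparency false
set_option linter.style.haveILetI false
set_option linter.unusedSectionVars false

noncomputable section

universe u

open CategoryTheory CategoryTheory.Limits MonoidalCategory CartesianMonoidalCategory MonObj AlgebraicGeometry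
open scoped TensorProduct

namespace AVThetaLib

variable {k : Type u} [Field k] {K H : Over (Spec (CommRingCat.of k))} [IsFinite K.hom] [IsFinite H.hom]

theorem pullΓ_whisker {T : Over (Spec (CommRingCat.of k))} (y : T ⟶ K) (z : Γ(K.left, ⊤) ⊗[k] Γ(H.left, ⊤)) :
    pullΓ (y ▷ H) (prodΓ K H z) =
      prodΓ T H (Algebra.TensorProduct.map (pullΓ y) (AlgHom.id k _) z) := by
  induction z using TensorProduct.induction_on with
  | zero => simp only [map_zero]
  | tmul a b =>
    rw [Algebra.TensorProduct.map_tmul, prodΓ_tmul, prodΓ_tmul, map_mul, ← pullΓ_comp, ← pullΓ_comp,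
      whiskerRight_fst, whiskerRight_snd, ← pullΓ_comp]
    rfl
  | add a b ha hb => simp only [map_add, ha, hb]

theorem repr_map_basis {A B M J : Type u} [CommRing A] [Algebra k A] [CommRing B] [Algebra k B] [CommRing M] [Algebra k M]
    (φ : A →ₐ[k] B) (b : Module.Basis J k M) (z : A ⊗[k] M) (j : J) :
    (Algebra.TensorProduct.basis B b).repr (Algebra.TensorProduct.map φ (AlgHom.id k M) z) j =
      φ ((Algebra.TensorProduct.basis A b).repr z j) := by
  induction z using TensorProduct.induction_on with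
  | zero => simp only [map_zero, Finsupp.zero_apply]
  | tmul a m =>
    simp only [Algebra.TensorProduct.map_tmul, Algebra.TensorProduct.basis_repr_tmul, Finsupp.smul_apply,
      Finsupp.mapRange_apply, smul_eq_mul, map_mul, AlgHom.commutes, AlgHom.id_apply]
  | add z w hz hw => simp only [map_add, Finsupp.add_apply, hz, hw]

theorem appTop_isoSpec_inv (X : Scheme.{u}) [IsAffine X] :
    X.isoSpec.inv.appTop = (Scheme.ΓSpecIso Γ(X, ⊤)).inv := by
  rw [← cancel_epi (Scheme.ΓSpecIso Γ(X, ⊤)).hom, Iso.hom_inv_id, ← Scheme.toSpecΓ_appTop,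
    ← Scheme.Hom.comp_appTop, Scheme.isoSpec_inv_toSpecΓ, Scheme.Hom.id_appTop]

theorem exists_zero_locus (c : Γ((K ⊗ H).left, ⊤)) :
    ∃ (R : Over (Spec (CommRingCat.of k))) (jR : R ⟶ K), IsClosedImmersion jR.left ∧ pullΓ (jR ▷ H) c = 0 ∧
      ∀ (T : Over (Spec (CommRingCat.of k))) (y : T ⟶ K), pullΓ (y ▷ H) c = 0 → ∃ z : T ⟶ R, z ≫ jR = y := by
  haveI : IsAffine K.left := isAffine_of_isAffineHom K.hom
  haveI : IsAffine H.left := isAffine_of_isAffineHom H.hom
  obtain ⟨z, rfl⟩ := (prodΓ_bijective K H).2 c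
  let b := Module.Free.chooseBasis k Γ(H.left, ⊤)
  let Bs := Algebra.TensorProduct.basis Γ(K.left, ⊤) b
  let I : Ideal Γ(K.left, ⊤) := Ideal.span (Set.range fun j => Bs.repr z j)
  let q : Γ(K.left, ⊤) ⟶ CommRingCat.of (Γ(K.left, ⊤) ⧸ I) := CommRingCat.ofHom (Ideal.Quotient.mk I)
  let j₀ : Spec (CommRingCat.of (Γ(K.left, ⊤) ⧸ I)) ⟶ K.left := Spec.map q ≫ K.left.isoSpec.inv
  let R : Over (Spec (CommRingCat.of k)) := Over.mk (j₀ ≫ K.hom)
  let jR : R ⟶ K := Over.homMk j₀
  haveI : IsAffine R.left := inferInstanceAs (IsAffine (Spec _))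
  haveI : IsClosedImmersion j₀ := by
    haveI : IsClosedImmersion (Spec.map q) := IsClosedImmersion.spec_of_surjective q Ideal.Quotient.mk_surjective
    infer_instance
  have hmap : ∀ {T : Over (Spec (CommRingCat.of k))} (y : T ⟶ K),
      (∀ j, pullΓ y (Bs.repr z j) = 0) →
        Algebra.TensorProduct.map (pullΓ y) (AlgHom.id k Γ(H.left, ⊤)) z = 0 := fun {T} y h => by
    conv_lhs => rw [← Bs.linearCombination_repr z, Finsupp.linearCombination_apply, Finsupp.sum, map_sum]
    refine Finset.sum_eq_zero fun j _ => ?_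
    rw [Algebra.TensorProduct.basis_apply, TensorProduct.smul_tmul', Algebra.TensorProduct.map_tmul,
      smul_eq_mul, _root_.mul_one, h j, TensorProduct.zero_tmul]
  have hR : ∀ a ∈ I, pullΓ jR a = 0 := fun a ha => by
    show (Spec.map q ≫ K.left.isoSpec.inv).appTop a = 0
    have e : K.left.isoSpec.inv.appTop = (Scheme.ΓSpecIso Γ(K.left, ⊤)).inv := appTop_isoSpec_inv K.left
    rw [Scheme.Hom.comp_appTop, e, ← Scheme.ΓSpecIso_inv_naturality, ConcreteCategory.comp_apply,
      show q a = 0 from Ideal.Quotient.eq_zero_iff_mem.2 ha, map_zero]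
  refine ⟨R, jR, inferInstanceAs (IsClosedImmersion j₀), ?_, fun T y hy => ?_⟩
  · rw [pullΓ_whisker, hmap jR fun j => hR _ (Ideal.subset_span ⟨j, rfl⟩), map_zero]
  have hloc : ∀ j, pullΓ y (Bs.repr z j) = 0 := fun j => by
    refine TopCat.Sheaf.eq_of_locally_eq' T.left.sheaf (fun V : T.left.affineOpens => (V : T.left.Opens)) ⊤
      (fun V => homOfLE le_top) (fun t _ => TopologicalSpace.Opens.mem_iSup.2 (by
        obtain ⟨_, ⟨V, hV, rfl⟩, htV, -⟩ :=
          (Scheme.isBasis_affineOpens T.left).exists_subset_of_mem_open (Set.mem_univ t) isOpen_univ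
        exact ⟨⟨V, hV⟩, htV⟩)) _ _ fun V => ?_
    haveI : IsAffine (oo (V : T.left.Opens)).left := V.2
    have h1 : pullΓ ((oi (V : T.left.Opens) ≫ y) ▷ H) (prodΓ K H z) = 0 := by
      rw [comp_whiskerRight, pullΓ_comp, hy, map_zero]
    rw [pullΓ_whisker] at h1
    have h2 := (prodΓ_bijective (oo (V : T.left.Opens)) H).1 (h1.trans (map_zero _).symm)
    have h3 := congrArg (fun w => (Algebra.TensorProduct.basis Γ((oo (V : T.left.Opens)).left, ⊤) b).repr w j) h2
    simp only [map_zero, Finsupp.zero_apply] at h3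
    rw [repr_map_basis, pullΓ_comp] at h3
    rw [map_zero]
    refine (ConcreteCategory.bijective_of_isIso
      ((V : T.left.Opens).topIso.inv)).1 ?_
    rw [map_zero]
    refine Eq.trans ?_ h3
    show (V : T.left.Opens).topIso.inv (T.left.presheaf.map (homOfLE le_top).op (pullΓ y (Bs.repr z j))) =
      (V : T.left.Opens).ι.appTop (pullΓ y (Bs.repr z j))
    rw [← ConcreteCategory.comp_apply, Scheme.Opens.ι_appTop, Scheme.Opens.topIso_inv, ← Functor.map_comp]
    rfl
  let ψ : Γ(K.left, ⊤) ⧸ I →+* Γ(T.left, ⊤) := Ideal.Quotient.lift I y.left.appTop.hom fun a ha => by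
    refine Submodule.span_induction (p := fun a _ => y.left.appTop.hom a = 0) ?_ (map_zero _) ?_ ?_ ha
    · rintro _ ⟨j, rfl⟩
      exact hloc j
    · intro a b _ _ ha hb
      rw [map_add, ha, hb, add_zero]
    · intro r a _ ha
      rw [smul_eq_mul, map_mul, ha, mul_zero]
  let z₀ : T.left ⟶ Spec (CommRingCat.of (Γ(K.left, ⊤) ⧸ I)) := T.left.toSpecΓ ≫ Spec.map (CommRingCat.ofHom ψ)
  have hz : z₀ ≫ j₀ = y.left := by
    rw [← cancel_mono K.left.isoSpec.hom, Category.assoc, Category.assoc, Category.assoc, Iso.inv_hom_id,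
      Category.comp_id, ← Spec.map_comp]
    exact (Scheme.toSpecΓ_naturality y.left).symm
  exact ⟨Over.homMk z₀ (by
    show z₀ ≫ j₀ ≫ K.hom = T.hom
    rw [← Category.assoc, hz, Over.w]), Over.OverMorphism.ext hz⟩

end AVThetaLib
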