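import Groth.Agent.AVThetaLib.Core

/-!
Points of the theta group: construction, extensionality, base change.
-/

set_option autoImplicit false
set_option maxHeartbeats 1000000
set_option maxRecDepth 8000
set_option backward.isDefEq.respectTransparency false
set_option linter.style.haveILetI false
set_option linter.unusedSectionVars false

noncomputable section

universe u

open CategoryTheory CategoryTheory.Limits MonoidalCategory CartesianMonoidalCategory MonObj AlgebraicGeometry
open Pseudofunctor Bicategory ThetaGrp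

namespace AVThetaLib

variable {S : Scheme.{u}} {A : Over S} [GrpObj A] {L : A.left.Modules}

variable (A L) in
/-- The object `(A, L)`. -/
abbrev O₀ : CoGrothendieck (modPF.{u}) := ⟨A.left, L⟩

variable (A L) in
/-- The canonical morphism to `(A, L)`. -/
def π (T : Over S) : thetaObj A L T ⟶ O₀ A L := ⟨(fst A T).left, 𝟙 _⟩

instance (T : Over S) : Cart (π A L T) := ⟨inferInstanceAs (IsIso (𝟙 _))⟩

@[simp] theorem π_base (T : Over S) : (π A L T).base = (fst A T).left := rfl

theorem transl_injective {T : Over S} : Function.Injective (transl A (T := T)) := fun x y h => by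
  have := congrArg (fun f => lift (1 : T ⟶ A) (𝟙 T) ≫ f ≫ fst A T) h
  simpa only [transl_fst, MonObj.comp_mul, lift_fst, lift_snd_assoc, Category.id_comp, _root_.one_mul] using this

theorem transl_left_injective {T : Over S} {x y : T ⟶ A} (h : (transl A x).left = (transl A y).left) : x = y :=
  transl_injective (Over.OverMorphism.ext h)

instance isIso_transl {T : Over S} (x : T ⟶ A) : IsIso (transl A x) :=
  ⟨transl A x⁻¹, by rw [← transl_mul, mul_inv_cancel, transl_one], by rw [← transl_mul, inv_mul_cancel, transl_one]⟩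

variable {T : Over S}

/-- The point a point of the theta group lies over. -/
def pt (α : thetaPts A L T) : T ⟶ A := α.2.choose

theorem isOverPt_pt (α : thetaPts A L T) : IsOverPt α (pt α) := α.2.choose_spec

theorem pt_eq_of_isOverPt {α : thetaPts A L T} {x : T ⟶ A} (h : IsOverPt α x) : pt α = x :=
  transl_left_injective ((isOverPt_pt α).symm.trans h)

theorem isOverPt_iff {α : thetaPts A L T} {x : T ⟶ A} : IsOverPt α x ↔ pt α = x :=
  ⟨pt_eq_of_isOverPt, fun h => h ▸ isOverPt_pt α⟩

theorem base_eq (α : thetaPts A L T) : α.1.hom.base = (transl A (pt α)).left := isOverPt_pt α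

theorem mul_hom (α β : thetaPts A L T) : (α * β).1.hom = β.1.hom ≫ α.1.hom := rfl

theorem one_hom : (1 : thetaPts A L T).1.hom = 𝟙 (thetaObj A L T) := rfl

theorem pt_mul (α β : thetaPts A L T) : pt (α * β) = pt β * pt α :=
  pt_eq_of_isOverPt (by rw [IsOverPt, mul_hom, CoGrothendieck.categoryStruct_comp_base, base_eq, base_eq,
    transl_mul, Over.comp_left])

theorem pt_one : pt (1 : thetaPts A L T) = 1 :=
  pt_eq_of_isOverPt (by rw [IsOverPt, transl_one]; rfl)

theorem pt_inv (α : thetaPts A L T) : pt α⁻¹ = (pt α)⁻¹ := by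
  refine eq_inv_of_mul_eq_one_left ?_
  rw [← pt_mul, mul_inv_cancel, pt_one]

theorem pts_ext {α β : thetaPts A L T} (h : α.1.hom = β.1.hom) : α = β := Subtype.ext (Iso.ext h)

theorem cart_hom (α : thetaPts A L T) : Cart α.1.hom := cart_of_isIso _

/-- Extensionality against a cartesian morphism. -/
theorem pts_ext' {Y : CoGrothendieck (modPF.{u})} (f : thetaObj A L T ⟶ Y) [Cart f] {α β : thetaPts A L T}
    (hp : pt α = pt β) (h : α.1.hom ≫ f = β.1.hom ≫ f) : α = β :=
  pts_ext (cancel f (by rw [base_eq, base_eq, hp]) h)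

/-- A point from a morphism over a translation. -/
theorem exists_pts {Y : CoGrothendieck (modPF.{u})} (f : thetaObj A L T ⟶ Y) [Cart f] (g : thetaObj A L T ⟶ Y)
    [Cart g] (x : T ⟶ A) (h : (transl A x).left ≫ f.base = g.base) :
    ∃ α : thetaPts A L T, pt α = x ∧ α.1.hom ≫ f = g := by
  obtain ⟨l, hl, hlf⟩ := exists_lift f g _ h
  haveI : Cart l := @cart_of_comp _ _ _ _ _ _ l f _ (hlf ▸ ‹Cart g›)
  haveI : IsIso l.base := by
    rw [hl]
    exact inferInstanceAs (IsIso ((Over.forget S).map (transl A x)))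
  haveI := isIso_of_cart l
  exact ⟨⟨asIso l, x, hl⟩, pt_eq_of_isOverPt hl, hlf⟩

/-! ### Base change -/

variable {U V : Over S}

variable (A L) in
theorem bcLift_π (g : U ⟶ V) : bcLift A L g ≫ π A L V = π A L U :=
  bcProj_proj (A ◁ g).left (fst A V).left (fst A U).left (by rw [← Over.comp_left, whiskerLeft_fst]) L

instance cart_bcLift (g : U ⟶ V) : Cart (bcLift A L g) := ⟨by unfold bcLift; infer_instance⟩

theorem bcLift_comp {W : Over S} (g : U ⟶ V) (g' : V ⟶ W) :
    bcLift A L (g ≫ g') = bcLift A L g ≫ bcLift A L g' := by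
  refine cancel (π A L W) ?_ ?_
  · show (A ◁ (g ≫ g')).left = (A ◁ g).left ≫ (A ◁ g').left
    rw [MonoidalCategory.whiskerLeft_comp, Over.comp_left]
  · rw [Category.assoc, bcLift_π, bcLift_π, bcLift_π]

theorem bcLift_id : bcLift A L (𝟙 T) = 𝟙 _ := by
  refine cancel (π A L T) ?_ ?_
  · show (A ◁ 𝟙 T).left = 𝟙 _
    rw [MonoidalCategory.whiskerLeft_id]
    rfl
  · rw [bcLift_π, Category.id_comp]

theorem transl_bc (g : U ⟶ V) (x : V ⟶ A) : transl A (g ≫ x) ≫ (A ◁ g) = (A ◁ g) ≫ transl A x := by
  apply CartesianMonoidalCategory.hom_ext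
  · simp [transl, comp_mul]
  · simp [transl]

theorem exists_bc (g : U ⟶ V) (u : thetaPts A L V) :
    ∃ β : thetaPts A L U, pt β = g ≫ pt u ∧ β.1.hom ≫ bcLift A L g = bcLift A L g ≫ u.1.hom := by
  haveI := cart_hom u
  refine exists_pts _ _ _ ?_
  rw [CoGrothendieck.categoryStruct_comp_base, base_eq]
  show _ ≫ (A ◁ g).left = (A ◁ g).left ≫ _
  rw [← Over.comp_left, transl_bc, Over.comp_left]

/-- Base change of points. -/
def bc (g : U ⟶ V) (u : thetaPts A L V) : thetaPts A L U := (exists_bc g u).choose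

theorem pt_bc (g : U ⟶ V) (u : thetaPts A L V) : pt (bc g u) = g ≫ pt u := (exists_bc g u).choose_spec.1

theorem bc_comm (g : U ⟶ V) (u : thetaPts A L V) :
    (bc g u).1.hom ≫ bcLift A L g = bcLift A L g ≫ u.1.hom := (exists_bc g u).choose_spec.2

theorem pt_of_isBaseChange {g : U ⟶ V} {β : thetaPts A L U} {u : thetaPts A L V} (h : ThetaGrp.IsBaseChange β g u) :
    pt β = g ≫ pt u := by
  have e := congrArg CoGrothendieck.Hom.base h
  rw [CoGrothendieck.categoryStruct_comp_base, CoGrothendieck.categoryStruct_comp_base, base_eq, base_eq] at e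
  change _ ≫ (A ◁ g).left = (A ◁ g).left ≫ _ at e
  rw [← Over.comp_left, ← Over.comp_left] at e
  have e' := congrArg (fun f => lift (1 : U ⟶ A) (𝟙 U) ≫ f ≫ fst A V) (Over.OverMorphism.ext e)
  simpa [transl, comp_mul] using e'

theorem isBaseChange_iff {g : U ⟶ V} {β : thetaPts A L U} {u : thetaPts A L V} :
    ThetaGrp.IsBaseChange β g u ↔ β = bc g u :=
  ⟨fun h => pts_ext' (bcLift A L g) (by rw [pt_of_isBaseChange h, pt_bc]) (h.trans (bc_comm g u).symm),
    fun h => h ▸ bc_comm g u⟩

theorem bc_mul (g : U ⟶ V) (u v : thetaPts A L V) : bc g (u * v) = bc g u * bc g v :=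
  (isBaseChange_iff.1 (show ThetaGrp.IsBaseChange (bc g u * bc g v) g (u * v) by
    unfold ThetaGrp.IsBaseChange
    rw [mul_hom, mul_hom, Category.assoc, bc_comm, reassoc_of% bc_comm])).symm

theorem bc_one (g : U ⟶ V) : bc g (1 : thetaPts A L V) = 1 :=
  (isBaseChange_iff.1 (show ThetaGrp.IsBaseChange (1 : thetaPts A L U) g 1 by
    unfold ThetaGrp.IsBaseChange
    rw [one_hom, one_hom, Category.id_comp, Category.comp_id])).symm

theorem bc_bc {W : Over S} (g : U ⟶ V) (g' : V ⟶ W) (u : thetaPts A L W) :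
    bc g (bc g' u) = bc (g ≫ g') u :=
  isBaseChange_iff.1 (show ThetaGrp.IsBaseChange (bc g (bc g' u)) (g ≫ g') u by
    unfold ThetaGrp.IsBaseChange
    rw [bcLift_comp, reassoc_of% bc_comm, Category.assoc, bc_comm])

theorem bc_id (u : thetaPts A L T) : bc (𝟙 T) u = u :=
  (isBaseChange_iff.1 (show ThetaGrp.IsBaseChange u (𝟙 T) u by
    unfold ThetaGrp.IsBaseChange
    rw [bcLift_id, Category.comp_id, Category.id_comp])).symm

/-- Base change as a homomorphism. -/
def bcHom (g : U ⟶ V) : thetaPts A L V →* thetaPts A L U := MonoidHom.mk' (bc g) (bc_mul g)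

theorem bc_inv (g : U ⟶ V) (u : thetaPts A L V) : bc g u⁻¹ = (bc g u)⁻¹ := map_inv (bcHom g) u

attribute [irreducible] bc pt

end AVThetaLib
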