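import Groth.Agent.AVThetaLib.Pairing

/-!
Inverse image of points of the theta group along a homomorphism.
-/

set_option autoImplicit false
set_option maxHeartbeats 1000000
set_option maxRecDepth 8000
set_option backward.isDefEq.respectTransparency false
set_option linter.style.haveILetI false
set_option linter.unusedSectionVars false

noncomputable section

universe u

open CategoryTheory CategoryTheory.Limits MonoidalCategory CartesianMonoidalCategory MonObj AlgebraicGeometry
open Pseudofunctor Bicategory ThetaGrp CubeConsLib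
open scoped commutatorElement

namespace AVThetaLib

variable {S : Scheme.{u}} {A B : Over S} [GrpObj A] [GrpObj B] (f : A ⟶ B) [IsMonHom f] (L : B.left.Modules)
  {T U : Over S}

variable (T) in
/-- The inverse image of the pair `(B × T, L_T)` along `f × T`. -/
def qf : thetaObj A ((Scheme.Modules.pullback f.left).obj L) T ⟶ thetaObj B L T :=
  (exists_lift (π B L T) (π A ((Scheme.Modules.pullback f.left).obj L) T ≫ proj f.left L) (f ▷ T).left (by
    show _ ≫ (fst B T).left = (fst A T).left ≫ f.left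
    rw [← Over.comp_left, ← Over.comp_left, whiskerRight_fst])).choose

theorem qf_base (T : Over S) : (qf f L T).base = (f ▷ T).left := by
  unfold qf
  generalize_proofs h
  exact h.choose_spec.1

theorem qf_π (T : Over S) :
    qf f L T ≫ π B L T = π A ((Scheme.Modules.pullback f.left).obj L) T ≫ proj f.left L := by
  unfold qf
  generalize_proofs h
  exact h.choose_spec.2

instance cart_qf (T : Over S) : Cart (qf f L T) :=
  @cart_of_comp _ _ _ _ _ _ (qf f L T) (π B L T) _ (by rw [qf_π]; infer_instance)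

theorem qf_natural (g : U ⟶ T) :
    bcLift A ((Scheme.Modules.pullback f.left).obj L) g ≫ qf f L T = qf f L U ≫ bcLift B L g := by
  refine cancel (π B L T) ?_ ?_
  · rw [CoGrothendieck.categoryStruct_comp_base, CoGrothendieck.categoryStruct_comp_base, qf_base, qf_base]
    show (A ◁ g).left ≫ (f ▷ T).left = (f ▷ U).left ≫ (B ◁ g).left
    rw [← Over.comp_left, ← Over.comp_left, MonoidalCategory.whisker_exchange]
  · rw [Category.assoc, qf_π, Category.assoc, bcLift_π, qf_π, ← Category.assoc, bcLift_π]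

theorem transl_whisker (x : T ⟶ A) : transl A x ≫ f ▷ T = f ▷ T ≫ transl B (x ≫ f) := by
  apply CartesianMonoidalCategory.hom_ext
  · simp [transl, comp_mul, mul_comp]
  · simp [transl]

variable {f L}

/-- `α'` is the inverse image of `α`. -/
def Pushes (α' : thetaPts A ((Scheme.Modules.pullback f.left).obj L) T) (α : thetaPts B L T) : Prop :=
  α'.1.hom ≫ qf f L T = qf f L T ≫ α.1.hom

theorem Pushes.mul {α' β' : thetaPts A ((Scheme.Modules.pullback f.left).obj L) T} {α β : thetaPts B L T}
    (ha : Pushes α' α) (hb : Pushes β' β) : Pushes (α' * β') (α * β) := by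
  unfold Pushes at *
  rw [mul_hom, mul_hom, Category.assoc, ha, reassoc_of% hb]

theorem Pushes.inv {α' : thetaPts A ((Scheme.Modules.pullback f.left).obj L) T} {α : thetaPts B L T}
    (ha : Pushes α' α) : Pushes α'⁻¹ α⁻¹ := by
  unfold Pushes at *
  show α'.1.inv ≫ _ = _ ≫ α.1.inv
  rw [Iso.inv_comp_eq, ← Category.assoc, Iso.eq_comp_inv, ha]

theorem Pushes.commutator {α' β' : thetaPts A ((Scheme.Modules.pullback f.left).obj L) T} {α β : thetaPts B L T}
    (ha : Pushes α' α) (hb : Pushes β' β) : Pushes ⁅α', β'⁆ ⁅α, β⁆ :=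
  ((ha.mul hb).mul ha.inv).mul hb.inv

theorem exists_pushes (α : thetaPts B L T) (x : T ⟶ A) (hx : pt α = x ≫ f) :
    ∃ α' : thetaPts A ((Scheme.Modules.pullback f.left).obj L) T, pt α' = x ∧ Pushes α' α := by
  haveI := cart_hom α
  refine exists_pts (qf f L T) (qf f L T ≫ α.1.hom) x ?_
  rw [CoGrothendieck.categoryStruct_comp_base, qf_base, base_eq, hx, ← Over.comp_left, transl_whisker,
    Over.comp_left]

section Field

variable {k : Type u} [Field k] {A B : Over (Spec (CommRingCat.of k))} [GrpObj A] [GrpObj B]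
  [IsCommMonObj A] [IsCommMonObj B] [IsProper A.hom] [GeometricallyIntegral A.hom]
  [IsProper B.hom] [GeometricallyIntegral B.hom] {f : A ⟶ B} [IsMonHom f] {L : B.left.Modules}
  (hL : PicF.IsInvertible L) {T : Over (Spec (CommRingCat.of k))}

theorem pushes_scal (c : Γ(T.left, ⊤)ˣ) :
    Pushes (scal A ((Scheme.Modules.pullback f.left).obj L) T c) (scal B L T c) := by
  unfold Pushes
  rw [scal_hom, scal_hom]
  refine Eq.trans (congrArg (fun r => sc _ r ≫ qf f L T) ?_) (sc_comm (qf f L T) (pf B T c.1))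
  rw [pf, pf, ← ConcreteCategory.comp_apply, ← Scheme.Hom.comp_appTop, qf_base, ← Over.comp_left, whiskerRight_snd]

include hL in
theorem scal_of_pushes {g : thetaPts A ((Scheme.Modules.pullback f.left).obj L) T} {c : Γ(T.left, ⊤)ˣ}
    (hg : pt g = 1) (h : Pushes g (scal B L T c)) : g = scal A ((Scheme.Modules.pullback f.left).obj L) T c :=
  pts_ext' (qf f L T) (by rw [hg, pt_scal]) (h.trans (pushes_scal c).symm)

include hL in
theorem mumfordZero_pullback {x : T ⟶ A} (hx : MumfordZero hL (x ≫ f)) :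
    MumfordZero (AmpleDevLib.isInvertible_pb f.left hL) x := by
  have h := congrArg (pullA (f ▷ T).left) hx
  simp only [map_add, pullA_P, MonObj.comp_mul, whiskerRight_fst, whiskerRight_snd_assoc] at h
  unfold MumfordZero
  rw [P_pullback hL, P_pullback hL, P_pullback hL, MonObj.mul_comp, Category.assoc]
  exact h

include hL in
theorem IsPairing.pullback {x y : T ⟶ A} {c : Γ(T.left, ⊤)ˣ} (h : IsPairing L (x ≫ f) (y ≫ f) c)
    (hx : MumfordZero hL (x ≫ f)) (hy : MumfordZero hL (y ≫ f)) :
    IsPairing ((Scheme.Modules.pullback f.left).obj L) x y c := by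
  intro U g α' β' hα' hβ'
  refine pts_eq_of_local (AmpleDevLib.isInvertible_pb f.left hL) fun s => ?_
  obtain ⟨V₁, h₁, α, hα⟩ := exists_local_pts hL (mumfordZero_comp hL hx g) s
  obtain ⟨V₂, h₂, β, hβ⟩ := exists_local_pts hL (mumfordZero_comp hL hy g) s
  refine ⟨V₁ ⊓ V₂, ⟨h₁, h₂⟩, ?_⟩
  have hα₁ : pt (bc (ol inf_le_left) α : thetaPts B L (oo (V₁ ⊓ V₂))) = (oi (V₁ ⊓ V₂) ≫ g ≫ x) ≫ f := by
    rw [pt_bc, hα, ← Category.assoc, Category.assoc, Category.assoc]
    exact congrArg (· ≫ g ≫ x ≫ f) (ol_oi _)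
  have hβ₁ : pt (bc (ol inf_le_right) β : thetaPts B L (oo (V₁ ⊓ V₂))) = (oi (V₁ ⊓ V₂) ≫ g ≫ y) ≫ f := by
    rw [pt_bc, hβ, ← Category.assoc, Category.assoc, Category.assoc]
    exact congrArg (· ≫ g ≫ y ≫ f) (ol_oi _)
  obtain ⟨α₀, hα₀, ha⟩ := exists_pushes _ _ hα₁
  obtain ⟨β₀, hβ₀, hb⟩ := exists_pushes _ _ hβ₁
  have key : ⁅α₀, β₀⁆ = scal A _ _ (uP (oi (V₁ ⊓ V₂) ≫ g) c) := by
    refine scal_of_pushes hL (pt_commutator _ _) ?_
    rw [← h _ (oi (V₁ ⊓ V₂) ≫ g) _ _ (by rw [hα₁, Category.assoc, Category.assoc, Category.assoc])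
      (by rw [hβ₁, Category.assoc, Category.assoc, Category.assoc])]
    exact ha.commutator hb
  show bc (oi _) ⁅α', β'⁆ = bc (oi _) _
  rw [bc_commutator, bc_scal, uP_uP, commutator_congr (AmpleDevLib.isInvertible_pb f.left hL) (α' := α₀) (β' := β₀),
    key]
  · rw [pt_bc, hα', hα₀]
  · rw [pt_bc, hβ', hβ₀]

end Field

end AVThetaLib
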