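import Groth.Agent.AVThetaLib.Locus
import Groth.Agent.AVThetaLib.Desc

/-!
The radical of the commutator pairing on `K(L)`.
-/

set_option autoImplicit false
set_option maxHeartbeats 1000000
set_option maxRecDepth 8000
set_option backward.isDefEq.respectTransparency false
set_option linter.style.haveILetI false
set_option linter.unusedSectionVars false

noncomputable section

universe u

open CategoryTheory CategoryTheory.Limits MonoidalCategory CartesianMonoidalCategory MonObj AlgebraicGeometry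
open Pseudofunctor Bicategory ThetaGrp CubeConsLib
open scoped commutatorElement

namespace AVThetaLib

variable {k : Type u} [Field k] {A : Over (Spec (CommRingCat.of k))} [GrpObj A] [IsCommMonObj A] [IsProper A.hom]
  [GeometricallyIntegral A.hom] {L : A.left.Modules} (hL : PicF.IsInvertible L)
  {K : Over (Spec (CommRingCat.of k))} {iK : K ⟶ A} (hK : IsKL A L iK) {T : Over (Spec (CommRingCat.of k))}

include hL hK in
theorem factors_iff {x : T ⟶ A} : (∃ y : T ⟶ K, y ≫ iK = x) ↔ MumfordZero hL x :=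
  ⟨mumfordZero_of_factors hL hK, fun h => (hK.univ T x).1 ((mumfordTriv_iff hL x).2 h)⟩

include hL hK in
theorem factors_mul {x y : T ⟶ A} (hx : ∃ x' : T ⟶ K, x' ≫ iK = x) (hy : ∃ y' : T ⟶ K, y' ≫ iK = y) :
    ∃ z : T ⟶ K, z ≫ iK = x * y := by
  refine factors_of_local_pts hL hK _ fun t => ?_
  obtain ⟨V, htV, α, hα⟩ := exists_local_pts hL (mumfordZero_of_factors hL hK hx) t
  obtain ⟨W, htW, β, hβ⟩ := exists_local_pts hL (mumfordZero_of_factors hL hK hy) t
  refine ⟨V ⊓ W, ⟨htV, htW⟩, bc (ol inf_le_right) β * bc (ol inf_le_left) α, ?_⟩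
  rw [pt_mul, pt_bc, pt_bc, hα, hβ, MonObj.comp_mul, ← Category.assoc, ← Category.assoc]
  congr 1
  · exact congrArg (· ≫ x) (ol_oi _)
  · exact congrArg (· ≫ y) (ol_oi _)

include hL hK in
theorem factors_inv {x : T ⟶ A} (hx : ∃ x' : T ⟶ K, x' ≫ iK = x) : ∃ z : T ⟶ K, z ≫ iK = x⁻¹ := by
  refine factors_of_local_pts hL hK _ fun t => ?_
  obtain ⟨V, htV, α, hα⟩ := exists_local_pts hL (mumfordZero_of_factors hL hK hx) t
  exact ⟨V, htV, α⁻¹, by rw [pt_inv, hα, GrpObj.comp_inv]⟩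

include hL hK in
theorem factors_one : ∃ z : T ⟶ K, z ≫ iK = 1 :=
  (factors_iff hL hK).2 (by simpa only [pt_one] using mumfordZero_of_pts hL (1 : thetaPts A L T))

include hL in
theorem isPerpPt_one {H : Over (Spec (CommRingCat.of k))} {iH : H ⟶ A} : IsPerpPt L iH (1 : T ⟶ A) :=
  fun T' t y β₁ β₂ h₁ _ => (central_of_pt hL (by rw [pt_eq_of_isOverPt h₁, MonObj.comp_one]) β₂).symm

include hL in
theorem isPerpPt_inv {H : Over (Spec (CommRingCat.of k))} {iH : H ⟶ A} {x : T ⟶ A} (h : IsPerpPt L iH x) :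
    IsPerpPt L iH x⁻¹ := fun T' t y β₁ β₂ h₁ h₂ => by
  have hc : Commute β₁⁻¹ β₂ := h T' t y β₁⁻¹ β₂
    (isOverPt_iff.2 (by rw [pt_inv, pt_eq_of_isOverPt h₁, GrpObj.comp_inv, inv_inv])) h₂
  simpa using hc.inv_left.eq

include hL in
theorem isPerpPt_mul {H : Over (Spec (CommRingCat.of k))} {iH : H ⟶ A} {x y : T ⟶ A} (hzx : MumfordZero hL x)
    (hx : IsPerpPt L iH x) (hy : IsPerpPt L iH y) : IsPerpPt L iH (x * y) := fun T' t z β₁ β₂ h₁ h₂ => by
  rw [← commutatorElement_eq_one_iff_mul_comm]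
  refine pts_eq_of_local hL fun s => ?_
  obtain ⟨V, hsV, a, ha⟩ := exists_local_pts hL (mumfordZero_comp hL hzx t) s
  refine ⟨V, hsV, ?_⟩
  show bc (oi V) ⁅β₁, β₂⁆ = bc (oi V) 1
  have hp₁ : pt (bc (oi V) β₁) = ((oi V ≫ t) ≫ x) * ((oi V ≫ t) ≫ y) := by
    rw [pt_bc, pt_eq_of_isOverPt h₁, Category.assoc, Category.assoc, MonObj.comp_mul, MonObj.comp_mul]
  let b := bc (oi V) β₁ * a⁻¹
  have hb : pt b = (oi V ≫ t) ≫ y := by
    rw [pt_mul, pt_inv, hp₁, ha, show (oi V : oo V ⟶ T') ≫ t ≫ x = (oi V ≫ t) ≫ x from (Category.assoc _ _ _).symm,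
      inv_mul_cancel_left]
  have ha' : pt a = (oi V ≫ t) ≫ x := by rw [ha]; exact (Category.assoc _ _ _).symm
  have h2 : pt (bc (oi V) β₂) = (oi V ≫ z) ≫ iH := by rw [pt_bc, pt_eq_of_isOverPt h₂, Category.assoc]
  rw [bc_commutator, bc_one, commutatorElement_eq_one_iff_mul_comm, show bc (oi V) β₁ = b * a from
    (inv_mul_cancel_right _ _).symm]
  have c1 : Commute a (bc (oi V) β₂) := hx _ _ (oi V ≫ z) _ _ (isOverPt_iff.2 ha') (isOverPt_iff.2 h2)
  have c2 : Commute b (bc (oi V) β₂) := hy _ _ (oi V ≫ z) _ _ (isOverPt_iff.2 hb) (isOverPt_iff.2 h2)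
  exact (c2.mul_left c1).eq

include hL hK in
/-- The radical of the commutator pairing is a closed subgroup. -/
theorem exists_radical [IsFinite K.hom] :
    ∃ (R : Over (Spec (CommRingCat.of k))) (_ : GrpObj R) (iR : R ⟶ A) (_ : IsMonHom iR)
      (_ : IsClosedImmersion iR.left) (_ : IsFinite R.hom), MumfordZero hL iR ∧ IsIsotropic L iR ∧
      (∀ (T : Over (Spec (CommRingCat.of k))) (y : T ⟶ K), IsPerpPt L iK (y ≫ iK) →
        ∃ z : T ⟶ R, z ≫ iR = y ≫ iK) ∧
      ∀ (T : Over (Spec (CommRingCat.of k))) (x : T ⟶ K), IsPerpPt L iR (x ≫ iK) := by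
  haveI := hK.closed
  haveI : Mono iK := Over.mono_of_mono_left _
  have hz : ∀ {T : Over (Spec (CommRingCat.of k))} (y : T ⟶ K), MumfordZero hL (y ≫ iK) := fun y =>
    mumfordZero_of_factors hL hK ⟨y, rfl⟩
  obtain ⟨c, hc⟩ := exists_pairing hL (hz (fst K K)) (hz (snd K K))
  obtain ⟨R, jR, hcl, hR0, hRuniv⟩ := exists_zero_locus ((c : Γ((K ⊗ K).left, ⊤)) - 1)
  have hperp : ∀ {T : Over (Spec (CommRingCat.of k))} (w : T ⟶ R), IsPerpPt L iK ((w ≫ jR) ≫ iK) := by
    intro T w T' t y β₁ β₂ h₁ h₂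
    have hc1 := hc.comp (lift (t ≫ w ≫ jR) y)
    rw [← Category.assoc (lift (t ≫ w ≫ jR) y), ← Category.assoc (lift (t ≫ w ≫ jR) y), lift_fst, lift_snd] at hc1
    have e1 : uP (lift (t ≫ w ≫ jR) y) c = 1 := by
      refine Units.ext (sub_eq_zero.1 ?_)
      have e := congrArg (pullΓ (lift (t ≫ w) y)) hR0
      rw [← pullΓ_comp, map_zero, lift_whiskerRight, Category.assoc, map_sub, map_one] at e
      exact e
    rw [e1] at hc1
    exact hc1.commute hL β₁ β₂ (by rw [pt_eq_of_isOverPt h₁]; simp only [Category.assoc]) (pt_eq_of_isOverPt h₂)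
  have huniv : ∀ {T : Over (Spec (CommRingCat.of k))} (y : T ⟶ K), IsPerpPt L iK (y ≫ iK) →
      ∃ w : T ⟶ R, w ≫ jR = y := fun {T} y hy => by
    refine hRuniv T y ?_
    have hc1 := hc.comp (y ▷ K)
    rw [← Category.assoc (y ▷ K), ← Category.assoc (y ▷ K), whiskerRight_fst, whiskerRight_snd] at hc1
    have h1 : IsPairing L ((fst T K ≫ y) ≫ iK) (snd T K ≫ iK) 1 := fun U g α β hα hβ => by
      rw [map_one, map_one, commutatorElement_eq_one_iff_mul_comm]
      exact hy U (g ≫ fst T K) (g ≫ snd T K) α β (isOverPt_iff.2 (by rw [hα]; simp only [Category.assoc]))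
        (isOverPt_iff.2 (by rw [hβ]; simp only [Category.assoc]))
    have e := congrArg Units.val (pairing_unique hL (hz _) (hz _) hc1 h1)
    rw [map_sub, map_one, sub_eq_zero]
    exact e
  haveI : IsClosedImmersion jR.left := hcl
  haveI : Mono jR := Over.mono_of_mono_left _
  let iR : R ⟶ A := jR ≫ iK
  haveI : Mono iR := inferInstanceAs (Mono (jR ≫ iK))
  have hmem : ∀ {T : Over (Spec (CommRingCat.of k))} (x : T ⟶ A),
      ((∃ y : T ⟶ K, y ≫ iK = x) ∧ IsPerpPt L iK x) ↔ ∃ w : T ⟶ R, w ≫ iR = x := fun {T} x => by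
    constructor
    · rintro ⟨⟨y, rfl⟩, hy⟩
      obtain ⟨w, hw⟩ := huniv y hy
      exact ⟨w, by rw [← Category.assoc, hw]⟩
    · rintro ⟨w, rfl⟩
      exact ⟨⟨w ≫ jR, Category.assoc _ _ _⟩, by
        rw [show w ≫ iR = (w ≫ jR) ≫ iK from (Category.assoc _ _ _).symm]
        exact hperp w⟩
  let Sub : ∀ T : Over (Spec (CommRingCat.of k)), Subgroup (T ⟶ A) := fun T =>
    { carrier := {x | (∃ y : T ⟶ K, y ≫ iK = x) ∧ IsPerpPt L iK x}
      one_mem' := ⟨factors_one hL hK, isPerpPt_one hL⟩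
      mul_mem' := fun {a b} ha hb =>
        ⟨factors_mul hL hK ha.1 hb.1, isPerpPt_mul hL (mumfordZero_of_factors hL hK ha.1) ha.2 hb.2⟩
      inv_mem' := fun {a} ha => ⟨factors_inv hL hK ha.1, isPerpPt_inv hL ha.2⟩ }
  let Φ : (Over (Spec (CommRingCat.of k)))ᵒᵖ ⥤ GrpCat.{u} :=
    { obj := fun T => GrpCat.of (Sub T.unop)
      map := fun {T U} g => GrpCat.ofHom (MonoidHom.mk' (fun x => ⟨g.unop ≫ x.1, (hmem _).2 (by
          obtain ⟨w, hw⟩ := (hmem _).1 x.2
          exact ⟨g.unop ≫ w, by rw [Category.assoc, hw]⟩)⟩)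
        fun x y => Subtype.ext (MonObj.comp_mul _ _ _))
      map_id := fun T => GrpCat.hom_ext (MonoidHom.ext fun x => Subtype.ext (Category.id_comp x.1))
      map_comp := fun g h => GrpCat.hom_ext (MonoidHom.ext fun x => Subtype.ext (Category.assoc _ _ _)) }
  let α : (Φ ⋙ forget _).RepresentableBy R :=
    { homEquiv := fun {T} => Equiv.ofBijective (fun w => (⟨w ≫ iR, (hmem _).2 ⟨w, rfl⟩⟩ : Sub T))
        ⟨fun a b h => (cancel_mono iR).1 (congrArg Subtype.val h), fun x => by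
          obtain ⟨w, hw⟩ := (hmem _).1 x.2
          exact ⟨w, Subtype.ext hw⟩⟩
      homEquiv_comp := fun h g => Subtype.ext (Category.assoc _ _ _) }
  letI grp : GrpObj R := GrpObj.ofRepresentableBy R Φ α
  haveI : IsClosedImmersion iR.left := inferInstanceAs (IsClosedImmersion (jR.left ≫ iK.left))
  haveI : IsFinite R.hom := by rw [← Over.w jR]; infer_instance
  have hμ : μ[R] ≫ iR = (fst R R ≫ iR) * (snd R R ≫ iR) :=
    congrArg Subtype.val (Equiv.apply_symm_apply (α.homEquiv (X := R ⊗ R)) _)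
  haveI : IsMonHom iR := isMonHom_of_mul iR fun T x y => by
    rw [Hom.mul_def, Category.assoc, hμ, MonObj.comp_mul, lift_fst_assoc, lift_snd_assoc]
  refine ⟨R, grp, iR, inferInstance, inferInstance, inferInstance, mumfordZero_of_factors hL hK ⟨jR, rfl⟩,
    fun T x y β₁ β₂ h₁ h₂ => ?_, fun T y hy => (hmem _).1 ⟨⟨y, rfl⟩, hy⟩, fun T x T' t y β₁ β₂ h₁ h₂ => ?_⟩
  · exact hperp x T (𝟙 T) (y ≫ jR) β₁ β₂ (isOverPt_iff.2 (by rw [pt_eq_of_isOverPt h₁]; simp [iR]))
      (isOverPt_iff.2 (by rw [pt_eq_of_isOverPt h₂]; simp [iR]))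
  · exact (hperp y T' (𝟙 T') (t ≫ x) β₂ β₁ (isOverPt_iff.2 (by rw [pt_eq_of_isOverPt h₂]; simp [iR]))
      (isOverPt_iff.2 (by rw [pt_eq_of_isOverPt h₁, Category.assoc]))).symm

end AVThetaLib
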