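import Groth.Agent.AVThetaLib.Exist

/-!
Points of the theta group along an isomorphism of modules.
-/

set_option autoImplicit false
set_option maxHeartbeats 1000000
set_option backward.isDefEq.respectTransparency false
set_option linter.style.haveILetI false
set_option linter.unusedSectionVars false

noncomputable section

universe u

open CategoryTheory CategoryTheory.Limits MonoidalCategory CartesianMonoidalCategory MonObj AlgebraicGeometry
open Pseudofunctor Bicategory ThetaGrp CubeConsLib

namespace AVThetaLib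

variable {S : Scheme.{u}} {A : Over S} [GrpObj A] {L L' : A.left.Modules}

theorem exists_mapIso (e : L ≅ L') (T : Over S) :
    ∃ φ : thetaPts A L T →* thetaPts A L' T, Function.Injective φ ∧ ∀ α, pt (φ α) = pt α := by
  let g : thetaObj A L T ⟶ O₀ A L' := π A L T ≫ vert (F := modPF) (B := A.left) e.hom
  haveI : Cart (vert (F := modPF) (B := A.left) e.hom) :=
    ⟨IsIso.comp_isIso' (C := modPF.{u}.obj ⟨Opposite.op A.left⟩) (inferInstanceAs (IsIso e.hom)) inferInstance⟩
  haveI : Cart g := cart_comp _ _
  have hg : g.base = (fst A T).left := by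
    show (π A L T).base ≫ 𝟙 A.left = _
    rw [Category.comp_id]
    rfl
  obtain ⟨l, hl, hlg⟩ := exists_lift (π A L' T) g (𝟙 _) (by rw [π_base, hg, Category.id_comp])
  haveI : Cart l := @cart_of_comp _ _ _ _ _ _ l (π A L' T) _ (hlg ▸ ‹Cart g›)
  haveI : IsIso l.base := by rw [hl]; infer_instance
  haveI := isIso_of_cart l
  let θ : thetaObj A L T ≅ thetaObj A L' T := asIso l
  have hinv : θ.inv.base = 𝟙 _ := by
    have h := congrArg CoGrothendieck.Hom.base θ.inv_hom_id
    rw [CoGrothendieck.categoryStruct_comp_base, show θ.hom.base = 𝟙 _ from hl, Category.comp_id] at h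
    exact h
  have hb : ∀ α : thetaPts A L T, IsOverPt (L := L')
      ⟨θ.conjAut α.1, pt α, by
        rw [Iso.conjAut_hom, Iso.conj_apply, CoGrothendieck.categoryStruct_comp_base,
          CoGrothendieck.categoryStruct_comp_base, hinv, show θ.hom.base = 𝟙 _ from hl, Category.comp_id,
          Category.id_comp, base_eq]⟩ (pt α) := fun α => by
    show (θ.conjAut α.1).hom.base = _
    rw [Iso.conjAut_hom, Iso.conj_apply, CoGrothendieck.categoryStruct_comp_base,
      CoGrothendieck.categoryStruct_comp_base, hinv, show θ.hom.base = 𝟙 _ from hl, Category.comp_id,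
      Category.id_comp, base_eq]
  refine ⟨MonoidHom.mk' (fun α => ⟨θ.conjAut α.1, pt α, hb α⟩) fun α β => Subtype.ext (map_mul θ.conjAut α.1 β.1),
    fun α β h => Subtype.ext (θ.conjAut.injective (congrArg Subtype.val h)), fun α => pt_eq_of_isOverPt (hb α)⟩

/-- Orthogonality only depends on the class of the module. -/
theorem isPerpPt_of_iso (e : L ≅ L') {H : Over S} {iH : H ⟶ A} {T : Over S} {x : T ⟶ A}
    (h : IsPerpPt L iH x) : IsPerpPt L' iH x := fun T' t y β₁ β₂ h₁ h₂ => by
  obtain ⟨φ, hφ, hpt⟩ := exists_mapIso e.symm T'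
  refine hφ ?_
  rw [map_mul, map_mul]
  exact h T' t y _ _ (isOverPt_iff.2 (by rw [hpt, pt_eq_of_isOverPt h₁]))
    (isOverPt_iff.2 (by rw [hpt, pt_eq_of_isOverPt h₂]))

variable {k : Type u} [Field k] {X : Over (Spec (CommRingCat.of k))} [GrpObj X] {M M' : X.left.Modules}

theorem mumfordZero_of_iso (hM : PicF.IsInvertible M) (hM' : PicF.IsInvertible M') (e : M ≅ M')
    {T : Over (Spec (CommRingCat.of k))} {x : T ⟶ X} (h : MumfordZero hM x) : MumfordZero hM' x := by
  have hc : (clA hM : PicA X.left) = clA hM' := (clA_eq_iff hM hM').2 ⟨e⟩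
  unfold MumfordZero P at *
  rw [← hc]
  exact h

end AVThetaLib
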